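import Cfsg.Agent.Lib.FusionProduct.Move

/-!
Local systems inside the product system.
-/

set_option autoImplicit false
set_option linter.style.haveILetI false
set_option linter.unusedSectionVars false

namespace CfsgLib.FusionProduct

open Cfsg Cfsg.FusionSystem CfsgLib.Alperin CfsgLib.FusionSub CfsgLib.FusionBasics

universe u

variable {Ω : Type u} [Group Ω] {S T : Subgroup Ω}

/-- The maps of `D` inside `N`. -/
def within {R : Subgroup Ω} (D : FusionSystem R) {N : Subgroup Ω} (hN : N ≤ R) : FusionSystem N where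
  Hom P := {φ | φ ∈ D.Hom P ∧ P ≤ N ∧ ∀ x, φ x ∈ N}
  le_of_mem h := h.2
  injective_of_mem h := D.injective_of_mem h.1
  conj_mem hP hg := ⟨D.conj_mem (hP.trans hN) (hN hg), hP,
    fun x => N.mul_mem (N.mul_mem hg (hP x.2)) (N.inv_mem hg)⟩
  comp_mem h₁ h₂ h := ⟨D.comp_mem h₁.1 h₂.1 h, h₁.2.1, fun x => h₂.2.2 _⟩
  inv_mem {P φ} h := by
    obtain ⟨θ, hθ, hθx⟩ := D.inv_mem h.1
    refine ⟨θ, ⟨hθ, ?_, ?_⟩, hθx⟩
    · rintro _ ⟨x, rfl⟩
      exact h.2.2 x
    · rintro ⟨_, x, rfl⟩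
      rw [hθx]
      exact h.2.1 x.2

theorem orderOf_congr {G H : Type*} [Group G] [Group H] (e : G ≃* H) (b : MulAut G) :
    orderOf (MulAut.congr e b) = orderOf b :=
  (MulAut.congr e).orderOf_eq b

variable {F : FusionSystem S} {E : FusionSystem T} {p : ℕ} [Fact p.Prime] [Finite S]
  {R : Subgroup Ω}

/-- Coprime automorphisms transported to a local group are realized there. -/
theorem exists_realizing_transport (c : Ctx F E p R) {U U₁ Q : Subgroup Ω} (hU : E.IsCentric U)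
    (l : Loc F E p R U₁) (hUQ : U ≤ Q) {χ : Q →* Ω} (hχF : χ ∈ F.Hom Q) (hr : img χ U = U₁)
    (hN : ∀ x, χ x ∈ normalizerIn R U₁) {b : MulAut Q} (hb : b ∈ F.autGroup Q)
    (hco : (orderOf b).Coprime p) (hmod : ModT T (Q.subtype.comp b.toMonoidHom)) {e : MulAut U}
    (he : e ∈ E.autGroup U) (hbU : ∀ x : U, ((b ⟨x, hUQ x.2⟩ : Q) : Ω) = (e x : U)) :
    ∃ g : l.G, ∀ x : Q, g * l.ι ⟨χ x, hN x⟩ * g⁻¹ = l.ι ⟨χ (b x), hN (b x)⟩ := by
  haveI := c.finT
  have hUT := hU.1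
  set χU := χ.comp (Subgroup.inclusion hUQ) with hχU
  have hχUF : χU ∈ F.Hom U := restrict_mem hχF hUQ
  have hrU : χU.range = U₁ := (img_eq_range χ hUQ).symm.trans hr
  have hU₁c : E.IsCentric U₁ := hrU ▸ isCentric_map c.toSetup hU hχUF
  set Q₁ := χ.range with hQ₁
  set eχ := isoOfHom χ (F.injective_of_mem hχF) hQ₁.symm with heχ
  set eU := isoOfHom χU (F.injective_of_mem hχUF) hrU with heU
  set b₁ := MulAut.congr eχ b with hb₁
  have hb₁x : ∀ x, b₁ (eχ x) = eχ (b x) := fun x => by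
    rw [hb₁, MulAut.congr_apply]
    simp only [MulEquiv.trans_apply, MulEquiv.symm_apply_apply]
  set e₁ := MulAut.congr eU e with he₁
  have he₁x : ∀ x, e₁ (eU x) = eU (e x) := fun x => by
    rw [he₁, MulAut.congr_apply]
    simp only [MulEquiv.trans_apply, MulEquiv.symm_apply_apply]
  have hQ₁N : Q₁ ≤ normalizerIn R U₁ := by
    rintro _ ⟨x, rfl⟩
    exact hN x
  have hU₁Q₁ : U₁ ≤ Q₁ := hr ▸ img_le_range χ U
  have he₁E : e₁ ∈ E.autGroup U₁ := c.aut_transport hUT hχUF hrU he fun x hm => by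
    rw [show (⟨χU x, hm⟩ : U₁) = eU x from Subtype.ext rfl, he₁x]
    rfl
  have hb₁mod : ModT T (Q₁.subtype.comp b₁.toMonoidHom) := c.modT_transport hχF hQ₁.symm hmod
    fun x hm => by
      rw [show (⟨χ x, hm⟩ : Q₁) = eχ x from Subtype.ext rfl, hb₁x]
      rfl
  have hb₁F : b₁ ∈ F.autGroup Q₁ := by
    rw [← autGroup_map_congr hχF hQ₁.symm]
    exact ⟨b, hb, rfl⟩
  have hb₁U : ∀ v : U₁, ((b₁ ⟨v, hU₁Q₁ v.2⟩ : Q₁) : Ω) = (e₁ v : U₁) := fun v => by
    obtain ⟨x, rfl⟩ := eU.surjective v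
    rw [he₁x, show (⟨((eU x : U₁) : Ω), hU₁Q₁ (eU x).2⟩ : Q₁) = eχ ⟨x, hUQ x.2⟩ from
      Subtype.ext rfl, hb₁x]
    exact congrArg χ (Subtype.ext (hbU x))
  have hb₁l : b₁ ∈ l.sys.autGroup Q₁ := l.coprime_aut_mem c.toSetup c.rs hU₁c hU₁Q₁ hQ₁N hb₁F
    (by rw [hb₁, orderOf_congr]; exact hco) hb₁mod he₁E hb₁U
  obtain ⟨g, hg⟩ := l.exists_of_sys_aut hQ₁N hb₁l
  refine ⟨g, fun x => (hg (eχ x)).trans (congrArg l.ι (Subtype.ext ?_))⟩
  exact congrArg (fun v : Q₁ => (v : Ω)) (hb₁x x)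

/-- A coprime automorphism trivial modulo `T` that induces a map of `E` on a centric subgroup
containing its intersection with `T` belongs to the product system. -/
theorem coprime_mem_dSys (c : Ctx F E p R) {U Q : Subgroup Ω} (hU : E.IsCentric U) (hUQ : U ≤ Q)
    (hQT : Q ⊓ T ≤ U) (hQ : Q ≤ normalizerIn R U) {b : MulAut Q} (hb : b ∈ F.autGroup Q)
    (hco : (orderOf b).Coprime p) (hmod : ModT T (Q.subtype.comp b.toMonoidHom)) {e : MulAut U}
    (he : e ∈ E.autGroup U) (hbU : ∀ x : U, ((b ⟨x, hUQ x.2⟩ : Q) : Ω) = (e x : U)) :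
    b ∈ (dSys c).autGroup Q := by
  haveI := c.finT
  have hUT := hU.1
  have hQR : Q ≤ R := hQ.trans (normalizerIn_le R U)
  obtain ⟨χ, hχ, hg, -⟩ := exists_good_image c hUT hUQ hQ
  have hχF := dSys_le_F c _ hχ
  have hU₁c : E.IsCentric (img χ U) := by
    rw [img_eq_range χ hUQ]
    exact isCentric_map c.toSetup hU (restrict_mem hχF hUQ)
  obtain ⟨l⟩ := exists_loc c.toSetup c.tr c.rs hU₁c hg.1
  have hN : ∀ x, χ x ∈ normalizerIn R (img χ U) := fun x =>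
    ⟨((dSys c).le_of_mem hχ).2 x, apply_mem_normalizer_img χ hUQ (hQ x.2).2⟩
  obtain ⟨g, hgx⟩ := exists_realizing_transport c hU l hUQ hχF rfl hN hb hco hmod he hbU
  obtain ⟨θ, hθ, -, hθx, -⟩ := exists_inverse hχ rfl
  have hQ₁N : χ.range ≤ normalizerIn R (img χ U) := by
    rintro _ ⟨x, rfl⟩
    exact hN x
  obtain ⟨φ, hφ, hm, hφe⟩ := l.exists_hom_of_conj hQ₁N g fun y => by
    obtain ⟨x, hx⟩ := y.2
    exact ⟨_, (congrArg (fun v => g * l.ι v * g⁻¹) (Subtype.ext hx.symm)).trans (hgx x)⟩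
  have hQ₁T : χ.range ⊓ T ≤ img χ U := by
    rintro _ ⟨⟨x, rfl⟩, hx⟩
    exact ⟨x, hQT ⟨x.2, mem_of_apply_mem c.closed hχF x hx⟩, rfl⟩
  have hφD : φ ∈ (dSys c).Hom χ.range :=
    dSys_gen c (Or.inr ⟨_, hU₁c, hg, l, img_le_range χ U, hQ₁T, hφ⟩)
  have hval : ∀ x : Q, φ ⟨χ x, ⟨x, rfl⟩⟩ = χ (b x) := fun x =>
    congrArg (fun v : ↥(normalizerIn R (img χ U)) => (v : Ω))
      (l.inj ((hφe ⟨χ x, ⟨x, rfl⟩⟩).symm.trans (hgx x)))
  rw [mem_autGroup_iff _ hQR]
  refine comp_mem_apply ((dSys c).comp_mem hχ hφD fun x => ⟨x, rfl⟩) hθ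
    (fun x => ⟨b x, (hval x).symm⟩) fun x => ?_
  show ((b x : Q) : Ω) = θ ⟨φ ⟨χ x, _⟩, _⟩
  rw [← hθx (b x) ⟨_, rfl⟩]
  exact congrArg θ (Subtype.ext (hval x).symm)

theorem Loc.conj_mem_T {U : Subgroup Ω} (l : Loc F E p R U) {g : l.G} (hg : g ∈ l.J)
    {x y : ↥(normalizerIn R U)} (h : g * l.ι x * g⁻¹ = l.ι y) : (x : Ω)⁻¹ * y ∈ T := by
  refine (l.inter (x⁻¹ * y)).mp ?_
  rw [map_mul, map_inv, ← h]
  have := l.normal.conj_mem g hg (l.ι x)⁻¹
  rw [inv_inv] at this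
  simpa [mul_assoc] using l.J.mul_mem this (l.J.inv_mem hg)

/-- A coprime automorphism of a local system is realized by an element of `J`. -/
theorem Loc.exists_J_realizing (c : Ctx F E p R) {U : Subgroup Ω} (l : Loc F E p R U)
    {Q : Subgroup Ω} (hQN : Q ≤ normalizerIn R U) {b : MulAut Q} (hb : b ∈ l.sys.autGroup Q)
    (hco : (orderOf b).Coprime p) :
    ∃ g ∈ l.J, ∀ x : Q, g * l.ι ⟨x, hQN x.2⟩ * g⁻¹ = l.ι ⟨(b x : Q), hQN (b x).2⟩ := by
  obtain ⟨g, hg⟩ := l.exists_of_sys_aut hQN hb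
  haveI := l.normal
  haveI : Finite (normalizerIn R U) := finite_of_le ((normalizerIn_le R U).trans c.rs)
  haveI : Finite Q := finite_of_le ((hQN.trans (normalizerIn_le R U)).trans c.rs)
  have hpow : ∀ i : ℕ, ∀ x : Q, g ^ i * l.ι ⟨x, hQN x.2⟩ * (g ^ i)⁻¹ =
      l.ι ⟨((b ^ i) x : Q), hQN ((b ^ i) x).2⟩ := by
    intro i
    induction i with
    | zero => intro x; simp
    | succ i ih =>
      intro x
      simp only [pow_succ', mul_inv_rev, MulAut.mul_apply]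
      rw [← hg, ← ih]
      group
  obtain ⟨k, hk⟩ : ∃ k : ℕ, g ^ p ^ k ∈ l.J := by
    obtain ⟨j, hj, m, rfl⟩ := l.decomp g
    obtain ⟨k, hk⟩ := (isPGroup_of_le c.isP ((normalizerIn_le R U).trans c.rs)) m
    refine ⟨k, ?_⟩
    have := mul_pow_mem (a := l.ι m) hj (fun x hx => l.normal.conj_mem x hx _) (p ^ k)
    rwa [← map_pow, hk, map_one, inv_one, mul_one] at this
  obtain ⟨i, hi⟩ := exists_pow_eq_self_of_coprime (x := b) (n := p ^ k) (hco.symm.pow_left k)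
  rw [← pow_mul] at hi
  exact ⟨g ^ (p ^ k * i), by rw [pow_mul]; exact l.J.pow_mem hk i, fun x => by rw [hpow, hi]⟩

/-- Local systems lie in the product system. -/
theorem locSys_le_dSys (c : Ctx F E p R) {U : Subgroup Ω} (hU : E.IsCentric U)
    (l : Loc F E p R U) : l.sys.IsSubsystemOf (dSys c) := by
  haveI := c.finT
  suffices h : l.sys.IsSubsystemOf (within (dSys c) (normalizerIn_le R U)) from
    fun P φ hφ => (h P hφ).1
  refine locSys_le c hU.1 l _ fun Q hUQ hQN b hb hco => ?_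
  have hUT := hU.1
  have hUN : U ≤ normalizerIn R U := le_normalizerIn (hUT.trans c.tr)
  obtain ⟨g', hg'J, hg'x⟩ := l.exists_J_realizing c hQN hb hco
  have hmod : ModT T (Q.subtype.comp b.toMonoidHom) := fun x => l.conj_mem_T hg'J (hg'x x)
  -- the part inside `T`
  set W := Q ⊓ T with hW
  have hUW : U ≤ W := le_inf hUQ hUT
  have hWN : W ≤ normalizerIn T U := fun x hx => ⟨hx.2, (hQN hx.1).2⟩
  haveI := finite_of_le (S := T) (inf_le_right : W ≤ T)
  have hbW : ∀ x : Q, (x : Ω) ∈ T ↔ ((b x : Q) : Ω) ∈ T := fun x => by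
    have h := hmod x
    constructor <;> intro hx
    · have := T.mul_mem hx h
      rwa [show (x : Ω) * ((x : Ω)⁻¹ * (Q.subtype.comp b.toMonoidHom) x) = (b x : Q) by simp] at this
    · have := T.mul_mem (hx : (Q.subtype.comp b.toMonoidHom) x ∈ T) (T.inv_mem h)
      simpa [mul_assoc] using this
  let ιW : W →* Q := Subgroup.inclusion inf_le_left
  let bW : MulAut W :=
    { toFun := fun x => ⟨b (ιW x), (b _).2, (hbW (ιW x)).mp x.2.2⟩
      invFun := fun x => ⟨b.symm (ιW x), (b.symm _).2,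
        (hbW _).mpr (by rw [MulEquiv.apply_symm_apply]; exact x.2.2)⟩
      left_inv := fun x => Subtype.ext (congrArg (fun v : Q => (v : Ω)) (b.symm_apply_apply (ιW x)))
      right_inv := fun x => Subtype.ext (congrArg (fun v : Q => (v : Ω)) (b.apply_symm_apply (ιW x)))
      map_mul' := fun x y => Subtype.ext (congrArg (fun v : Q => (v : Ω)) (map_mul b (ιW x) (ιW y))) }
  have hQR : Q ≤ R := hQN.trans (normalizerIn_le R U)
  have hbF : b ∈ F.autGroup Q := autGroup_mono l.sys_le_F Q hb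
  have hbWF : bW ∈ F.autGroup W := by
    rw [mem_autGroup_iff F ((inf_le_left : W ≤ Q).trans (hQR.trans c.rs))]
    exact restrict_mem_apply ((mem_autGroup_iff F (hQR.trans c.rs)).mp hbF) inf_le_left fun x => rfl
  have hbWpow : ∀ (n : ℕ) (x : W), (((bW ^ n) x : W) : Ω) = ((b ^ n) (ιW x) : Q) := by
    intro n
    induction n with
    | zero => intro x; simp [ιW]
    | succ n ih =>
      intro x
      rw [pow_succ', pow_succ', MulAut.mul_apply, MulAut.mul_apply]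
      exact congrArg (fun v : Q => ((b v : Q) : Ω)) (Subtype.ext (ih x))
  have hcoW : (orderOf bW).Coprime p := hco.coprime_dvd_left (orderOf_dvd_of_pow_eq_one
    (MulEquiv.ext fun x => Subtype.ext (by rw [hbWpow, pow_orderOf_eq_one]; rfl)))
  have hbU : ∀ x : U, ((b ⟨x, hUQ x.2⟩ : Q) : Ω) = (l.ρ g' x : U) := fun x =>
    l.apply_eq_rho (φ := Q.subtype.comp b.toMonoidHom) (hm := fun x => hQN (b x).2) hQN hUN hg'x _ x.2
  have hbWE : bW ∈ E.autGroup W := c.mem_aut_of_restrict hU hUW hWN hbWF hcoW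
    (fun x hx => by
      show ((b (ιW x) : Q) : Ω) ∈ U
      rw [show ιW x = ⟨((⟨x, hx⟩ : U) : Ω), hUQ hx⟩ from rfl, hbU]
      exact (l.ρ g' _).2)
    (mem_of_apply_eq ((mem_autGroup_iff E hUT).mp (l.rhoJ g' hg'J)) fun x => hbU x)
  have hWc : E.IsCentric W := isCentric_of_le hU hUW inf_le_right
  have hQW : Q ≤ normalizerIn R W := fun x hx => ⟨hQR hx,
    Subgroup.mem_normalizer_iff.mpr fun y => by
      have key : ∀ z ∈ Q, ∀ y ∈ W, z * y * z⁻¹ ∈ W := fun z hz y hy =>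
        ⟨Q.mul_mem (Q.mul_mem hz hy.1) (Q.inv_mem hz), c.conj_mem (c.rs (hQR hz)) hy.2⟩
      refine ⟨key x hx y, fun h => ?_⟩
      have := key x⁻¹ (Q.inv_mem hx) _ h
      simpa [mul_assoc] using this⟩
  have hD := coprime_mem_dSys c hWc inf_le_left le_rfl hQW hbF hco hmod hbWE fun x => rfl
  rw [mem_autGroup_iff _ hQN]
  exact ⟨(mem_autGroup_iff _ hQR).mp hD, hQN, fun x => hQN (b x).2⟩

end CfsgLib.FusionProduct
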