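import Cfsg.Agent.Lib.FusionProduct.Saturated
import Cfsg.Agent.Lib.FusionSub.Residual
import Cfsg.Agent.Lib.FusionBasics.PPower.Main

/-!
The subsystem `E` has `p`-power index in the product system.
-/

set_option autoImplicit false
set_option linter.style.haveILetI false
set_option linter.unusedSectionVars false

namespace CfsgLib.FusionProduct

open Cfsg Cfsg.FusionSystem CfsgLib.Alperin CfsgLib.FusionSub CfsgLib.FusionBasics

universe u

variable {Ω : Type u} [Group Ω] {S T : Subgroup Ω}
  {F : FusionSystem S} {E : FusionSystem T} {p : ℕ} [Fact p.Prime] [Finite S] {R : Subgroup Ω}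

/-- A coprime automorphism of the ambient system agrees with the trivial element of `R`. -/
theorem coprime_cWith_one (c : Ctx F E p R) {P : Subgroup Ω} (hP : P ≤ R) {α : MulAut P}
    (hα : α ∈ (cSys c.toSetup c.rs).autGroup P) (hco : (orderOf α).Coprime p) :
    CWith E R 1 (P.subtype.comp α.toMonoidHom) := by
  obtain ⟨hαF, -, -, s, hs⟩ := (mem_autGroup_iff (cSys c.toSetup c.rs) hP).mp hα
  have hone : CWith E R 1 P.subtype := by
    rw [show P.subtype = conjHom P (1 : Ω) from MonoidHom.ext fun x => by simp [conjHom_apply]]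
    exact cWith_conj c.toSetup c.rs hP R.one_mem
  have hpow : ∀ i : ℕ, (P.subtype.comp (α ^ i).toMonoidHom) ∈ F.Hom P ∧
      CWith E R (s ^ i) (P.subtype.comp (α ^ i).toMonoidHom) := by
    intro i
    induction i with
    | zero =>
      rw [pow_zero, pow_zero]
      exact ⟨incl_mem F (hP.trans c.rs), hone⟩
    | succ i ih =>
      refine ⟨?_, ?_⟩
      · exact (mem_autGroup_iff F (hP.trans c.rs)).mp (Subgroup.pow_mem _
          ((mem_autGroup_iff F (hP.trans c.rs)).mpr hαF) _)
      · rw [pow_succ' s]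
        refine CWith.comp c.toSetup c.rs ih.2 hs ih.1 (fun x => ((α ^ i) x).2) fun x => ?_
        show (((α ^ (i + 1)) x : P) : Ω) = _
        rw [pow_succ', MulAut.mul_apply]
        rfl
  obtain ⟨k, hk⟩ := exists_pow_eq_one (isPGroup_of_le c.isP c.rs) hs.1
  obtain ⟨i, hi⟩ := exists_pow_eq_self_of_coprime (x := α) (n := p ^ k) (hco.symm.pow_left k)
  have h := (hpow (p ^ k * i)).2
  rwa [pow_mul, hk, one_pow, pow_mul, hi] at h

theorem dSys_hyperfocal_le (c : Ctx F E p R) : (dSys c).hyperfocalSubgroup p ≤ T := by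
  refine (Subgroup.closure_le _).mpr ?_
  rintro _ ⟨P, α, x, hP, hα, rfl⟩
  let M : Subgroup ((dSys c).autGroup P) :=
    { carrier := {β | ∀ x : P, (x : Ω)⁻¹ * ((β : MulAut P) x : P) ∈ T}
      one_mem' := fun x => by simp
      mul_mem' := fun {β γ} hβ hγ x => by
        have := T.mul_mem (hγ x) (hβ ((γ : MulAut P) x))
        simpa [mul_assoc] using this
      inv_mem' := fun {β} hβ x => by
        simpa using T.inv_mem (hβ ((β : MulAut P)⁻¹ x)) }
  suffices h : pResidual p ((dSys c).autGroup P) ≤ M from h hα x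
  refine (Subgroup.closure_le _).mpr fun β hβ => ?_
  intro y
  have hβC := autGroup_mono (dSys_le_cSys c) P β.2
  have h := (coprime_cWith_one c hP hβC
    (by rw [Subgroup.orderOf_coe]; exact hβ)).2.1 y
  simpa using h

theorem coprime_mem_autGroup (c : Ctx F E p R) {P : Subgroup Ω} (hP : P ≤ T) {α : MulAut P}
    (hα : α ∈ (cSys c.toSetup c.rs).autGroup P) (hco : (orderOf α).Coprime p) :
    α ∈ E.autGroup P := by
  obtain ⟨-, -, e, he, hex⟩ := coprime_cWith_one c (hP.trans c.tr) hα hco
  refine (mem_autGroup_iff E hP).mpr (restrict_mem_apply he (le_inf le_rfl hP) fun x => ?_)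
  rw [hex x (hP x.2)]
  group

theorem dSys_pPowerIndex (c : Ctx F E p R) : E.HasPPowerIndexIn (dSys c) p := by
  refine ⟨le_dSys c, dSys_hyperfocal_le c, fun P hP => ?_⟩
  rw [pResidual, MonoidHom.map_closure]
  refine (Subgroup.closure_le _).mpr ?_
  rintro _ ⟨β, hβ, rfl⟩
  haveI := c.finT
  exact coprime_mem_autGroup c hP (autGroup_mono (dSys_le_cSys c) P β.2)
    (by
      show Nat.Coprime (orderOf (β : MulAut P)) p
      rw [Subgroup.orderOf_coe]
      exact hβ)

section Residual

variable {V : Subgroup Ω}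

/-- Systems of `p`-power index compose. -/
theorem pPowerIndex_trans [Finite R] [Finite T] {D : FusionSystem R} {E' : FusionSystem T} {E₁ : FusionSystem V}
    (hTV : V ≤ T) (h : E'.HasPPowerIndexIn D p) (h₁ : E₁.HasPPowerIndexIn E' p)
    (hhyp : D.hyperfocalSubgroup p ≤ V) : E₁.HasPPowerIndexIn D p := by
  refine ⟨fun P φ hφ => h.1 P (h₁.1 P hφ), hhyp, fun P hP => ?_⟩
  rw [pResidual, MonoidHom.map_closure]
  refine (Subgroup.closure_le _).mpr ?_
  rintro _ ⟨β, hβ, rfl⟩
  have hco : (orderOf (β : MulAut P)).Coprime p := by rwa [Subgroup.orderOf_coe]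
  exact pPrime_mem_of_hasPPowerIndexIn h₁ hP
    (pPrime_mem_of_hasPPowerIndexIn h (hP.trans hTV) β.2 hco) hco

theorem hom_eq_of_eq {D : FusionSystem R} (hR : IsPGroup p R) [Finite R] {H H' : Subgroup Ω}
    (hH : H = H') {A : FusionSystem H} {B : FusionSystem H'} (hA : A.IsSaturated p)
    (hA' : A.HasPPowerIndexIn D p) (hB : B.IsSaturated p) (hB' : B.HasPPowerIndexIn D p)
    (P : Subgroup Ω) : A.Hom P = B.Hom P := by
  subst hH
  rw [pPowerIndex_unique hR hA hA' hB hB']

/-- A subsystem of `p`-power index has the same `p`-residual. -/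
theorem residual_hom_eq {D : FusionSystem R} (hR : IsPGroup p R) [Finite R]
    (h : E.HasPPowerIndexIn D p) (D₁ : FusionSystem (D.hyperfocalSubgroup p))
    (E₁ : FusionSystem (E.hyperfocalSubgroup p)) (hD₁ : D.IsPResidual p D₁)
    (hE₁ : E.IsPResidual p E₁) (P : Subgroup Ω) : D₁.Hom P = E₁.Hom P := by
  haveI : Finite T := finite_of_le (CfsgLib.FusionSub.subsystem_le h.1)
  have hhyp := hyperfocal_eq_of_pPowerIndex hR h
  exact hom_eq_of_eq hR hhyp.symm hD₁.1 hD₁.2 hE₁.1
    (pPowerIndex_trans (CfsgLib.FusionSub.hyperfocal_le E p) h hE₁.2 hhyp.ge) P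

end Residual

end CfsgLib.FusionProduct
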