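import Cfsg.Agent.Lib.FusionProduct.Tame
import Cfsg.Agent.Lib.FusionBasics.Criterion.Main

/-!
The product system is saturated.
-/

set_option autoImplicit false
set_option linter.style.haveILetI false
set_option linter.unusedSectionVars false

namespace CfsgLib.FusionProduct

open Cfsg Cfsg.FusionSystem CfsgLib.Alperin CfsgLib.FusionSub CfsgLib.FusionBasics
open scoped Pointwise

universe u

variable {Ω : Type u} [Group Ω] {S T : Subgroup Ω}
  {F : FusionSystem S} {E : FusionSystem T} {p : ℕ} [Fact p.Prime] [Finite S] {R : Subgroup Ω}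

theorem img_inf_T (c : Ctx F E p R) {P : Subgroup Ω} {φ : P →* Ω} (hφ : φ ∈ F.Hom P) :
    img φ (P ⊓ T) = φ.range ⊓ T := by
  ext y
  constructor
  · rintro ⟨x, hx, rfl⟩
    exact ⟨⟨x, rfl⟩, stronglyClosed_apply c.closed hφ x hx.2⟩
  · rintro ⟨⟨x, rfl⟩, hx⟩
    exact ⟨x, ⟨x.2, mem_of_apply_mem c.closed hφ x hx⟩, rfl⟩

theorem isCentric_inf_of_map (c : Ctx F E p R) {P : Subgroup Ω} {φ : P →* Ω} (hφ : φ ∈ F.Hom P)
    (hP : E.IsCentric (P ⊓ T)) : E.IsCentric (φ.range ⊓ T) := by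
  rw [← img_inf_T c hφ, img_eq_range φ inf_le_left]
  exact isCentric_map c.toSetup hP (restrict_mem hφ inf_le_left)

theorem le_normalizer_inf (c : Ctx F E p R) {P : Subgroup Ω} (hP : P ≤ R) :
    P ≤ normalizerIn R (P ⊓ T) := fun x hx => ⟨hP hx, Subgroup.mem_normalizer_iff.mpr fun y => by
  have key : ∀ z ∈ P, ∀ y ∈ P ⊓ T, z * y * z⁻¹ ∈ P ⊓ T := fun z hz y hy =>
    ⟨P.mul_mem (P.mul_mem hz hy.1) (P.inv_mem hz), c.conj_mem (c.rs (hP hz)) hy.2⟩
  refine ⟨key x hx y, fun h => ?_⟩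
  have := key x⁻¹ (P.inv_mem hx) _ h
  simpa [mul_assoc] using this⟩

theorem normalizerIn_le_inf (c : Ctx F E p R) {P : Subgroup Ω} :
    normalizerIn R P ≤ normalizerIn R (P ⊓ T) := fun x hx => ⟨hx.1,
  Subgroup.mem_normalizer_iff.mpr fun y => by
    have key : ∀ z ∈ normalizerIn R P, ∀ y ∈ P ⊓ T, z * y * z⁻¹ ∈ P ⊓ T := fun z hz y hy =>
      ⟨mem_normalizer_conj hz.2 hy.1, c.conj_mem (c.rs hz.1) hy.2⟩
    refine ⟨key x hx y, fun h => ?_⟩
    have := key x⁻¹ ((normalizerIn R P).inv_mem hx) _ h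
    simpa [mul_assoc] using this⟩

/-- The product system is saturated. -/
theorem dSys_isSaturated (c : Ctx F E p R) : (dSys c).IsSaturated p := by
  haveI := c.finT
  haveI : Finite R := finite_of_le c.rs
  have hRp : IsPGroup p R := isPGroup_of_le c.isP c.rs
  refine isSaturated_of_family hRp (dSys c) {P | P ≤ R ∧ E.IsCentric (P ⊓ T)} ?_ ?_ ?_ ?_
  · rintro P ⟨hPR, hPc⟩ Q ⟨φ, hφ, rfl⟩
    exact ⟨range_le hφ, isCentric_inf_of_map c (dSys_le_F c _ hφ) hPc⟩
  · rintro P ⟨hPR, hPc⟩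
    have hPN : P ≤ normalizerIn R (P ⊓ T) := le_normalizer_inf c hPR
    obtain ⟨χ, hχ, hgood, -⟩ := exists_good_image c inf_le_right inf_le_left hPN
    have hχF := dSys_le_F c _ hχ
    set U := img χ (P ⊓ T) with hU
    have hUc : E.IsCentric U := by
      rw [hU, img_eq_range χ inf_le_left]
      exact isCentric_map c.toSetup hPc (restrict_mem hχF inf_le_left)
    obtain ⟨l⟩ := exists_loc c.toSetup c.tr c.rs hUc hgood.1
    set N := normalizerIn R U with hN
    haveI : Finite N := finite_of_le ((normalizerIn_le R U).trans c.rs)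
    have hNp : IsPGroup p N := isPGroup_of_le hRp (normalizerIn_le R U)
    have hls := l.sys_isSaturated c.toSetup c.rs
    have hP₁N : χ.range ≤ N := by
      rintro _ ⟨x, rfl⟩
      exact ⟨((dSys c).le_of_mem hχ).2 x, apply_mem_normalizer_img χ inf_le_left (hPN x.2).2⟩
    obtain ⟨Q, hPQ, hQ⟩ := exists_isFullyNormalized l.sys hP₁N
    obtain ⟨ψ, hψ, hψQ⟩ := hPQ
    have hψD := locSys_le_dSys c hUc l _ hψ
    have hψF := dSys_le_F c _ hψD
    have hQT : Q ⊓ T = U := by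
      rw [← hψQ, ← img_inf_T c hψF, ← img_inf_T c hχF, ← hU]
      haveI := finite_of_le hUc.1
      obtain ⟨hPd, hψm, g, hg⟩ := id hψ
      refine Subgroup.eq_of_le_of_card_ge ?_ (card_img hψ (img_le_range χ _)).ge
      rintro _ ⟨x, hx, rfl⟩
      rw [l.apply_eq_rho hPd (le_normalizerIn (hUc.1.trans c.tr)) hg x hx]
      exact (l.ρ g _).2
    have hQN : Q ≤ N := hQ.1
    have hQR : Q ≤ R := hQN.trans (normalizerIn_le R U)
    haveI := finite_of_le (hQR.trans c.rs)
    have hUQ : U ≤ Q := hQT ▸ inf_le_left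
    have haut : (dSys c).autGroup Q = l.sys.autGroup Q := by
      refine le_antisymm (fun α hα => ?_) (autGroup_mono (locSys_le_dSys c hUc l) Q)
      have hαD := (mem_autGroup_iff _ hQR).mp hα
      refine (mem_autGroup_iff _ hQN).mpr (mem_locSys c hUc hgood l hUQ hQN hαD ?_)
      haveI := finite_of_le hUc.1
      refine Subgroup.eq_of_le_of_card_ge ?_ (card_img hαD hUQ).ge
      rintro _ ⟨x, hx, rfl⟩
      exact hQT.le ⟨(α x).2, stronglyClosed_apply c.closed (dSys_le_F c _ hαD) x (hUc.1 hx)⟩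
    have hind : autInducedBy R Q = autInducedBy N Q := by
      ext α
      rw [mem_autInducedBy_iff, mem_autInducedBy_iff]
      refine ⟨fun ⟨g, hg, hgx⟩ => ⟨g, ?_, hgx⟩, fun ⟨g, hg, hgx⟩ => ⟨g, hg.1, hgx⟩⟩
      have := normalizerIn_le_inf c (P := Q) ⟨hg, normalizer_of_induced hgx⟩
      rwa [hQT] at this
    refine ⟨Q, CfsgLib.Alperin.IsConj.trans (isConj_of_hom hχ) ⟨ψ, hψD, hψQ⟩, ⟨hQR, ?_⟩, hQR, ?_⟩
    · obtain ⟨-, R₀, hR₀⟩ := (centralized_automized_of_fullyNormalized hNp hls hQ).2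
      rw [haut, hind]
      exact ⟨R₀, hR₀⟩
    · intro P₂ φ hφ hr
      have hP₂R : P₂ ≤ R := dom_le hφ
      have hφF := dSys_le_F c _ hφ
      set U₂ := P₂ ⊓ T with hU₂
      have hU₂U : img φ U₂ = U := by rw [hU₂, img_inf_T c hφF, hr, hQT]
      obtain ⟨χ₂, hχ₂, hχ₂N, hχ₂U⟩ := exists_hom_to_good c (U := U₂) inf_le_right hgood
        ⟨_, restrict_mem (dSys_le_cSys c _ hφ) inf_le_left,
          (img_eq_range φ inf_le_left).symm.trans hU₂U⟩
      set X := extender R P₂ φ with hX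
      have hXN : X ≤ normalizerIn R U₂ :=
        (extender_le_normalizerIn P₂ φ).trans (normalizerIn_le_inf c)
      have hP₂X : P₂ ≤ X := le_extender hφ
      set χX := χ₂.comp (Subgroup.inclusion hXN) with hχX
      have hχXD : χX ∈ (dSys c).Hom X := restrict_mem hχ₂ hXN
      set χP := χX.comp (Subgroup.inclusion hP₂X) with hχP
      have hχPD : χP ∈ (dSys c).Hom P₂ := restrict_mem hχXD hP₂X
      set P₃ := χP.range with hP₃
      obtain ⟨θ, hθ, hθr, hθx, -⟩ := exists_inverse hχPD rfl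
      have hmθ : ∀ y, θ y ∈ P₂ := fun y => hθr.le ⟨y, rfl⟩
      set φ' : P₃ →* Ω := φ.comp (θ.codRestrict P₂ hmθ) with hφ'
      have hφ'D : φ' ∈ (dSys c).Hom P₃ := (dSys c).comp_mem hθ hφ hmθ
      have hφ'x : ∀ x : P₂, φ' ⟨χP x, ⟨x, rfl⟩⟩ = φ x := fun x =>
        congrArg φ (Subtype.ext (hθx x ⟨x, rfl⟩))
      have hχ₂N' : ∀ x, χ₂ x ∈ N := hχ₂N
      have hP₃N : P₃ ≤ N := by
        rintro _ ⟨x, rfl⟩
        exact hχ₂N _
      have hUP₃ : U ≤ P₃ := by
        intro u hu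
        obtain ⟨z, hz, hzu⟩ := hχ₂U.ge hu
        exact ⟨⟨z, hz.1⟩, (congrArg χ₂ (Subtype.ext rfl)).trans hzu⟩
      have hφ'l : φ' ∈ l.sys.Hom P₃ := by
        refine mem_locSys c hUc hgood l hUP₃ hP₃N hφ'D ?_
        haveI := finite_of_le hUc.1
        refine Subgroup.eq_of_le_of_card_ge ?_ (card_img hφ'D hUP₃).ge
        rintro _ ⟨⟨_, x, rfl⟩, hx, rfl⟩
        rw [hφ'x]
        have hxT : (x : Ω) ∈ T :=
          mem_of_apply_mem c.closed (dSys_le_F c _ hχPD) x (hUc.1 hx)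
        exact hU₂U.le ⟨x, ⟨x.2, hxT⟩, rfl⟩
      have hr' : φ'.range = Q := by
        rw [← hr]
        ext y
        constructor
        · rintro ⟨z, rfl⟩
          exact ⟨_, rfl⟩
        · rintro ⟨x, rfl⟩
          exact ⟨_, hφ'x x⟩
      obtain ⟨ψ', hψ', hψ'x⟩ := (receptive_of_fullyNormalized hNp hls hQ).2 P₃ φ' hφ'l hr'
      have hm : ∀ n, χX n ∈ extender N P₃ φ' := by
        intro n
        obtain ⟨-, hnP, h, hh, hhx⟩ := mem_extender_iff.mp n.2
        have hhQ : h ∈ Subgroup.normalizer (Q : Set Ω) := by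
          refine Subgroup.mem_normalizer_iff.mpr fun y => ⟨fun hy => ?_, fun hy => ?_⟩
          · obtain ⟨x, rfl⟩ := hr.ge hy
            exact hr.le ⟨_, hhx x (mem_normalizer_conj hnP x.2)⟩
          · obtain ⟨x, hx⟩ := hr.ge hy
            have hm := mem_normalizer_conj (inv_mem hnP) x.2
            rw [inv_inv] at hm
            have h1 := hhx ⟨_, hm⟩ (by simp [mul_assoc])
            rw [show (⟨(n : Ω) * (((n : Ω))⁻¹ * x * n) * ((n : Ω))⁻¹, _⟩ : P₂) = x from
              Subtype.ext (by group), hx] at h1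
            rw [mul_left_cancel (mul_right_cancel h1)]
            exact hr.le ⟨_, rfl⟩
        have hhN : h ∈ N := by
          have := normalizerIn_le_inf c (P := Q) ⟨hh, hhQ⟩
          rwa [hQT] at this
        refine mem_extender_iff.mpr ⟨hχ₂N _, ?_, h, hhN, ?_⟩
        · have : P₃ = img χX P₂ := (img_eq_range χX hP₂X).symm
          rw [this]
          exact apply_mem_normalizer_img χX hP₂X hnP
        · rintro ⟨_, x, rfl⟩ hx
          have hnx := mem_normalizer_conj hnP x.2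
          rw [hφ'x, ← hhx x hnx, ← hφ'x ⟨_, hnx⟩]
          refine congrArg φ' (Subtype.ext ?_)
          show χX n * χX (Subgroup.inclusion hP₂X x) * (χX n)⁻¹ = χX ⟨_, hP₂X hnx⟩
          rw [← map_inv, ← map_mul, ← map_mul]
          rfl
      refine ⟨ψ'.comp (χX.codRestrict _ hm),
        (dSys c).comp_mem hχXD (locSys_le_dSys c hUc l _ hψ') hm, fun x hxP hxN => ?_⟩
      show ψ' ⟨χX ⟨x, hxN⟩, _⟩ = φ ⟨x, hxP⟩
      rw [← hφ'x ⟨x, hxP⟩]
      exact hψ'x (χX ⟨x, hxN⟩) ⟨⟨x, hxP⟩, rfl⟩ _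
  · intro X hX P φ hφ
    refine hφ.2 X fun Q ψ hgen => ?_
    rcases hgen with ⟨hQ, g, hg, rfl⟩ | ⟨W, hW, hgW, l, hWQ, hQT, hψ⟩
    · exact X.conj_mem hQ hg
    · have hψD := dSys_gen c (Or.inr ⟨W, hW, hgW, l, hWQ, hQT, hψ⟩)
      exact hX Q ⟨dom_le hψD, isCentric_of_le hW (le_inf hWQ hW.1) inf_le_right⟩ hψD
  · intro P hP hPℋ
    have hPR := hP.1
    have hPN : P ≤ normalizerIn R (P ⊓ T) := le_normalizer_inf c hPR
    obtain ⟨χ, hχ, hgood, -⟩ := exists_good_image c inf_le_right inf_le_left hPN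
    have hχF := dSys_le_F c _ hχ
    have hU'eq : img χ (P ⊓ T) = χ.range ⊓ T := img_inf_T c hχF
    rw [hU'eq] at hgood
    set Q := χ.range with hQdef
    set U := Q ⊓ T with hUdef
    have hQR : Q ≤ R := range_le hχ
    have hnc : ¬ centralizerIn T U ≤ U := fun hle => by
      have hUc : E.IsCentric U := isCentric_of_fullyCentralized c.isPT c.esat
        (centralized_automized_of_fullyNormalized c.isPT c.esat hgood.1).1 hle
      obtain ⟨θ, hθ, hθr, -, -⟩ := exists_inverse hχF hQdef.symm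
      exact hPℋ ⟨hPR, hθr ▸ isCentric_inf_of_map c hθ hUc⟩
    refine ⟨Q, isConj_of_hom hχ, ?_⟩
    -- an element of `C_T(U)` normalizing `Q`
    set A := centralizerIn T U with hA
    have hQA : ∀ x ∈ Q, ∀ a ∈ A, x * a * x⁻¹ ∈ A := fun x hx a ha => by
      refine ⟨c.conj_mem (c.rs (hQR hx)) ha.1, fun u hu => ?_⟩
      have hxN := le_normalizer_inf c hQR hx
      have hu' : x⁻¹ * u * x ∈ U := by
        have := mem_normalizer_conj (inv_mem hxN.2) hu
        rwa [inv_inv] at this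
      have h1 := ha.2 _ hu'
      calc u * (x * a * x⁻¹) = x * ((x⁻¹ * u * x) * a) * x⁻¹ := by group
        _ = x * (a * (x⁻¹ * u * x)) * x⁻¹ := by rw [h1]
        _ = x * a * x⁻¹ * u := by group
    have hQnA : Q ≤ Subgroup.normalizer (A : Set Ω) := fun x hx =>
      Subgroup.mem_normalizer_iff.mpr fun a => ⟨hQA x hx a, fun h => by
        have := hQA x⁻¹ (Q.inv_mem hx) _ h
        simpa [mul_assoc] using this⟩
    have hlt : Q < A ⊔ Q := by
      refine lt_of_le_of_ne le_sup_right fun e => hnc fun a ha => ⟨?_, ha.1⟩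
      exact e.ge (Subgroup.mem_sup_left ha)
    obtain ⟨g, hg, hgN, hgQ⟩ := exists_mem_normalizer_not_mem hRp hlt
      (sup_le ((centralizerIn_le T U).trans c.tr) hQR)
    obtain ⟨a, ha, q, hq, rfl⟩ : g ∈ (A : Set Ω) * (Q : Set Ω) := by
      rw [← Subgroup.coe_mul_of_right_le_normalizer_left A Q hQnA]
      exact hg
    have haQ : a ∉ Q := fun h => hgQ (Q.mul_mem h hq)
    have haN : a ∈ Subgroup.normalizer (Q : Set Ω) := by
      simpa using mul_mem hgN (inv_mem (Subgroup.le_normalizer hq))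
    haveI := finite_of_le (hQR.trans c.rs)
    haveI := finite_autGroup (dSys c) hQR
    -- the normal `p`-subgroup
    let K : Subgroup ((dSys c).autGroup Q) :=
      { carrier := {b | ∀ x : Q, ((x : Ω) ∈ T → (b : MulAut Q) x = x) ∧
          (x : Ω)⁻¹ * ((b : MulAut Q) x : Q) ∈ T}
        one_mem' := fun x => ⟨fun _ => rfl, by simp⟩
        mul_mem' := fun {b b'} hb hb' x => by
          refine ⟨fun hx => ?_, ?_⟩
          · show (b : MulAut Q) ((b' : MulAut Q) x) = x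
            rw [(hb' x).1 hx, (hb x).1 hx]
          · show (x : Ω)⁻¹ * ((b : MulAut Q) ((b' : MulAut Q) x) : Q) ∈ T
            have := T.mul_mem (hb' x).2 (hb ((b' : MulAut Q) x)).2
            simpa [mul_assoc] using this
        inv_mem' := fun {b} hb x => by
          refine ⟨fun hx => ?_, ?_⟩
          · show (b : MulAut Q)⁻¹ x = x
            conv_lhs => rw [← (hb x).1 hx]
            rw [MulAut.inv_apply_self]
          · show (x : Ω)⁻¹ * (((b : MulAut Q)⁻¹ x : Q) : Ω) ∈ T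
            have := T.inv_mem (hb ((b : MulAut Q)⁻¹ x)).2
            rw [MulAut.apply_inv_self] at this
            simpa using this }
    have hpres : ∀ (b : (dSys c).autGroup Q) (x : Q), (x : Ω) ∈ T →
        (((b : MulAut Q) x : Q) : Ω) ∈ T := fun b x hx => stronglyClosed_apply c.closed
      (dSys_le_F c _ ((mem_autGroup_iff _ hQR).mp b.2)) x hx
    haveI hKn : K.Normal := by
      refine ⟨fun k hk b x => ⟨fun hx => ?_, ?_⟩⟩
      · show (b : MulAut Q) ((k : MulAut Q) ((b : MulAut Q)⁻¹ x)) = x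
        rw [show (k : MulAut Q) ((b : MulAut Q)⁻¹ x) = (b : MulAut Q)⁻¹ x from
          (hk _).1 (hpres b⁻¹ x hx), MulAut.apply_inv_self]
      · show (x : Ω)⁻¹ * (((b : MulAut Q) ((k : MulAut Q) ((b : MulAut Q)⁻¹ x)) : Q) : Ω) ∈ T
        set y := (b : MulAut Q)⁻¹ x with hy
        have h1 := hpres b (y⁻¹ * (k : MulAut Q) y) (hk y).2
        rw [map_mul, map_inv] at h1
        rw [show x = (b : MulAut Q) y from (MulAut.apply_inv_self Q (b : MulAut Q) x).symm]
        simpa using h1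
    have hKp : IsPGroup p K := by
      intro k
      obtain ⟨i, hi⟩ := IsPGroup.iff_card.mp (isPGroup_of_le hRp hQR)
      refine ⟨i, Subtype.ext (Subtype.ext (MulEquiv.ext fun x => ?_))⟩
      set b := ((k : (dSys c).autGroup Q) : MulAut Q) with hb
      set z := x⁻¹ * b x with hz
      have hbz : b z = z := (k.2 z).1 (k.2 x).2
      have hit : ∀ n : ℕ, (b ^ n) x = x * z ^ n := by
        intro n
        induction n with
        | zero => simp
        | succ n ih =>
          rw [pow_succ', MulAut.mul_apply, ih, map_mul, map_pow, hbz,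
            show b x = x * z by rw [hz, mul_inv_cancel_left], pow_succ', mul_assoc]
      show (b ^ p ^ i) x = x
      rw [hit, ← hi, pow_card_eq_one', mul_one]
    intro hle
    have hca : conjAut Q a haN ∈ autInducedBy R Q ⊓ autCore (dSys c) p Q := by
      refine ⟨conjAut_mem (c.tr ha.1) haN, ?_⟩
      refine ⟨⟨conjAut Q a haN, autInducedBy_le_autGroup _ hQR (conjAut_mem (c.tr ha.1) haN)⟩,
        (le_sSup ⟨hKn, hKp⟩ : K ≤ pCore p ((dSys c).autGroup Q)) ?_, rfl⟩
      intro x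
      refine ⟨fun hx => Subtype.ext ?_, ?_⟩
      · show a * (x : Ω) * a⁻¹ = x
        rw [← ha.2 (x : Ω) ⟨x.2, hx⟩, mul_inv_cancel_right]
      · show (x : Ω)⁻¹ * (a * (x : Ω) * a⁻¹) ∈ T
        have := T.mul_mem (c.conj_mem' (c.rs (hQR x.2)) ha.1) (T.inv_mem ha.1)
        simpa [mul_assoc] using this
    obtain ⟨q₀, hq₀⟩ := hle hca
    have hzc : (q₀ : Ω)⁻¹ * a ∈ centralizerIn R Q := by
      refine ⟨R.mul_mem (R.inv_mem (hQR q₀.2)) (c.tr ha.1), fun x hx => ?_⟩
      have h1 := congrArg (fun v : MulAut Q => ((v ⟨x, hx⟩ : Q) : Ω)) hq₀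
      change (q₀ : Ω) * x * (q₀ : Ω)⁻¹ = a * x * a⁻¹ at h1
      calc x * ((q₀ : Ω)⁻¹ * a) = (q₀ : Ω)⁻¹ * ((q₀ : Ω) * x * (q₀ : Ω)⁻¹) * a := by group
        _ = (q₀ : Ω)⁻¹ * a * x := by rw [h1]; group
    have h2 := hP.2 Q (isConj_of_hom hχ) hzc
    exact haQ (by simpa using Q.mul_mem q₀.2 h2)

end CfsgLib.FusionProduct
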