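import Cfsg.Agent.Lib.FusionProduct.Tools

/-!
The system of the maps over `R` that agree with conjugation by an element `s` of `R` modulo `T` and
with `c_s` after a map of `E` inside `T`.
-/

set_option autoImplicit false
set_option linter.style.haveILetI false
set_option linter.unusedSectionVars false

namespace CfsgLib.FusionProduct

open Cfsg Cfsg.FusionSystem CfsgLib.Alperin CfsgLib.FusionSub

variable {Ω : Type*} [Group Ω] {S T : Subgroup Ω}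

/-- `φ` is `c_s` modulo `T` and `c_s` after a map of `E` on the part of its source in `T`. -/
def CWith (E : FusionSystem T) (R : Subgroup Ω) (s : Ω) {P : Subgroup Ω} (φ : P →* Ω) : Prop :=
  s ∈ R ∧ (∀ x : P, (s * (x : Ω) * s⁻¹)⁻¹ * φ x ∈ T) ∧
    ∃ e ∈ E.Hom (P ⊓ T), ∀ (x : P) (hx : (x : Ω) ∈ T), φ x = s * e ⟨x, x.2, hx⟩ * s⁻¹

/-- The maps of the ambient product system. -/
def IsCMap (F : FusionSystem S) (E : FusionSystem T) (R : Subgroup Ω) {P : Subgroup Ω}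
    (φ : P →* Ω) : Prop :=
  φ ∈ F.Hom P ∧ P ≤ R ∧ (∀ x, φ x ∈ R) ∧ ∃ s, CWith E R s φ

variable {F : FusionSystem S} {E : FusionSystem T} {p : ℕ} [Fact p.Prime] [Finite S]
  {R : Subgroup Ω}

theorem cWith_conj (h : Setup F E p) (hRS : R ≤ S) {P : Subgroup Ω} (_hP : P ≤ R) {g : Ω}
    (hg : g ∈ R) : CWith E R g (conjHom P g) := by
  refine ⟨hg, fun x => ?_, (P ⊓ T).subtype, incl_mem E inf_le_right, fun x hx => rfl⟩
  rw [conjHom_apply, inv_mul_cancel]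
  exact T.one_mem

theorem CWith.comp (h : Setup F E p) (hRS : R ≤ S) {P Q : Subgroup Ω} {φ : P →* Ω} {ψ : Q →* Ω}
    {s t : Ω} (hφ : CWith E R s φ) (hψ : CWith E R t ψ) (hφF : φ ∈ F.Hom P)
    (hm : ∀ x, φ x ∈ Q) {τ : P →* Ω} (hτ : ∀ x, τ x = ψ ⟨φ x, hm x⟩) : CWith E R (t * s) τ := by
  obtain ⟨hs, hφT, e₁, he₁, he₁x⟩ := hφ
  obtain ⟨ht, hψT, e₂, he₂, he₂x⟩ := hψ
  refine ⟨R.mul_mem ht hs, fun x => ?_, ?_⟩
  · rw [hτ]
    have h1 := hφT x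
    have h2 := hψT ⟨φ x, hm x⟩
    have h3 : (t * ((s * (x : Ω) * s⁻¹)⁻¹ * φ x) * t⁻¹) ∈ T := h.conj_mem (hRS ht) h1
    have := T.mul_mem h3 h2
    refine (Eq.mpr (congrArg (· ∈ T) ?_) this)
    group
  · -- the map on the part inside `T`
    have hmT : ∀ u : ↥(P ⊓ T), s * e₁ u * s⁻¹ ∈ Q ⊓ T := fun u => by
      refine ⟨?_, h.conj_mem (hRS hs) (apply_mem he₁ u)⟩
      rw [← he₁x ⟨u, u.2.1⟩ u.2.2]
      exact hm _
    set Q' : Subgroup Ω := e₁.range with hQ'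
    have hQ'm : ∀ y : Q', s * (y : Ω) * s⁻¹ ∈ Q ⊓ T := by
      rintro ⟨_, u, rfl⟩
      exact hmT u
    let e₂' : Q' →* Ω :=
      (MulAut.conj s⁻¹).toMonoidHom.comp (e₂.comp ((conjHom Q' s).codRestrict (Q ⊓ T) hQ'm))
    have he₂' : e₂' ∈ E.Hom Q' := by
      refine h.conj_hom he₂ (S.inv_mem (hRS hs)) (fun y => ?_) (fun y => ?_)
      · rw [inv_inv]; exact hQ'm y
      · show s⁻¹ * e₂ ⟨s * (y : Ω) * s⁻¹, _⟩ * s⁻¹⁻¹ = _
        congr 2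
        exact congrArg e₂ (Subtype.ext (by simp))
    refine ⟨_, E.comp_mem he₁ he₂' (fun u => ⟨u, rfl⟩), fun x hx => ?_⟩
    rw [hτ, he₂x ⟨φ x, hm x⟩ (stronglyClosed_apply h.closed hφF x hx)]
    show _ = t * s * (s⁻¹ * e₂ ⟨s * e₁ ⟨x, x.2, hx⟩ * s⁻¹, _⟩ * s⁻¹⁻¹) * (t * s)⁻¹
    rw [show (⟨φ x, hm x, stronglyClosed_apply h.closed hφF x hx⟩ : ↥(Q ⊓ T)) =
      ⟨s * e₁ ⟨x, x.2, hx⟩ * s⁻¹, hmT ⟨x, x.2, hx⟩⟩ from Subtype.ext (he₁x x hx)]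
    group

theorem CWith.restrict {P Q : Subgroup Ω} {φ : P →* Ω} {s : Ω} (hφ : CWith E R s φ) (hQ : Q ≤ P)
    {τ : Q →* Ω} (hτ : ∀ x, τ x = φ ⟨x, hQ x.2⟩) : CWith E R s τ := by
  obtain ⟨hs, hφT, e, he, hex⟩ := hφ
  refine ⟨hs, fun x => by rw [hτ]; exact hφT ⟨x, hQ x.2⟩, _,
    restrict_mem he (inf_le_inf_right T hQ), fun x hx => ?_⟩
  rw [hτ]
  exact hex ⟨x, hQ x.2⟩ hx

theorem CWith.inverse (h : Setup F E p) (hRS : R ≤ S) {P : Subgroup Ω} {φ : P →* Ω} {s : Ω}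
    (hφ : CWith E R s φ) (hφF : φ ∈ F.Hom P) {θ : φ.range →* Ω}
    (hθ : ∀ x : P, θ ⟨φ x, ⟨x, rfl⟩⟩ = x) : CWith E R s⁻¹ θ := by
  obtain ⟨hs, hφT, e, he, hex⟩ := hφ
  obtain ⟨d, hd, -, hdx, -⟩ := exists_inverse he rfl
  refine ⟨R.inv_mem hs, ?_, ?_⟩
  · rintro ⟨_, x, rfl⟩
    rw [hθ, inv_inv]
    have := h.conj_mem' (hRS hs) (T.inv_mem (hφT x))
    refine (Eq.mpr (congrArg (· ∈ T) ?_) this)
    group
  · have hm : ∀ y : ↥(φ.range ⊓ T), s⁻¹ * (y : Ω) * s ∈ e.range := by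
      rintro ⟨y, ⟨x, rfl⟩, hyT⟩
      have hxT := mem_of_apply_mem h.closed hφF x hyT
      refine ⟨⟨x, x.2, hxT⟩, ?_⟩
      show e ⟨x, x.2, hxT⟩ = s⁻¹ * φ x * s
      rw [hex x hxT]
      group
    let c : ↥(φ.range ⊓ T) →* e.range := ((MulAut.conj s⁻¹).toMonoidHom.comp
      (φ.range ⊓ T).subtype).codRestrict e.range fun y => by
        show s⁻¹ * (y : Ω) * s⁻¹⁻¹ ∈ _
        rw [inv_inv]; exact hm y
    let d' : ↥(φ.range ⊓ T) →* Ω := (MulAut.conj s).toMonoidHom.comp (d.comp c)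
    have hd' : d' ∈ E.Hom (φ.range ⊓ T) := by
      refine h.conj_hom hd (hRS hs) hm fun y => ?_
      show s * d (c y) * s⁻¹ = _
      congr 2
      refine congrArg d (Subtype.ext ?_)
      show s⁻¹ * (y : Ω) * s⁻¹⁻¹ = _
      rw [inv_inv]
    refine ⟨d', hd', ?_⟩
    rintro ⟨_, x, rfl⟩ hy
    have hxT := mem_of_apply_mem h.closed hφF x hy
    rw [hθ]
    show (x : Ω) = s⁻¹ * (s * d (c ⟨φ x, ⟨x, rfl⟩, hy⟩) * s⁻¹) * s⁻¹⁻¹
    have : c ⟨φ x, ⟨x, rfl⟩, hy⟩ = ⟨e ⟨x, x.2, hxT⟩, ⟨_, rfl⟩⟩ := by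
      refine Subtype.ext ?_
      show s⁻¹ * φ x * s⁻¹⁻¹ = _
      rw [hex x hxT]
      group
    rw [this]
    refine Eq.trans ?_ (congrArg (fun v => s⁻¹ * (s * v * s⁻¹) * s⁻¹⁻¹)
      (hdx ⟨x, x.2, hxT⟩ ⟨_, rfl⟩).symm)
    show (x : Ω) = s⁻¹ * (s * (x : Ω) * s⁻¹) * s⁻¹⁻¹
    group

/-- The ambient system over `R`. -/
def cSys (h : Setup F E p) (hRS : R ≤ S) : FusionSystem R where
  Hom _ := {φ | IsCMap F E R φ}
  le_of_mem hφ := ⟨hφ.2.1, hφ.2.2.1⟩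
  injective_of_mem hφ := F.injective_of_mem hφ.1
  conj_mem {P g} hP hg := ⟨F.conj_mem (hP.trans hRS) (hRS hg), hP,
    fun x => R.mul_mem (R.mul_mem hg (hP x.2)) (R.inv_mem hg), g, cWith_conj h hRS hP hg⟩
  comp_mem {P Q φ ψ} hφ hψ hm := by
    obtain ⟨hφF, hP, -, s, hs⟩ := hφ
    obtain ⟨hψF, -, hψR, t, ht⟩ := hψ
    exact ⟨F.comp_mem hφF hψF hm, hP, fun x => hψR _, t * s, hs.comp h hRS ht hφF hm fun _ => rfl⟩
  inv_mem {P φ} hφ := by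
    obtain ⟨hφF, hP, hφR, s, hs⟩ := hφ
    obtain ⟨θ, hθ, hθx⟩ := F.inv_mem hφF
    refine ⟨θ, ⟨hθ, ?_, ?_, s⁻¹, hs.inverse h hRS hφF hθx⟩, hθx⟩
    · rintro _ ⟨x, rfl⟩
      exact hφR x
    · rintro ⟨_, x, rfl⟩
      rw [hθx]
      exact hP x.2

theorem mem_cSys {h : Setup F E p} {hRS : R ≤ S} {P : Subgroup Ω} {φ : P →* Ω} :
    φ ∈ (cSys h hRS).Hom P ↔ IsCMap F E R φ := Iff.rfl

theorem cSys_sub (h : Setup F E p) (hRS : R ≤ S) : (cSys h hRS).IsSubsystemOf F :=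
  fun _ _ hφ => hφ.1

theorem le_cSys (h : Setup F E p) (hTR : T ≤ R) (hRS : R ≤ S) :
    E.IsSubsystemOf (cSys h hRS) := by
  intro P φ hφ
  have hP := dom_le hφ
  refine ⟨h.sub P hφ, hP.trans hTR, fun x => hTR (apply_mem hφ x), 1, R.one_mem, fun x => ?_,
    _, restrict_mem hφ inf_le_left, fun x hx => ?_⟩
  · simpa using T.mul_mem (T.inv_mem (hP x.2)) (apply_mem hφ x)
  · simp only [one_mul, inv_one, mul_one]
    exact congrArg φ (Subtype.ext rfl)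

/-- Maps of the ambient system preserve centricity in `E`. -/
theorem isCentric_map (h : Setup F E p) {U : Subgroup Ω} (hU : E.IsCentric U)
    {φ : U →* Ω} (hφ : φ ∈ F.Hom U) : E.IsCentric φ.range :=
  haveI := h.finT
  isCentric_of_hom_invariant h.inv hU hφ

end CfsgLib.FusionProduct
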