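import Cfsg.Agent.Lib.FusionProduct.LocMaps

/-!
Subgroups of `T` well placed with respect to `E` and `R`, and the generated system.
-/

set_option autoImplicit false
set_option linter.style.haveILetI false
set_option linter.unusedSectionVars false

namespace CfsgLib.FusionProduct

open Cfsg Cfsg.FusionSystem CfsgLib.Alperin CfsgLib.FusionSub CfsgLib.FusionBasics

universe u

variable {Ω : Type u} [Group Ω] {S T : Subgroup Ω}

/-- The hypotheses with the intermediate subgroup `R`. -/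
structure Ctx (F : FusionSystem S) (E : FusionSystem T) (p : ℕ) (R : Subgroup Ω) : Prop
    extends Setup F E p where
  tr : T ≤ R
  rs : R ≤ S

variable {F : FusionSystem S} {E : FusionSystem T} {p : ℕ} [Fact p.Prime] [Finite S]
  {R : Subgroup Ω}

/-- `U` is fully normalized in `E`, and the elements of `R` fixing its class in `E` lie in
`N_R(U) T`. -/
def Good (E : FusionSystem T) (R U : Subgroup Ω) : Prop :=
  E.IsFullyNormalized U ∧ ∀ s ∈ R, E.IsConj U (U.map (MulAut.conj s).toMonoidHom) →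
    ∃ n ∈ normalizerIn R U, ∃ t ∈ T, s = n * t

theorem good_top (c : Ctx F E p R) : Good E R T :=
  haveI := c.finT
  ⟨isFullyNormalized_top E, fun s hs _ =>
    ⟨s, ⟨hs, stronglyClosed_le_normalizer c.closed (c.rs hs)⟩, 1, T.one_mem, (mul_one s).symm⟩⟩

/-- Elements of `R` normalizing `U` normalize `N_T(U)`. -/
theorem Ctx.normalizerIn_le_normalizerIn (c : Ctx F E p R) (U : Subgroup Ω) :
    normalizerIn R U ≤ normalizerIn R (normalizerIn T U) := by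
  have key : ∀ {k : Ω}, k ∈ normalizerIn R U → ∀ {y : Ω}, y ∈ normalizerIn T U →
      k * y * k⁻¹ ∈ normalizerIn T U := fun {k} hk {y} hy =>
    ⟨c.conj_mem (c.rs hk.1) hy.1, mul_mem (mul_mem hk.2 hy.2) (Subgroup.inv_mem _ hk.2)⟩
  refine fun g hg => ⟨hg.1, Subgroup.mem_normalizer_iff.mpr fun x => ⟨key hg, fun hx => ?_⟩⟩
  have := key ((normalizerIn R U).inv_mem hg) hx
  simpa [mul_assoc] using this

theorem isConj_conj_hom (c : Ctx F E p R) {U V : Subgroup Ω} (hUV : E.IsConj U V) {s : Ω}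
    (hs : s ∈ S) : E.IsConj (U.map (MulAut.conj s).toMonoidHom) (V.map (MulAut.conj s).toMonoidHom) := by
  obtain ⟨φ, hφ, rfl⟩ := hUV
  have hm : ∀ x : ↥(U.map (MulAut.conj s).toMonoidHom), s⁻¹ * (x : Ω) * s ∈ U := by
    rintro ⟨_, u, hu, rfl⟩
    show s⁻¹ * (s * u * s⁻¹) * s ∈ U
    simpa [mul_assoc] using hu
  let ψ : ↥(U.map (MulAut.conj s).toMonoidHom) →* Ω := (MulAut.conj s).toMonoidHom.comp
    (φ.comp (((MulAut.conj s⁻¹).toMonoidHom.comp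
      (U.map (MulAut.conj s).toMonoidHom).subtype).codRestrict U fun x => by
        show s⁻¹ * (x : Ω) * s⁻¹⁻¹ ∈ U
        rw [inv_inv]; exact hm x))
  have hψ : ∀ x, ψ x = s * φ ⟨s⁻¹ * (x : Ω) * s, hm x⟩ * s⁻¹ := fun x =>
    congrArg (fun v => s * φ v * s⁻¹) (Subtype.ext (show s⁻¹ * (x : Ω) * s⁻¹⁻¹ = _ by rw [inv_inv]))
  refine ⟨ψ, c.conj_hom hφ hs hm hψ, le_antisymm ?_ ?_⟩
  · rintro _ ⟨x, rfl⟩
    exact ⟨φ ⟨s⁻¹ * (x : Ω) * s, hm x⟩, ⟨_, rfl⟩, (hψ x).symm⟩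
  · rintro _ ⟨_, ⟨u, rfl⟩, rfl⟩
    refine ⟨⟨s * (u : Ω) * s⁻¹, u, u.2, rfl⟩, (hψ _).trans ?_⟩
    show s * φ _ * s⁻¹ = s * φ u * s⁻¹
    congr 2
    exact congrArg φ (Subtype.ext (show s⁻¹ * (s * (u : Ω) * s⁻¹) * s = u by group))

theorem map_conj_conj (U : Subgroup Ω) (s t : Ω) :
    (U.map (MulAut.conj t).toMonoidHom).map (MulAut.conj s).toMonoidHom =
      U.map (MulAut.conj (s * t)).toMonoidHom := by
  rw [Subgroup.map_map]
  congr 1
  ext x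
  simp [mul_assoc]

theorem map_conj_of_mem {U : Subgroup Ω} {n : Ω} (hn : n ∈ Subgroup.normalizer (U : Set Ω)) :
    U.map (MulAut.conj n).toMonoidHom = U := by
  refine le_antisymm ?_ fun x hx => ⟨n⁻¹ * x * n, ?_, ?_⟩
  · rintro _ ⟨x, hx, rfl⟩
    exact mem_normalizer_conj hn hx
  · have := mem_normalizer_conj (inv_mem hn) hx
    rwa [inv_inv] at this
  · show n * (n⁻¹ * x * n) * n⁻¹ = x
    group

theorem isConj_conj_of_mem_T {U : Subgroup Ω} (hU : U ≤ T) {t : Ω} (ht : t ∈ T) :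
    E.IsConj U (U.map (MulAut.conj t).toMonoidHom) :=
  ⟨conjHom U t, E.conj_mem hU ht, le_antisymm
    (by rintro _ ⟨x, rfl⟩; exact ⟨x, x.2, rfl⟩) (by rintro _ ⟨x, hx, rfl⟩; exact ⟨⟨x, hx⟩, rfl⟩)⟩

theorem card_map_conj (H : Subgroup Ω) (s : Ω) :
    Nat.card (H.map (MulAut.conj s).toMonoidHom) = Nat.card H :=
  Subgroup.card_map_of_injective (MulAut.conj s).injective

theorem normalizerIn_map_conj {K : Subgroup Ω} {s : Ω}
    (hs : s ∈ Subgroup.normalizer (K : Set Ω)) (U : Subgroup Ω) :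
    normalizerIn K (U.map (MulAut.conj s).toMonoidHom) =
      (normalizerIn K U).map (MulAut.conj s).toMonoidHom := by
  have h1 : K.map (MulAut.conj s).toMonoidHom = K := map_conj_of_mem hs
  conv_lhs => rw [← h1]
  show K.map _ ⊓ Subgroup.normalizer _ = _
  rw [normalizerIn, Subgroup.map_inf _ _ _ (MulAut.conj s).injective, ← map_conj_normalizer]

theorem Ctx.conjT_mem (c : Ctx F E p R) {s : Ω} (hs : s ∈ R) :
    s ∈ Subgroup.normalizer (T : Set Ω) := stronglyClosed_le_normalizer c.closed (c.rs hs)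

/-- Cardinality of `N_R(U)` through its image modulo `T`. -/
theorem card_eq_mul {G' : Type*} [Group G'] {K H : Subgroup Ω} (q : ↥K →* G') [Finite K]
    (hH : H ≤ K)
    (hq : q.ker = T.subgroupOf K) :
    Nat.card H = Nat.card ↥(T ⊓ H) * Nat.card ((H.subgroupOf K).map q) := by
  set f : ↥(H.subgroupOf K) →* ↥((H.subgroupOf K).map q) := (q.subgroupMap (H.subgroupOf K))
  have hf : Function.Surjective f := MonoidHom.subgroupMap_surjective q _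
  have h1 := Subgroup.card_mul_index f.ker
  rw [Subgroup.index_ker, MonoidHom.range_eq_top.mpr hf, Subgroup.card_top] at h1
  rw [← Nat.card_congr (Subgroup.subgroupOfEquivOfLe hH).toEquiv, ← h1]
  congr 1
  let e : ↥f.ker ≃ ↥(T ⊓ H) :=
    { toFun := fun x => ⟨((x : ↥(H.subgroupOf K)) : ↥K), by
        have : q ((x : ↥(H.subgroupOf K)) : ↥K) = 1 := congrArg Subtype.val (MonoidHom.mem_ker.mp x.2)
        exact ⟨hq.le (MonoidHom.mem_ker.mpr this), x.1.2⟩⟩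
      invFun := fun y => ⟨⟨⟨y, hH y.2.2⟩, y.2.2⟩, MonoidHom.mem_ker.mpr (Subtype.ext
        (MonoidHom.mem_ker.mp (hq.ge (y.2.1 : (⟨(y : Ω), hH y.2.2⟩ : ↥K) ∈ T.subgroupOf K))))⟩
      left_inv := fun x => rfl
      right_inv := fun y => rfl }
  exact Nat.card_congr e

theorem card_normalizerIn_le (c : Ctx F E p R) {U U' : Subgroup Ω} (hU : Good E R U)
    {φ : U →* Ω} (hφ : φ ∈ (cSys c.toSetup c.rs).Hom U) (hr : φ.range = U') :
    Nat.card (normalizerIn R U') ≤ Nat.card (normalizerIn R U) := by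
  haveI := c.finT
  haveI : Finite R := finite_of_le c.rs
  haveI hn : (T.subgroupOf R).Normal :=
    ⟨fun x hx g => c.conj_mem (c.rs g.2) hx⟩
  obtain ⟨-, -, -, s, hs, -, e, he, hex⟩ := hφ
  have hUT : U ≤ T := hU.1.1
  set e' := e.comp (Subgroup.inclusion (le_inf le_rfl hUT : U ≤ U ⊓ T)) with he'
  have he'E : e' ∈ E.Hom U := restrict_mem he _
  set U₂ := e'.range with hU₂
  have hU'eq : U' = U₂.map (MulAut.conj s).toMonoidHom := by
    rw [← hr]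
    ext y
    constructor
    · rintro ⟨x, rfl⟩
      exact ⟨e' x, ⟨x, rfl⟩, (hex x (hUT x.2)).symm⟩
    · rintro ⟨_, ⟨x, rfl⟩, rfl⟩
      exact ⟨x, hex x (hUT x.2)⟩
  have hsR : s ∈ Subgroup.normalizer (R : Set Ω) := Subgroup.le_normalizer hs
  rw [hU'eq, normalizerIn_map_conj hsR, card_map_conj]
  have hconj : E.IsConj U U₂ := ⟨e', he'E, rfl⟩
  let q := QuotientGroup.mk' (T.subgroupOf R)
  have hq : q.ker = T.subgroupOf R := QuotientGroup.ker_mk' _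
  rw [card_eq_mul q (normalizerIn_le R U₂) hq, card_eq_mul q (normalizerIn_le R U) hq]
  have hinf : ∀ V : Subgroup Ω, T ⊓ normalizerIn R V = normalizerIn T V := fun V =>
    le_antisymm (fun x hx => ⟨hx.1, hx.2.2⟩) fun x hx => ⟨hx.1, c.tr hx.1, hx.2⟩
  rw [hinf, hinf]
  refine Nat.mul_le_mul (hU.1.2 _ hconj) ?_
  haveI : Finite (R ⧸ T.subgroupOf R) := inferInstance
  refine Subgroup.card_le_of_le ?_
  rintro _ ⟨⟨n, hn⟩, hnN, rfl⟩
  have h1 : E.IsConj U (U.map (MulAut.conj n).toMonoidHom) := by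
    have h2 := isConj_conj_hom c hconj (c.rs hn)
    rw [map_conj_of_mem (Subgroup.mem_subgroupOf.mp hnN).2] at h2
    exact CfsgLib.Alperin.IsConj.trans hconj (CfsgLib.Alperin.IsConj.symm h2)
  obtain ⟨m, hm, t, ht, hnt⟩ := hU.2 n hn h1
  refine ⟨⟨m, hm.1⟩, hm, ?_⟩
  refine (QuotientGroup.eq (s := T.subgroupOf R)).mpr ?_
  show m⁻¹ * n ∈ T
  rw [hnt, inv_mul_cancel_left]
  exact ht

/-- Local maps are conjugation by an element of `R` modulo `T`. -/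
theorem Loc.exists_modT (c : Ctx F E p R) {U : Subgroup Ω} (l : Loc F E p R U) {P : Subgroup Ω}
    {φ : P →* Ω} (hφ : φ ∈ l.sys.Hom P) :
    ∃ s ∈ R, ∀ x : P, (s * (x : Ω) * s⁻¹)⁻¹ * φ x ∈ T := by
  obtain ⟨hP, hm, g, hg⟩ := hφ
  obtain ⟨j, hj, m, rfl⟩ := l.decomp g
  refine ⟨m, m.2.1, fun x => ?_⟩
  set X := m * (⟨x, hP x.2⟩ : ↥(normalizerIn R U)) * m⁻¹ with hX
  have h1 : l.ι (X⁻¹ * ⟨φ x, hm x⟩) ∈ l.J := by
    rw [map_mul, ← hg x, map_inv, show j * l.ι m * l.ι ⟨x, hP x.2⟩ * (j * l.ι m)⁻¹ =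
      j * l.ι X * j⁻¹ by rw [hX, map_mul, map_mul, map_inv]; group,
      show (l.ι X)⁻¹ * (j * l.ι X * j⁻¹) = (l.ι X)⁻¹ * j * l.ι X * j⁻¹ by group]
    refine l.J.mul_mem ?_ (l.J.inv_mem hj)
    have := l.normal.conj_mem j hj (l.ι X)⁻¹
    rwa [inv_inv] at this
  exact (l.inter _).mp h1

/-- Local maps on sources meeting `T` in `U` belong to the ambient system. -/
theorem Loc.mem_cSys (c : Ctx F E p R) {U : Subgroup Ω} (hUT : U ≤ T) (l : Loc F E p R U)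
    {P : Subgroup Ω} (hUP : U ≤ P) (hPT : P ⊓ T ≤ U) {φ : P →* Ω} (hφ : φ ∈ l.sys.Hom P) :
    φ ∈ (cSys c.toSetup c.rs).Hom P := by
  obtain ⟨hP, hm, g, hg⟩ := hφ
  have hφF : φ ∈ F.Hom P := l.sys_le_F _ ⟨hP, hm, g, hg⟩
  refine ⟨hφF, hP.trans (normalizerIn_le R U), fun x => (hm x).1, ?_⟩
  obtain ⟨j, hj, m, rfl⟩ := l.decomp g
  refine ⟨m, m.2.1, fun x => ?_, ?_⟩
  · set X := m * (⟨x, hP x.2⟩ : ↥(normalizerIn R U)) * m⁻¹ with hX
    have h1 : l.ι (X⁻¹ * ⟨φ x, hm x⟩) ∈ l.J := by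
      rw [map_mul, ← hg x, map_inv, show j * l.ι m * l.ι ⟨x, hP x.2⟩ * (j * l.ι m)⁻¹ =
        j * l.ι X * j⁻¹ by rw [hX, map_mul, map_mul, map_inv]; group,
        show (l.ι X)⁻¹ * (j * l.ι X * j⁻¹) = (l.ι X)⁻¹ * j * l.ι X * j⁻¹ by group]
      refine l.J.mul_mem ?_ (l.J.inv_mem hj)
      have := l.normal.conj_mem j hj (l.ι X)⁻¹
      rwa [inv_inv] at this
    exact (l.inter _).mp h1
  · -- the part inside `T`
    have hUN : U ≤ normalizerIn R U := le_normalizerIn (hUT.trans c.tr)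
    let a : MulAut U := l.ρ j
    have haE : U.subtype.comp a.toMonoidHom ∈ E.Hom U :=
      (mem_autGroup_iff E hUT).mp (l.rhoJ j hj)
    have hm' : ∀ x : ↥(P ⊓ T), (m : Ω) * x * (m : Ω)⁻¹ ∈ U := fun x =>
      mem_normalizer_conj m.2.2 (hPT x.2)
    let e : ↥(P ⊓ T) →* Ω := (MulAut.conj (m : Ω)⁻¹).toMonoidHom.comp
      ((U.subtype.comp a.toMonoidHom).comp
        (((MulAut.conj (m : Ω)).toMonoidHom.comp (P ⊓ T).subtype).codRestrict U hm'))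
    refine ⟨e, c.conj_hom haE (S.inv_mem (c.rs m.2.1)) (fun x => by rw [inv_inv]; exact hm' x)
      (fun x => ?_), fun x hx => ?_⟩
    · show (m : Ω)⁻¹ * ((a ⟨_, hm' x⟩ : U) : Ω) * (m : Ω)⁻¹⁻¹ = _
      congr 2
      exact congrArg (fun v : U => ((a v : U) : Ω)) (Subtype.ext (by simp))
    · have hxU : (x : Ω) ∈ U := hPT ⟨x.2, hx⟩
      have h1 := (hg x).symm.trans (l.conj _ ⟨x, hxU⟩ (hP x.2) (hUN (l.ρ _ _).2))
      have h2 := congrArg (fun v : ↥(normalizerIn R U) => (v : Ω)) (l.inj h1)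
      rw [show φ x = _ from h2]
      show ((l.ρ (j * l.ι m) ⟨x, hxU⟩ : U) : Ω) = (m : Ω) *
        ((m : Ω)⁻¹ * ((a ⟨_, hm' ⟨x, x.2, hx⟩⟩ : U) : Ω) * (m : Ω)⁻¹⁻¹) * (m : Ω)⁻¹
      rw [map_mul, MulAut.mul_apply]
      have h3 : l.ρ (l.ι m) ⟨x, hxU⟩ = ⟨_, hm' ⟨x, x.2, hx⟩⟩ := Subtype.ext (l.rho m _)
      rw [h3]
      group
      rfl

/-- The generators of the product system. -/
def IsGen (F : FusionSystem S) (E : FusionSystem T) (p : ℕ) (R : Subgroup Ω) (P : Subgroup Ω)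
    (φ : P →* Ω) : Prop :=
  (P ≤ R ∧ ∃ g ∈ R, φ = conjHom P g) ∨
    ∃ U : Subgroup Ω, E.IsCentric U ∧ Good E R U ∧
      ∃ l : Loc F E p R U, U ≤ P ∧ P ⊓ T ≤ U ∧ φ ∈ l.sys.Hom P

/-- The product system. -/
def dSys (c : Ctx F E p R) : FusionSystem R where
  Hom P := {φ | φ ∈ (cSys c.toSetup c.rs).Hom P ∧ ∀ X : FusionSystem R,
    (∀ (Q : Subgroup Ω) (ψ : Q →* Ω), IsGen F E p R Q ψ → ψ ∈ X.Hom Q) → φ ∈ X.Hom P}
  le_of_mem hφ := (cSys c.toSetup c.rs).le_of_mem hφ.1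
  injective_of_mem hφ := (cSys c.toSetup c.rs).injective_of_mem hφ.1
  conj_mem hP hg := ⟨(cSys c.toSetup c.rs).conj_mem hP hg, fun X _ => X.conj_mem hP hg⟩
  comp_mem hφ hψ h := ⟨(cSys c.toSetup c.rs).comp_mem hφ.1 hψ.1 h,
    fun X hX => X.comp_mem (hφ.2 X hX) (hψ.2 X hX) h⟩
  inv_mem {P φ} hφ := by
    obtain ⟨θ, hθ, hθx⟩ := (cSys c.toSetup c.rs).inv_mem hφ.1
    refine ⟨θ, ⟨hθ, fun X hX => ?_⟩, hθx⟩
    obtain ⟨θ', hθ', hθ'x⟩ := X.inv_mem (hφ.2 X hX)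
    refine mem_of_apply_eq hθ' ?_
    rintro ⟨_, x, rfl⟩
    rw [hθx, hθ'x]

theorem dSys_le_cSys (c : Ctx F E p R) : (dSys c).IsSubsystemOf (cSys c.toSetup c.rs) :=
  fun _ _ h => h.1

theorem dSys_le_F (c : Ctx F E p R) : (dSys c).IsSubsystemOf F :=
  fun _ _ h => h.1.1

theorem dSys_gen (c : Ctx F E p R) {P : Subgroup Ω} {φ : P →* Ω} (h : IsGen F E p R P φ) :
    φ ∈ (dSys c).Hom P := by
  refine ⟨?_, fun X hX => hX P φ h⟩
  rcases h with ⟨hP, g, hg, rfl⟩ | ⟨U, hU, -, l, hUP, hPT, hφ⟩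
  · exact (cSys c.toSetup c.rs).conj_mem hP hg
  · exact l.mem_cSys c hU.1 hUP hPT hφ

/-- A `C`-map fixing a good subgroup is realized in its local data modulo the centre. -/
theorem exists_realizing_cMap (c : Ctx F E p R) {U : Subgroup Ω} (hU : E.IsCentric U)
    (hgood : Good E R U) (l : Loc F E p R U) {Q : Subgroup Ω} (hUQ : U ≤ Q)
    (hQN : Q ≤ normalizerIn R U) {φ : Q →* Ω} (hφ : φ ∈ (cSys c.toSetup c.rs).Hom Q)
    (hfix : ∀ x : Q, (x : Ω) ∈ U → φ x ∈ U) :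
    ∃ (hφN : ∀ x, φ x ∈ normalizerIn R U) (g : l.G),
      (∀ x : U, ((l.ρ g x : U) : Ω) = φ ⟨x, hUQ x.2⟩) ∧
      ∀ x : Q, ∃ z : ↥(normalizerIn R U), (z : Ω) ∈ U ∧ (∀ u ∈ U, (z : Ω) * u = u * z) ∧
        g * l.ι ⟨x, hQN x.2⟩ * g⁻¹ = l.ι (⟨φ x, hφN x⟩ * z) := by
  haveI := c.finT
  obtain ⟨hφF, hQR, hφR, s, hs, hmod, e, he, hex⟩ := hφ
  have hUT := hU.1
  haveI := finite_of_le (hUT.trans c.le)
  set φU : U →* Ω := φ.comp (Subgroup.inclusion hUQ) with hφU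
  have hrU : φU.range = U := Subgroup.eq_of_le_of_card_ge
    (by rintro _ ⟨x, rfl⟩; exact hfix _ x.2)
    (card_range_eq (F.injective_of_mem (restrict_mem hφF hUQ : φU ∈ F.Hom U))).ge
  have hφN : ∀ x, φ x ∈ normalizerIn R U := fun x => by
    refine ⟨hφR x, Subgroup.mem_normalizer_iff.mpr fun v => ?_⟩
    have key : ∀ (x : Q) {v : Ω}, v ∈ U → φ x * v * (φ x)⁻¹ ∈ U := by
      intro x v hv
      obtain ⟨u, rfl⟩ := hrU.ge hv
      rw [← map_inv, hφU, MonoidHom.comp_apply, ← map_mul, ← map_mul]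
      exact hfix _ (mem_normalizer_conj (hQN x.2).2 u.2)
    refine ⟨key x, fun hv => ?_⟩
    have := key x⁻¹ hv
    rw [map_inv] at this
    simpa [mul_assoc] using this
  set e' := e.comp (Subgroup.inclusion (le_inf hUQ hUT : U ≤ Q ⊓ T)) with he'
  have he'E : e' ∈ E.Hom U := restrict_mem he _
  have hconj : E.IsConj U (U.map (MulAut.conj s⁻¹).toMonoidHom) := by
    refine ⟨e', he'E, le_antisymm ?_ ?_⟩
    · rintro _ ⟨x, rfl⟩
      refine ⟨φU x, hrU.le ⟨x, rfl⟩, ?_⟩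
      show s⁻¹ * φ _ * s⁻¹⁻¹ = _
      rw [hex (Subgroup.inclusion hUQ x) (hUT x.2)]
      show s⁻¹ * (s * e' x * s⁻¹) * s⁻¹⁻¹ = _
      group
    · rintro _ ⟨v, hv, rfl⟩
      obtain ⟨x, rfl⟩ := hrU.ge hv
      refine ⟨x, ?_⟩
      show e' x = s⁻¹ * φ _ * s⁻¹⁻¹
      rw [hex (Subgroup.inclusion hUQ x) (hUT x.2)]
      show _ = s⁻¹ * (s * e' x * s⁻¹) * s⁻¹⁻¹
      group
  obtain ⟨n₀, hn₀, t₀, ht₀, hst⟩ := hgood.2 _ (R.inv_mem hs) hconj
  set n := n₀⁻¹ with hn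
  have hnN : n ∈ normalizerIn R U := (normalizerIn R U).inv_mem hn₀
  set t := n₀ * t₀⁻¹ * n₀⁻¹ with ht
  have htT : t ∈ T := c.conj_mem (c.rs hn₀.1) (T.inv_mem ht₀)
  have hsnt : s = n * t := by
    have : s = (n₀ * t₀)⁻¹ := by rw [← hst, inv_inv]
    rw [this, hn, ht]
    group
  have hval : ∀ x : U, φU x = n * (t * e' x * t⁻¹) * n⁻¹ := fun x => by
    rw [hφU, MonoidHom.comp_apply, hex (Subgroup.inclusion hUQ x) (hUT x.2), hsnt]
    show n * t * e' x * (n * t)⁻¹ = _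
    group
  have hmem : ∀ x : U, t * e' x * t⁻¹ ∈ U := fun x => by
    have h1 : φU x ∈ U := hrU.le ⟨x, rfl⟩
    rw [hval] at h1
    have h2 := mem_normalizer_conj (inv_mem hnN.2) h1
    simpa [mul_assoc] using h2
  let ε : U →* Ω := (MulAut.conj t).toMonoidHom.comp e'
  have hεE : ε ∈ E.Hom U :=
    comp_mem_apply he'E (E.conj_mem (range_le he'E) htT) (fun x => ⟨x, rfl⟩) fun x => rfl
  obtain ⟨a, ha, hax⟩ := exists_aut_of_hom' E hεE hmem
  obtain ⟨g, hg1, hg2, -⟩ := l.exists_realizing c.toSetup c.rs hU hUQ hQN (φ := φ) hφN hnN ha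
    (fun x => by
      have h1 := hmod x
      have h2 : (n * (x : Ω) * n⁻¹)⁻¹ * (s * (x : Ω) * s⁻¹) ∈ T := by
        rw [hsnt, show (n * (x : Ω) * n⁻¹)⁻¹ * (n * t * (x : Ω) * (n * t)⁻¹) =
          n * (((x : Ω)⁻¹ * t * x) * t⁻¹) * n⁻¹ by group]
        exact c.conj_mem (c.rs hnN.1) (T.mul_mem (c.conj_mem' (c.rs (hQR x.2)) htT) (T.inv_mem htT))
      have := T.mul_mem h2 h1
      simpa [mul_assoc] using this)
    (fun x => by rw [hax]; exact hval x)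
  exact ⟨hφN, g, hg1, hg2⟩

end CfsgLib.FusionProduct
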