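import Cfsg.Agent.Lib.FusionProduct.Model
import Cfsg.Agent.Lib.Alperin.SubgroupSystem

/-!
The subgroup `J` of a model and the intersection of `O^p(J)` with the image of `N_S(U)`.
-/

set_option autoImplicit false
set_option linter.style.haveILetI false
set_option linter.unusedSectionVars false

namespace CfsgLib.FusionProduct

open Cfsg Cfsg.FusionSystem CfsgLib.Alperin CfsgLib.FusionSub CfsgLib.FusionBasics
open scoped commutatorElement

universe u

variable {Ω : Type u} [Group Ω] {S T : Subgroup Ω}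
variable {F : FusionSystem S} {E : FusionSystem T} {p : ℕ} [Fact p.Prime] [Finite S]

/-- Fully normalized in `F` implies fully normalized in `E`. -/
theorem Setup.isFullyNormalized_sub (h : Setup F E p) {U : Subgroup Ω} (hUT : U ≤ T)
    (hn : F.IsFullyNormalized U) : E.IsFullyNormalized U := by
  refine ⟨hUT, fun R ⟨φ, hφ, hφr⟩ => ?_⟩
  obtain ⟨ψ, hψ, hψm, -⟩ := exists_hom_normalizerIn_of_fullyNormalized h.isP h.sat hn
    (CfsgLib.Alperin.IsConj.symm ⟨φ, h.sub _ hφ, hφr⟩)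
  haveI := h.finT
  haveI := finite_of_le (normalizerIn_le T U)
  exact card_le_of_maps_to (F.injective_of_mem hψ) (inf_le_inf_right _ h.le)
    (normalizerIn_le T U) fun x hx => ⟨stronglyClosed_apply h.closed hψ x hx.1, (hψm x).2⟩

/-- Automorphisms in `E` induced by `N_S(U)` are induced by `N_T(U)`. -/
theorem Setup.exists_mem_of_conj_mem (h : Setup F E p) {U : Subgroup Ω}
    (hn : E.IsFullyNormalized U) {g : Ω} (hg : g ∈ normalizerIn S U)
    (he : conjAut U g hg.2 ∈ E.autGroup U) :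
    ∃ t ∈ normalizerIn T U, t⁻¹ * g ∈ centralizerIn S U := by
  haveI := h.finT
  haveI := finite_autGroup E hn.1
  obtain ⟨-, R, hR⟩ := (centralized_automized_of_fullyNormalized h.isPT h.esat hn).2
  haveI := finite_of_le hn.1
  haveI := finite_mulAut (P := U)
  have hle : autInducedBy T U ≤ autInducedBy S U ⊓ E.autGroup U := le_inf
    (Subgroup.closure_mono fun β ⟨t, ht, hx⟩ => ⟨t, h.le ht, hx⟩)
    (autInducedBy_le_autGroup E hn.1)
  have hcard : Nat.card (autInducedBy T U) = p ^ (Nat.card (E.autGroup U)).factorization p := by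
    rw [← Nat.card_congr (Subgroup.subgroupOfEquivOfLe (autInducedBy_le_autGroup E hn.1)).toEquiv,
      ← hR]
    exact R.card_eq_multiplicity
  have heq : autInducedBy T U = autInducedBy S U ⊓ E.autGroup U := by
    refine Subgroup.eq_of_le_of_card_ge hle ?_
    rw [hcard]
    exact card_le_sylow_card_of_le inf_le_right
      ((isPGroup_autInducedBy h.isP U).to_le inf_le_left)
  obtain ⟨t, ht, htx⟩ := mem_autInducedBy_iff.mp (heq.ge ⟨conjAut_mem hg.1 hg.2, he⟩)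
  refine ⟨t, ⟨ht, normalizer_of_induced htx⟩, S.mul_mem (S.inv_mem (h.le ht)) hg.1,
    fun u hu => ?_⟩
  have h1 : g * u * g⁻¹ = t * u * t⁻¹ := htx ⟨u, hu⟩
  calc u * (t⁻¹ * g) = t⁻¹ * (t * u * t⁻¹) * g := by group
    _ = t⁻¹ * (g * u * g⁻¹) * g := by rw [h1]
    _ = t⁻¹ * g * u := by group

namespace Model

variable {U : Subgroup Ω} (M : Model (p := p) F U) (h : Setup F E p) (hU : E.IsCentric U)

theorem finite_L : Finite M.L := M.fin

include h

/-- The image of `N_S(U)` as a Sylow subgroup. -/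
theorem exists_sylow : ∃ P : Sylow p M.L, (P : Subgroup M.L) = M.ι.range := by
  haveI := M.fin
  have hp : IsPGroup p M.ι.range :=
    (isPGroup_of_le h.isP (normalizerIn_le S U)).of_surjective M.ι.rangeRestrict
      M.ι.rangeRestrict_surjective
  obtain ⟨P, hP⟩ := hp.exists_le_sylow
  obtain ⟨g, hg⟩ := M.sylow P P.2
  refine ⟨P, (Subgroup.eq_of_le_of_card_ge hP ?_).symm⟩
  refine Nat.card_le_card_of_injective (fun x => (⟨g * (x : M.L) * g⁻¹, hg x x.2⟩ : M.ι.range))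
    fun a b hab => ?_
  exact Subtype.ext (mul_left_cancel (mul_right_cancel (congrArg Subtype.val hab)))

include hU

/-- Elements of `N_T(U)` lie in `J`. -/
theorem iota_mem_J {m : ↥(normalizerIn S U)} (hm : (m : Ω) ∈ T) : M.ι m ∈ M.J h hU := by
  have hUS := hU.1.trans h.le
  refine ⟨?_, fun v hv => ⟨m * v * m⁻¹, ?_, by simp⟩⟩
  · have : M.ρ (M.ι m) = conjAut U m m.2.2 := MulEquiv.ext fun x => Subtype.ext (M.rho m x)
    rw [this]
    exact autInducedBy_le_autGroup E hU.1 (conjAut_mem hm m.2.2)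
  · obtain ⟨u, hu, c, hc, e⟩ := mem_cSup.mp hv
    show (v : Ω)⁻¹ * ((m : Ω) * v * (m : Ω)⁻¹) ∈ U
    have h1 : (m : Ω) * u * (m : Ω)⁻¹ ∈ U := mem_normalizer_conj m.2.2 hu
    have h2 : c⁻¹ * ((m : Ω) * c * (m : Ω)⁻¹) ∈ U := by
      refine hU.2 U (isConj_refl E hU.1) ⟨?_, fun q hq => ?_⟩
      · have := T.mul_mem (h.conj_mem' hc.1 hm) (T.inv_mem hm)
        simpa [mul_assoc] using this
      · have hq' : (m : Ω)⁻¹ * q * (m : Ω)⁻¹⁻¹ ∈ U := mem_normalizer_conj (inv_mem m.2.2) hq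
        have hA : q * ((m : Ω) * c * (m : Ω)⁻¹) = (m : Ω) * c * (m : Ω)⁻¹ * q := by
          calc q * ((m : Ω) * c * (m : Ω)⁻¹)
              = m * ((m : Ω)⁻¹ * q * (m : Ω)⁻¹⁻¹ * c) * (m : Ω)⁻¹ := by group
            _ = m * (c * ((m : Ω)⁻¹ * q * (m : Ω)⁻¹⁻¹)) * (m : Ω)⁻¹ := by rw [hc.2 _ hq']
            _ = _ := by group
        have hB : q * c⁻¹ = c⁻¹ * q := (Commute.inv_right (hc.2 q hq)).eq
        rw [← mul_assoc, hB, mul_assoc, hA]; group
    set d := c⁻¹ * ((m : Ω) * c * (m : Ω)⁻¹) with hd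
    have hcomm : c⁻¹ * (u⁻¹ * ((m : Ω) * u * (m : Ω)⁻¹)) =
        u⁻¹ * ((m : Ω) * u * (m : Ω)⁻¹) * c⁻¹ :=
      ((Commute.inv_right (hc.2 _ (U.mul_mem (U.inv_mem hu) h1))).eq).symm
    have hval : (v : Ω)⁻¹ * ((m : Ω) * v * (m : Ω)⁻¹) =
        u⁻¹ * ((m : Ω) * u * (m : Ω)⁻¹) * d := by
      rw [← e, hd]
      calc (u * c)⁻¹ * ((m : Ω) * (u * c) * (m : Ω)⁻¹)
          = c⁻¹ * (u⁻¹ * ((m : Ω) * u * (m : Ω)⁻¹)) * ((m : Ω) * c * (m : Ω)⁻¹) := by group
        _ = _ := by rw [hcomm]; simp only [mul_assoc]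
    rw [hval]
    exact U.mul_mem (U.mul_mem (U.inv_mem hu) h1) h2

/-- `O^p(J)` meets the image of `N_S(U)` only in elements of `T`. -/
theorem mem_T_of_mem_pResidual (hEn : E.IsFullyNormalized U) {m : ↥(normalizerIn S U)}
    (hm : M.ι m ∈ (pResidual p (M.J h hU)).map (M.J h hU).subtype) : (m : Ω) ∈ T := by
  haveI := M.fin
  obtain ⟨P, hP⟩ := M.exists_sylow h
  obtain ⟨R, hR⟩ := exists_sylow_inf_normal P (M.J h hU)
  have hUN : U ≤ normalizerIn S U := le_normalizerIn (hU.1.trans h.le)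
  have key : ∀ {g : ↥(normalizerIn S U)}, M.ι g ∈ M.J h hU →
      ∀ {l : M.L}, l ∈ M.J h hU → ∀ {g' : ↥(normalizerIn S U)},
        l * M.ι g * l⁻¹ = M.ι g' → ((g : Ω)⁻¹ * g') ∈ T := by
    intro g hg l hl g' e
    have hρ : conjAut U (g : Ω) g.2.2 ∈ E.autGroup U := by
      have : M.ρ (M.ι g) = conjAut U (g : Ω) g.2.2 :=
        MulEquiv.ext fun x => Subtype.ext (M.rho g x)
      exact this ▸ hg.1
    obtain ⟨t, ht, hty⟩ := h.exists_mem_of_conj_mem hEn g.2 hρ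
    set t' : ↥(normalizerIn S U) := ⟨t, h.le ht.1, ht.2⟩ with ht'
    set y : ↥(normalizerIn S U) := t'⁻¹ * g with hy
    obtain ⟨y', hy', ey⟩ := hl.2 y (Subgroup.mem_sup_right hty)
    have e1 : l * M.ι t' * l⁻¹ = M.ι (g' * y'⁻¹) := by
      rw [map_mul, map_inv, ← e, ← ey, show g = t' * y by rw [hy, mul_inv_cancel_left], map_mul]
      group
    set t'' := g' * y'⁻¹ with ht''
    have hz : Subgroup.zpowers (t : Ω) ≤ normalizerIn S U :=
      Subgroup.zpowers_le.mpr ⟨h.le ht.1, ht.2⟩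
    have hconj : ∀ x : Subgroup.zpowers (t : Ω),
        ∃ w : ↥(normalizerIn S U), l * M.ι ⟨x, hz x.2⟩ * l⁻¹ = M.ι w := by
      rintro ⟨_, i, rfl⟩
      refine ⟨t'' ^ i, ?_⟩
      rw [show (⟨(fun x => t ^ x) i, hz ⟨i, rfl⟩⟩ : ↥(normalizerIn S U)) = t' ^ i from
        Subtype.ext (by simp [ht']), map_zpow, ← conj_zpow, e1, map_zpow]
    choose w hw using hconj
    let φ : Subgroup.zpowers (t : Ω) →* Ω := MonoidHom.mk' (fun x => (w x : Ω)) fun a b => by
      have : M.ι (w (a * b)) = M.ι (w a * w b) := by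
        rw [map_mul, ← hw, ← hw, ← hw]
        rw [show (⟨((a * b : Subgroup.zpowers (t : Ω)) : Ω), hz (a * b).2⟩ : ↥(normalizerIn S U)) =
          ⟨a, hz a.2⟩ * ⟨b, hz b.2⟩ from rfl, map_mul]
        group
      exact congrArg (fun x : ↥(normalizerIn S U) => (x : Ω)) (M.inj this)
    have hφ : φ ∈ F.Hom (Subgroup.zpowers (t : Ω)) :=
      M.hom l _ hz φ fun x => ⟨(w x).2, hw x⟩
    have h1 : φ ⟨t, Subgroup.mem_zpowers t⟩ = (t'' : Ω) :=
      congrArg (fun x : ↥(normalizerIn S U) => (x : Ω)) (M.inj ((hw _).symm.trans e1))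
    have h2 : (t'' : Ω) ∈ T := h1 ▸ h.closed.2 _ (Subgroup.zpowers_le.mpr ht.1) φ hφ _
    set v : Ω := (y : Ω)⁻¹ * y' with hv
    have hval : (g : Ω)⁻¹ * g' = (y : Ω)⁻¹ * ((t : Ω)⁻¹ * t'') * y * v := by
      rw [hv, hy, ht'']
      show (g : Ω)⁻¹ * g' = ((t : Ω)⁻¹ * g)⁻¹ * (t⁻¹ * (g' * (y' : Ω)⁻¹)) * ((t : Ω)⁻¹ * g) *
        (((t : Ω)⁻¹ * g)⁻¹ * y')
      group
    rw [hval]
    exact T.mul_mem (h.conj_mem' (normalizerIn_le S U y.2)
      (T.mul_mem (T.inv_mem ht.1) h2)) (hU.1 hy')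
  set T' : Subgroup (M.J h hU) :=
    ((T.subgroupOf (normalizerIn S U)).map M.ι).subgroupOf (M.J h hU) with hT'
  obtain ⟨j, hj, hje⟩ := hm
  have hjR : j ∈ (R : Subgroup (M.J h hU)) := by
    rw [hR]
    refine Subgroup.mem_subgroupOf.mpr ⟨hP.ge ?_, j.2⟩
    exact ⟨m, hje.symm⟩
  have hjK : j ∈ (R : Subgroup (M.J h hU)).focalSubgroup := by
    rw [← Subgroup.ker_transferFocal_inf_eq_focalSubgroup R]
    refine ⟨?_, hjR⟩
    refine (Subgroup.closure_le _).mpr (fun x hx => ?_) hj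
    have hQ : IsPGroup p (↥(R : Subgroup (M.J h hU)) ⧸ (R : Subgroup (M.J h hU)).focalSubgroupOf) :=
      R.2.to_quotient _
    obtain ⟨k, hk⟩ := hQ ((R : Subgroup (M.J h hU)).transferFocal x)
    exact orderOf_eq_one_iff.mp (((Nat.Coprime.coprime_dvd_left (orderOf_map_dvd _ x) hx).pow_right
      k).eq_one_of_dvd (orderOf_dvd_of_pow_eq_one hk))
  have hle : (R : Subgroup (M.J h hU)).focalSubgroup ≤ T' := by
    refine (Subgroup.closure_le _).mpr ?_
    rintro _ ⟨hmem, x, hx, u, rfl⟩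
    rw [hR, Subgroup.mem_subgroupOf, hP] at hx hmem
    obtain ⟨g, hg⟩ := hx.1
    obtain ⟨c, hc⟩ := hmem.1
    have e : (u : M.L) * M.ι g⁻¹ * (u : M.L)⁻¹ = M.ι (g⁻¹ * c) := by
      rw [map_mul, map_inv, hg, hc]
      simp only [commutatorElement_def, Subgroup.coe_mul, Subgroup.coe_inv]
      group
    have := key (g := g⁻¹) (by rw [map_inv, hg]; exact inv_mem x.2) u.2 e
    refine Subgroup.mem_subgroupOf.mpr ⟨c, ?_, hc⟩
    show (c : Ω) ∈ T
    simpa using this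
  obtain ⟨t, ht, hte⟩ := Subgroup.mem_subgroupOf.mp (hle hjK)
  rw [← M.inj (hte.trans hje)]
  exact ht

end Model

end CfsgLib.FusionProduct
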