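import Cfsg.Agent.Lib.FusionProduct.JStar
import Cfsg.Agent.Lib.Alperin.PPowerIndex

/-!
The subgroup `J* = N_T(U) O^p(J)` of a model.
-/

set_option autoImplicit false
set_option linter.style.haveILetI false
set_option linter.unusedSectionVars false

namespace CfsgLib.FusionProduct

open Cfsg Cfsg.FusionSystem CfsgLib.Alperin CfsgLib.FusionSub CfsgLib.FusionBasics

universe u

variable {Ω : Type u} [Group Ω] {S T : Subgroup Ω}
variable {F : FusionSystem S} {E : FusionSystem T} {p : ℕ} [Fact p.Prime] [Finite S]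

namespace Model

variable {U : Subgroup Ω} (M : Model (p := p) F U) (h : Setup F E p) (hU : E.IsCentric U)

/-- `O^p(J)`. -/
def jRes : Subgroup M.L := (pResidual p (M.J h hU)).map (M.J h hU).subtype

theorem jRes_le : M.jRes h hU ≤ M.J h hU := Subgroup.map_subtype_le _

theorem mem_jRes_of_coprime {l : M.L} (hl : l ∈ M.J h hU) (hc : (orderOf l).Coprime p) :
    l ∈ M.jRes h hU :=
  ⟨⟨l, hl⟩, Subgroup.subset_closure (by
    show Nat.Coprime _ p
    rwa [Subgroup.orderOf_mk]), rfl⟩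

instance jRes_normal : (M.jRes h hU).Normal := by
  refine ⟨fun a ha g => ?_⟩
  have hle : M.jRes h hU ≤ (M.jRes h hU).comap (MulAut.conj g).toMonoidHom := by
    rw [jRes, Subgroup.map_le_iff_le_comap]
    refine (Subgroup.closure_le _).mpr fun x hx => ?_
    refine M.mem_jRes_of_coprime h hU ((M.J_normal h hU).conj_mem x x.2 g) ?_
    show Nat.Coprime (orderOf ((MulAut.conj g) (x : M.L))) p
    rw [MulEquiv.orderOf_eq, Subgroup.orderOf_coe]
    exact hx
  exact hle ha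

/-- `N_T(U) O^p(J)`. -/
def jStar : Subgroup M.L :=
  (T.subgroupOf (normalizerIn S U)).map M.ι ⊔ M.jRes h hU

theorem mem_jStar {l : M.L} : l ∈ M.jStar h hU ↔
    ∃ (m : ↥(normalizerIn S U)), (m : Ω) ∈ T ∧ ∃ k ∈ M.jRes h hU, M.ι m * k = l := by
  rw [jStar, Subgroup.mem_sup_of_normal_right]
  refine ⟨?_, fun ⟨m, hm, k, hk, e⟩ => ⟨_, ⟨m, hm, rfl⟩, k, hk, e⟩⟩
  rintro ⟨_, ⟨m, hm, rfl⟩, k, hk, e⟩
  exact ⟨m, hm, k, hk, e⟩

theorem jStar_le : M.jStar h hU ≤ M.J h hU := by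
  refine sup_le ?_ (M.jRes_le h hU)
  rintro _ ⟨m, hm, rfl⟩
  exact M.iota_mem_J h hU hm

theorem iota_mem_jStar {m : ↥(normalizerIn S U)} (hm : (m : Ω) ∈ T) : M.ι m ∈ M.jStar h hU :=
  Subgroup.mem_sup_left ⟨m, hm, rfl⟩

theorem mem_T_of_mem_jStar (hEn : E.IsFullyNormalized U) {m : ↥(normalizerIn S U)}
    (hm : M.ι m ∈ M.jStar h hU) : (m : Ω) ∈ T := by
  obtain ⟨t, ht, k, hk, e⟩ := (M.mem_jStar h hU).mp hm
  have : M.ι (t⁻¹ * m) ∈ M.jRes h hU := by
    rwa [map_mul, map_inv, ← e, inv_mul_cancel_left]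
  have h2 : ((t⁻¹ * m : ↥(normalizerIn S U)) : Ω) ∈ T := M.mem_T_of_mem_pResidual h hU hEn this
  have h3 := T.mul_mem ht h2
  simpa using h3

theorem conj_mem_jStar (n : ↥(normalizerIn S U)) {l : M.L} (hl : l ∈ M.jStar h hU) :
    M.ι n * l * (M.ι n)⁻¹ ∈ M.jStar h hU := by
  obtain ⟨m, hm, k, hk, rfl⟩ := (M.mem_jStar h hU).mp hl
  refine (M.mem_jStar h hU).mpr ⟨n * m * n⁻¹, h.conj_mem n.2.1 hm, M.ι n * k * (M.ι n)⁻¹,
    (M.jRes_normal h hU).conj_mem k hk _, ?_⟩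
  rw [map_mul, map_mul, map_inv]
  group

/-- Elements of `J` trivial on a centric subgroup `Q` of `U` have `p`-power order. -/
theorem exists_pow_of_fix {Q : Subgroup Ω} (hQ : centralizerIn T Q ≤ Q) (hQU : Q ≤ U)
    (hUQ : U ≤ normalizerIn T Q) {l : M.L} (hl : l ∈ M.J h hU)
    (hfix : ∀ x : U, (x : Ω) ∈ Q → M.ρ l x = x) : ∃ k : ℕ, l ^ p ^ k = 1 := by
  haveI := h.finT
  obtain ⟨k, hk⟩ := exists_pow_dvd_of_fixes_centric h.isPT hQU hUQ hQ hfix
  obtain ⟨j, hj⟩ := M.exists_pow_of_ker h hU (l := l ^ p ^ k) (pow_mem hl _)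
    (by rw [map_pow, hk])
  exact ⟨k + j, by rw [pow_add, pow_mul, hj]⟩

include h hU in
/-- Every automorphism of `U` in `F` is induced in the model. -/
theorem exists_rho_eq (hn : F.IsFullyNormalized U) {a : MulAut U} (ha : a ∈ F.autGroup U) :
    ∃ l, M.ρ l = a := by
  have hUS := hn.1
  have haF := (mem_autGroup_iff F hUS).mp ha
  obtain ⟨χ, hχ, hχx⟩ := (receptive_of_fullyNormalized h.isP h.sat hn).2 U _ haF
    (range_subtype_comp_aut a)
  have hle : cSup S U ≤ extender S U (U.subtype.comp a.toMonoidHom) :=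
    sup_centralizerIn_le_extender haF
  haveI : Finite (cSup S U) :=
    finite_of_le ((cSup_le_normalizerIn hUS).trans (normalizerIn_le S U))
  have hmap := (map_subgroupOf_of_extends (le_extender haF) hχx).trans (range_subtype_comp_aut a)
  have hm : ∀ v, χ.comp (Subgroup.inclusion hle) v ∈ cSup S U := by
    refine apply_mem_of_sup _ (fun x => Subgroup.mem_sup_left ?_)
      (fun c => Subgroup.mem_sup_right (apply_mem_centralizerIn hχ (le_extender haF) hmap _ c.2.2))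
    exact hmap.le ⟨_, x.2, rfl⟩
  obtain ⟨β, hβ, hβx⟩ := exists_aut_of_hom' F (restrict_mem hχ hle) hm
  obtain ⟨l, hl⟩ := M.lift β hβ
  refine ⟨l, MulEquiv.ext fun x => ?_⟩
  have hUN : U ≤ normalizerIn S U := le_normalizerIn hUS
  have e1 := hl ⟨x, Subgroup.mem_sup_left x.2⟩ (hUN x.2)
    (cSup_le_normalizerIn hUS (β ⟨x, Subgroup.mem_sup_left x.2⟩).2)
  have e2 := M.conj l x (hUN x.2) (hUN (M.ρ l x).2)
  refine Subtype.ext ((congrArg (fun m : ↥(normalizerIn S U) => (m : Ω))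
    (M.inj (e2.symm.trans e1))).trans ?_)
  show ((β ⟨x, Subgroup.mem_sup_left x.2⟩ : cSup S U) : Ω) = _
  rw [hβx]
  exact hχx x x.2 _

/-- `J*` induces all of `Aut_E(U)` once `J` does. -/
theorem exists_jStar_rho (hEn : E.IsFullyNormalized U)
    (hK : ∀ a ∈ E.autGroup U, ∃ l ∈ M.J h hU, M.ρ l = a) :
    ∀ a ∈ E.autGroup U, ∃ j ∈ M.jStar h hU, M.ρ j = a := by
  haveI := M.fin
  haveI := h.finT
  suffices E.autGroup U ≤ (M.jStar h hU).map M.ρ from fun a ha => by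
    obtain ⟨j, hj, e⟩ := this ha
    exact ⟨j, hj, e⟩
  refine autGroup_le_of_pPrime h.isPT h.esat hEn ?_ ?_
  · intro b hb
    obtain ⟨t, ht, htx⟩ := mem_autInducedBy_iff.mp hb
    exact ⟨M.ι ⟨t, h.le ht, normalizer_of_induced htx⟩, M.iota_mem_jStar h hU ht,
      MulEquiv.ext fun x => Subtype.ext ((M.rho _ x).trans (htx x).symm)⟩
  · intro a ha hco
    obtain ⟨l, hl, rfl⟩ := hK a ha
    obtain ⟨k, m, hkm, hm⟩ := CfsgLib.FusionExamples.exists_coprime_power (p := p) l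
    refine mem_of_pow_prime (k := k) hco ⟨l ^ p ^ k, Subgroup.mem_sup_right
      (M.mem_jRes_of_coprime h hU (pow_mem hl _) ?_), map_pow _ _ _⟩
    exact Nat.Coprime.coprime_dvd_left (orderOf_dvd_of_pow_eq_one hkm) hm

end Model

end CfsgLib.FusionProduct
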