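import Cfsg.Agent.Lib.FusionProduct.JStarBasic

/-!
Every automorphism in `Aut_E(U)` is induced by an element of `J`: it extends to `U C_S(U)` acting
trivially modulo `U`.
-/

set_option autoImplicit false
set_option linter.style.haveILetI false
set_option linter.unusedSectionVars false

namespace CfsgLib.FusionProduct

open Cfsg Cfsg.FusionSystem CfsgLib.Alperin CfsgLib.FusionSub CfsgLib.FusionBasics

universe u

variable {Ω : Type u} [Group Ω] {S T : Subgroup Ω}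
variable {F : FusionSystem S} {E : FusionSystem T} {p : ℕ} [Fact p.Prime] [Finite S]

/-- An automorphism of `U C_S(U)` in `F`, in `E` on `U` and trivial modulo `U`, gives an element of
`J`. -/
theorem Model.exists_mem_J_of_aut {U : Subgroup Ω} (M : Model (p := p) F U) (h : Setup F E p)
    (hU : E.IsCentric U) {β : MulAut (cSup S U)} (hβ : β ∈ F.autGroup (cSup S U))
    {a : MulAut U} (ha : a ∈ E.autGroup U)
    (hau : ∀ (x : U), ((β ⟨x, Subgroup.mem_sup_left x.2⟩ : cSup S U) : Ω) = (a x : U))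
    (hmod : ∀ v : cSup S U, (v : Ω)⁻¹ * ((β v : cSup S U) : Ω) ∈ U) :
    ∃ l ∈ M.J h hU, M.ρ l = a := by
  have hUS := hU.1.trans h.le
  have hVN : cSup S U ≤ normalizerIn S U := cSup_le_normalizerIn hUS
  have hUN : U ≤ normalizerIn S U := le_normalizerIn hUS
  obtain ⟨l, hl⟩ := M.lift β hβ
  have hρ : M.ρ l = a := by
    refine MulEquiv.ext fun x => Subtype.ext ?_
    have e1 := hl ⟨x, Subgroup.mem_sup_left x.2⟩ (hUN x.2)
      (hVN (β ⟨x, Subgroup.mem_sup_left x.2⟩).2)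
    have e2 := M.conj l x (hUN x.2) (hUN (M.ρ l x).2)
    exact (congrArg (fun m : ↥(normalizerIn S U) => (m : Ω))
      (M.inj (e2.symm.trans e1))).trans (hau x)
  refine ⟨l, ⟨hρ ▸ ha, fun v hv => ?_⟩, hρ⟩
  exact ⟨⟨(β ⟨v, hv⟩ : cSup S U), hVN (β ⟨v, hv⟩).2⟩, hmod ⟨v, hv⟩, hl ⟨v, hv⟩ v.2 _⟩

/-- The extension lemma. -/
theorem exists_mem_J (h : Setup F E p) : ∀ (U : Subgroup Ω) (hU : E.IsCentric U),
    F.IsFullyNormalized U → ∀ (M : Model (p := p) F U) (a : MulAut U), a ∈ E.autGroup U →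
      ∃ l ∈ M.J h hU, M.ρ l = a := by
  haveI := h.finT
  suffices H : ∀ (n : ℕ) (U : Subgroup Ω), Nat.card T - Nat.card U = n → ∀ (hU : E.IsCentric U),
      F.IsFullyNormalized U → ∀ (M : Model (p := p) F U) (a : MulAut U), a ∈ E.autGroup U →
      ∃ l ∈ M.J h hU, M.ρ l = a from fun U hU => H _ U rfl hU
  intro n
  induction n using Nat.strong_induction_on with
  | _ n ih =>
  intro U hn hU hUn M a ha
  have hUS := hUn.1
  rcases hU.1.eq_or_lt with heq | hlt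
  · subst heq
    obtain ⟨β, hβ, hβx, hβc⟩ := h.nrm.2 a ha
    refine M.exists_mem_J_of_aut h hU hβ ha (fun x => hβx x) fun v => ?_
    obtain ⟨u, hu, c, hc, e⟩ := mem_cSup.mp v.2
    have hv : v = Subgroup.inclusion le_sup_left ⟨u, hu⟩ *
        (⟨c, Subgroup.mem_sup_right hc⟩ : cSup S U) := Subtype.ext e.symm
    have h1 := hβc ⟨c, Subgroup.mem_sup_right hc⟩ hc
    set w : Ω := ((β ⟨c, Subgroup.mem_sup_right hc⟩ : cSup S U) : Ω) with hw
    have hval : (v : Ω)⁻¹ * ((β v : cSup S U) : Ω) = u⁻¹ * (a ⟨u, hu⟩ : U) * (c⁻¹ * w) := by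
      conv_lhs => rw [hv, map_mul]
      simp only [Subgroup.coe_mul, Subgroup.coe_inclusion]
      rw [hw, show ((β (Subgroup.inclusion le_sup_left ⟨u, hu⟩) : cSup S U) : Ω) =
        ((a ⟨u, hu⟩ : U) : Ω) from hβx ⟨u, hu⟩]
      have hcomm : c⁻¹ * (u⁻¹ * ((a ⟨u, hu⟩ : U) : Ω)) = u⁻¹ * ((a ⟨u, hu⟩ : U) : Ω) * c⁻¹ :=
        ((Commute.inv_right (hc.2 _ (U.mul_mem (U.inv_mem hu) (a ⟨u, hu⟩).2))).eq).symm
      calc (u * c)⁻¹ * ((((a ⟨u, hu⟩ : U) : Ω)) *
            ((β ⟨c, Subgroup.mem_sup_right hc⟩ : cSup S U) : Ω))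
          = c⁻¹ * (u⁻¹ * ((a ⟨u, hu⟩ : U) : Ω)) *
            ((β ⟨c, Subgroup.mem_sup_right hc⟩ : cSup S U) : Ω) := by group
        _ = _ := by rw [hcomm]; simp only [mul_assoc]
    rw [hval]
    exact U.mul_mem (U.mul_mem (U.inv_mem hu) (a ⟨u, hu⟩).2) h1.1
  -- the image of `J` is normal and contains the Sylow subgroup
  haveI := M.fin
  set I := (M.J h hU).map M.ρ with hI
  have hEn := h.isFullyNormalized_sub hU.1 hUn
  haveI := finite_of_le hUS
  haveI := finite_mulAut (P := U)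
  haveI := finite_autGroup E hU.1
  have hIE : I ≤ E.autGroup U := by
    rintro _ ⟨l, hl, rfl⟩
    exact hl.1
  have hIn : ∀ c ∈ F.autGroup U, ∀ i ∈ I, c * i * c⁻¹ ∈ I := by
    rintro c hc _ ⟨l, hl, rfl⟩
    obtain ⟨g, rfl⟩ := M.exists_rho_eq h hU hUn hc
    exact ⟨g * l * g⁻¹, (M.J_normal h hU).conj_mem l hl g, by simp⟩
  have hRI : autInducedBy T U ≤ I := by
    intro b hb
    obtain ⟨t, ht, htx⟩ := mem_autInducedBy_iff.mp hb
    exact ⟨M.ι ⟨t, h.le ht, normalizer_of_induced htx⟩, M.iota_mem_J h hU ht,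
      MulEquiv.ext fun x => Subtype.ext ((M.rho _ x).trans (htx x).symm)⟩
  suffices hN : ∀ a ∈ E.autGroup U, (∀ b ∈ autInducedBy T U, a * b * a⁻¹ ∈ autInducedBy T U) →
      a ∈ I by
    obtain ⟨-, R, hR⟩ := (centralized_automized_of_fullyNormalized h.isPT h.esat hEn).2
    have hcardE : Nat.card (autInducedBy T U) =
        p ^ (Nat.card (E.autGroup U)).factorization p := by
      rw [← Nat.card_congr
        (Subgroup.subgroupOfEquivOfLe (autInducedBy_le_autGroup E hU.1)).toEquiv, ← hR]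
      exact R.card_eq_multiplicity
    have hRp : IsPGroup p (autInducedBy T U) := isPGroup_autInducedBy h.isPT U
    have hcard : Nat.card (autInducedBy T U) = p ^ (Nat.card I).factorization p := by
      refine le_antisymm (card_le_sylow_card_of_le hRI hRp) ?_
      rw [hcardE]
      exact Nat.pow_le_pow_right (Fact.out : p.Prime).pos
        ((Nat.factorization_le_iff_dvd Nat.card_pos.ne' Nat.card_pos.ne').mpr
          (Subgroup.card_dvd_of_le hIE) p)
    set B := (autInducedBy T U).map (MulAut.conj a).toMonoidHom with hB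
    have hBI : B ≤ I := by
      rintro _ ⟨b, hb, rfl⟩
      exact hIn a (autGroup_mono h.sub U ha) b (hRI hb)
    obtain ⟨u, hu, hub⟩ := exists_conj_le hRI hcard hBI (hRp.map _)
    have h1 : u * a ∈ I := hN _ (mul_mem (hIE hu) ha) fun b hb => by
      have := hub _ ⟨b, hb, rfl⟩
      simpa [mul_assoc] using this
    have h2 := I.mul_mem (I.inv_mem hu) h1
    rw [inv_mul_cancel_left] at h2
    exact h2
  clear ha a
  intro a ha hnorm
  -- extend to the normalizer in `T`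
  set N := normalizerIn T U with hNdef
  have hNT : N ≤ T := normalizerIn_le T U
  have hUN : U ≤ N := le_normalizerIn hU.1
  have haE := (mem_autGroup_iff E hU.1).mp ha
  obtain ⟨χ, hχ, hχx⟩ := (receptive_of_fullyNormalized h.isPT h.esat hEn).2 U _ haE
    (range_subtype_comp_aut a)
  have hext : N ≤ extender T U (U.subtype.comp a.toMonoidHom) := fun g hg => by
    have hb := hnorm _ (conjAut_mem hg.1 hg.2)
    obtain ⟨t, ht, htx⟩ := mem_autInducedBy_iff.mp hb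
    refine mem_extender_iff.mpr ⟨hg.1, hg.2, t, ht, fun x hx => ?_⟩
    show ((a ⟨g * x * g⁻¹, hx⟩ : U) : Ω) = t * (a x : U) * t⁻¹
    rw [← htx (a x)]
    simp only [MulAut.mul_apply, MulAut.inv_apply_self]
    rfl
  have hmap := (map_subgroupOf_of_extends (le_extender haE) hχx).trans (range_subtype_comp_aut a)
  haveI : Finite N := finite_of_le hNT
  obtain ⟨b, hb, hbx⟩ := exists_aut_of_hom' E (restrict_mem hχ hext) fun g =>
    ⟨apply_mem hχ _, (apply_mem_normalizerIn hχ (le_extender haE) hmap ⟨g, hext g.2⟩ g.2.2).2⟩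
  -- move to a fully normalized conjugate of `N`
  have hNc : E.IsCentric N := CfsgLib.FusionExamples.isCentric_of_ge hU hUN hNT
  obtain ⟨N₁, hNN, hN₁⟩ := exists_isFullyNormalized F (hNT.trans h.le)
  obtain ⟨β, hβ, hβm, hβN⟩ := exists_hom_normalizerIn_of_fullyNormalized h.isP h.sat hN₁ hNN
  have lN : N ≤ normalizerIn S N := le_normalizerIn (hNT.trans h.le)
  set βN := β.comp (Subgroup.inclusion lN) with hβNdef
  have hβNF : βN ∈ F.Hom N := restrict_mem hβ lN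
  have hr : βN.range = N₁ := (range_comp_inclusion β lN).trans hβN
  have hN₁c : E.IsCentric N₁ := hr ▸ isCentric_of_hom_invariant h.inv hNc hβNF
  set e := isoOfHom βN (F.injective_of_mem hβNF) hr with hedef
  have he : ∀ x, (e x : Ω) = βN x := fun x => rfl
  set b₁ := MulAut.congr e b with hb₁
  have hb₁x : ∀ x, b₁ (e x) = e (b x) := fun x => by
    rw [hb₁, MulAut.congr_apply]
    simp only [MulEquiv.trans_apply, MulEquiv.symm_apply_apply]
  have hb₁E : b₁ ∈ E.autGroup N₁ := by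
    refine h.aut_transport hNT hβNF hr hb fun x hm => ?_
    rw [show (⟨βN x, hm⟩ : N₁) = e x from Subtype.ext rfl, hb₁x]
    rfl
  obtain ⟨M₁⟩ := exists_model h hN₁c hN₁
  have hlt' : Nat.card T - Nat.card N₁ < n := by
    have h1 : Nat.card N₁ = Nat.card N := by rw [← hr]; exact card_range_eq (F.injective_of_mem hβNF)
    have h2 := card_lt_card hNT (CfsgLib.FusionSub.lt_normalizerIn h.isPT hlt)
    have h3 := Subgroup.card_le_of_le (K := T) hNT
    omega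
  have hEn₁ := h.isFullyNormalized_sub hN₁c.1 hN₁
  obtain ⟨j, hj, hjρ⟩ := M₁.exists_jStar_rho h hN₁c hEn₁
    (fun a ha => ih _ hlt' N₁ rfl hN₁c hN₁ M₁ a ha) b₁ hb₁E
  haveI := M₁.fin
  have hNSN : normalizerIn S U ≤ normalizerIn S N := fun g hg => ⟨hg.1,
    Subgroup.mem_normalizer_iff.mpr fun x => by
      have key : ∀ {k : Ω}, k ∈ normalizerIn S U → ∀ {y : Ω}, y ∈ N → k * y * k⁻¹ ∈ N :=
        fun {k} hk {y} hy => ⟨h.conj_mem hk.1 hy.1, by
          exact mul_mem (mul_mem hk.2 hy.2) (Subgroup.inv_mem _ hk.2)⟩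
      refine ⟨key hg, fun hx => ?_⟩
      have := key ((normalizerIn S U).inv_mem hg) hx
      simpa [mul_assoc] using this⟩
  let β' : ↥(normalizerIn S U) →* ↥(normalizerIn S N₁) :=
    (β.codRestrict _ hβm).comp (Subgroup.inclusion hNSN)
  have hβ'inj : Function.Injective β' := fun x y hxy =>
    Subgroup.inclusion_injective hNSN (F.injective_of_mem hβ (congrArg Subtype.val hxy))
  let ι' : ↥(normalizerIn S U) →* M₁.L := M₁.ι.comp β'
  have hι' : Function.Injective ι' := M₁.inj.comp hβ'inj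
  -- the stabilizer of the image of `U`
  have hUN₁ : ∀ x : U, ∃ y : N₁, (y : Ω) = βN (Subgroup.inclusion hUN x) :=
    fun x => ⟨e (Subgroup.inclusion hUN x), rfl⟩
  set U₁ := (U.subgroupOf N).map βN with hU₁
  have hU₁N : U₁ ≤ N₁ := by
    rintro _ ⟨x, -, rfl⟩
    exact hr.le ⟨x, rfl⟩
  have hU₁c : centralizerIn T U₁ ≤ U₁ := by
    have hF : βN.comp (Subgroup.inclusion hUN) ∈ F.Hom U := restrict_mem hβNF hUN
    have hc := isCentric_of_hom_invariant h.inv hU hF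
    rw [range_comp_inclusion] at hc
    exact hc.2 _ (isConj_refl E hc.1)
  have hN₁U₁ : N₁ ≤ normalizerIn T U₁ := fun y hy => ⟨hN₁c.1 hy, by
    refine Subgroup.mem_normalizer_iff.mpr fun z => ?_
    obtain ⟨g, rfl⟩ := hr.ge hy
    have key : ∀ g : N, ∀ {z : Ω}, z ∈ U₁ → βN g * z * (βN g)⁻¹ ∈ U₁ := by
      rintro g _ ⟨w, hw, rfl⟩
      rw [← map_inv, ← map_mul, ← map_mul]
      exact ⟨g * w * g⁻¹, mem_normalizer_conj g.2.2 hw, rfl⟩
    refine ⟨key g, fun hz => ?_⟩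
    have := key g⁻¹ hz
    rw [map_inv] at this
    simpa [mul_assoc] using this⟩
  set H : Subgroup M₁.L := (FusionBasics.stab N₁ U₁).comap M₁.ρ with hH
  set P₀ : Subgroup M₁.L := ι'.range with hP₀
  have hρι : ∀ (m : ↥(normalizerIn S U)) (x : N₁), ((M₁.ρ (ι' m) x : N₁) : Ω) =
      β ⟨m, hNSN m.2⟩ * x * (β ⟨m, hNSN m.2⟩)⁻¹ := fun m x => M₁.rho _ x
  have hP₀H : P₀ ≤ H := by
    have key : ∀ (m : ↥(normalizerIn S U)) (y : N₁), (y : Ω) ∈ U₁ →
        ((M₁.ρ (ι' m) y : N₁) : Ω) ∈ U₁ := by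
      rintro m y ⟨w, hw, hwy⟩
      rw [hρι, ← hwy]
      refine ⟨⟨(m : Ω) * w * (m : Ω)⁻¹, hUN (mem_normalizer_conj m.2.2 hw)⟩,
        mem_normalizer_conj m.2.2 hw, ?_⟩
      show β ⟨_, _⟩ = β _ * β (Subgroup.inclusion lN w) * (β _)⁻¹
      rw [← map_inv, ← map_mul, ← map_mul]
      rfl
    rintro _ ⟨m, rfl⟩ y
    refine ⟨key m y, fun hy => ?_⟩
    have := key m⁻¹ _ hy
    rwa [map_inv, map_inv, MulAut.inv_apply_self] at this
  set K : Subgroup M₁.L :=
    { carrier := {c | c ∈ M₁.J h hN₁c ∧ ∀ x : N₁, (x : Ω) ∈ U₁ → M₁.ρ c x = x}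
      one_mem' := ⟨one_mem _, fun x _ => by simp⟩
      mul_mem' := fun {c d} hc hd => ⟨mul_mem hc.1 hd.1, fun x hx => by
        rw [map_mul, MulAut.mul_apply, hd.2 x hx, hc.2 x hx]⟩
      inv_mem' := fun {c} hc => ⟨inv_mem hc.1, fun x hx => by
        rw [map_inv]
        conv_lhs => rw [← hc.2 x hx, MulAut.inv_apply_self]⟩ } with hK
  have hKp : IsPGroup p K := fun c => by
    obtain ⟨k, hk⟩ := M₁.exists_pow_of_fix h hN₁c hU₁c hU₁N hN₁U₁ c.2.1 c.2.2
    exact ⟨k, Subtype.ext hk⟩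
  have hKH : K ≤ H := fun c hc x => by
    constructor
    · intro hx; rw [hc.2 x hx]; exact hx
    · intro hx
      have h1 := hc.2 _ hx
      rwa [(M₁.ρ c).injective h1] at hx
  have hKnorm : ∀ g ∈ H, ∀ c ∈ K, g * c * g⁻¹ ∈ K := fun g hg c hc =>
    ⟨(M₁.J_normal h hN₁c).conj_mem c hc.1 g, fun x hx => by
      have hx' : (((M₁.ρ g)⁻¹ x : N₁) : Ω) ∈ U₁ :=
        ((FusionBasics.stab N₁ U₁).inv_mem hg x).mp hx
      simp only [map_mul, map_inv, MulAut.mul_apply]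
      rw [hc.2 _ hx', MulAut.apply_inv_self]⟩
  -- `P₀` is a Sylow subgroup of `H`
  have hP₀p : IsPGroup p P₀ :=
    (isPGroup_of_le h.isP (normalizerIn_le S U)).of_surjective ι'.rangeRestrict
      ι'.rangeRestrict_surjective
  haveI := finite_of_le (normalizerIn_le S U)
  have hmax : ∀ X : Subgroup M₁.L, X ≤ H → IsPGroup p X → Nat.card X ≤ Nat.card P₀ := by
    intro X hXH hX
    obtain ⟨g, hg⟩ := M₁.sylow X hX
    set η : U →* Ω := N₁.subtype.comp ((M₁.ρ g).toMonoidHom.comp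
      ((βN.comp (Subgroup.inclusion hUN)).codRestrict N₁ fun x => hr.le ⟨_, rfl⟩)) with hη
    have hηF : η ∈ F.Hom U := comp_mem_apply (restrict_mem hβNF hUN)
      ((mem_autGroup_iff F hN₁.1).mp (M₁.rho_mem_autGroup h hN₁c g)) (fun x => hr.le ⟨_, rfl⟩)
      fun x => rfl
    choose f hf using fun x : X => hg x x.2
    have hfinj : Function.Injective f := fun x y hxy => by
      have := (hf x).symm.trans ((congrArg M₁.ι hxy).trans (hf y))
      exact Subtype.ext (mul_left_cancel (mul_right_cancel this))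
    have hfmem : ∀ x : X, (f x : Ω) ∈ normalizerIn S η.range := by
      have key : ∀ (x : X) (z : Ω), z ∈ η.range → (f x : Ω) * z * (f x : Ω)⁻¹ ∈ η.range := by
        rintro x _ ⟨u, rfl⟩
        set y : N₁ := ⟨βN (Subgroup.inclusion hUN u), hr.le ⟨_, rfl⟩⟩ with hy
        have hyU : (y : Ω) ∈ U₁ := ⟨_, u.2, rfl⟩
        obtain ⟨w, hw, hwy⟩ := (hXH x.2 y).mp hyU
        refine ⟨⟨w, hw⟩, ?_⟩
        show ((M₁.ρ g ⟨βN _, _⟩ : N₁) : Ω) = _
        rw [show (⟨βN (Subgroup.inclusion hUN ⟨(w : Ω), hw⟩), hr.le ⟨_, rfl⟩⟩ : N₁) =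
          M₁.ρ (x : M₁.L) y from Subtype.ext hwy]
        have h1 := M₁.rho (f x) (M₁.ρ g y)
        rw [hf x] at h1
        simp only [map_mul, map_inv, MulAut.mul_apply, MulAut.inv_apply_self] at h1
        exact h1
      intro x
      refine ⟨normalizerIn_le S N₁ (f x).2, Subgroup.mem_normalizer_iff.mpr fun z =>
        ⟨key x z, fun hz => ?_⟩⟩
      have hfi : ((f x⁻¹ : ↥(normalizerIn S N₁)) : Ω) = (f x : Ω)⁻¹ := by
        refine congrArg (fun m : ↥(normalizerIn S N₁) => (m : Ω))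
          (M₁.inj (a₂ := (f x)⁻¹) ?_)
        rw [map_inv, hf, hf]
        show g * ((x : M₁.L))⁻¹ * g⁻¹ = _
        group
      have := key x⁻¹ _ hz
      rw [hfi] at this
      simpa [mul_assoc] using this
    haveI := finite_of_le (normalizerIn_le S η.range)
    calc Nat.card X ≤ Nat.card (normalizerIn S η.range) :=
          Nat.card_le_card_of_injective (fun x => (⟨f x, hfmem x⟩ : ↥(normalizerIn S η.range)))
            fun x y hxy => hfinj (Subtype.ext (congrArg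
              (fun m : ↥(normalizerIn S η.range) => (m : Ω)) hxy))
      _ ≤ Nat.card (normalizerIn S U) := hUn.2 _ ⟨η, hηF, rfl⟩
      _ = Nat.card P₀ := Nat.card_congr (MonoidHom.ofInjective hι').toEquiv
  have hKP : K ≤ P₀ := by
    have hsup : IsPGroup p ↥(K ⊔ P₀ : Subgroup M₁.L) :=
      hKp.to_sup_of_normal_left' hP₀p fun g hg => Subgroup.mem_normalizer_iff.mpr fun c =>
        ⟨hKnorm g (hP₀H hg) c, fun hc => by
          have := hKnorm g⁻¹ (H.inv_mem (hP₀H hg)) _ hc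
          simpa [mul_assoc] using this⟩
    have := Subgroup.eq_of_le_of_card_ge (le_sup_right : P₀ ≤ K ⊔ P₀)
      (hmax _ (sup_le hKH hP₀H) hsup)
    exact le_sup_left.trans this.ge
  -- commutators with elements centralizing `U`
  have hcomm : ∀ (c : Ω) (hc : c ∈ centralizerIn S U) (hcN : c ∈ normalizerIn S U),
      ∃ (z : Ω) (hz : z ∈ U) (hzN : c * z ∈ normalizerIn S U),
        j * ι' ⟨c, hcN⟩ * j⁻¹ = ι' ⟨c * z, hzN⟩ := by
    intro c hc hcN
    set y := ι' ⟨c, hcN⟩ with hy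
    have hc' : y⁻¹ * (j * y * j⁻¹) ∈ M₁.jStar h hN₁c := by
      have h1 : y⁻¹ * j * y ∈ M₁.jStar h hN₁c := by
        have := M₁.conj_mem_jStar h hN₁c (β' ⟨c, hcN⟩)⁻¹ hj
        rwa [map_inv, inv_inv] at this
      rw [show y⁻¹ * (j * y * j⁻¹) = y⁻¹ * j * y * j⁻¹ by group]
      exact mul_mem h1 (inv_mem hj)
    have hyfix : ∀ x : N₁, (x : Ω) ∈ U₁ → M₁.ρ y x = x := by
      rintro x ⟨w, hw, hwx⟩
      refine Subtype.ext ((hρι _ x).trans ?_)
      rw [← hwx]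
      show β ⟨c, _⟩ * β (Subgroup.inclusion lN w) * (β ⟨c, _⟩)⁻¹ = β (Subgroup.inclusion lN w)
      rw [← map_inv, ← map_mul, ← map_mul]
      refine congrArg β (Subtype.ext ?_)
      show c * (w : Ω) * c⁻¹ = w
      rw [← hc.2 (w : Ω) hw, mul_inv_cancel_right]
    have hjU : ∀ x : N₁, (x : Ω) ∈ U₁ → (((M₁.ρ j)⁻¹ x : N₁) : Ω) ∈ U₁ := by
      rintro x ⟨w, hw, hwx⟩
      refine ⟨b⁻¹ w, ?_, ?_⟩
      · show ((b⁻¹ w : N) : Ω) ∈ U
        obtain ⟨v, hv⟩ : ∃ v : U, a v = ⟨w, hw⟩ := a.surjective _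
        have h2 : b (Subgroup.inclusion hUN v) = w := by
          refine Subtype.ext ((hbx _).trans ?_)
          exact ((hχx v v.2 _).trans (congrArg Subtype.val hv))
        rw [← h2, MulAut.inv_apply_self]
        exact v.2
      · have h3 : (M₁.ρ j)⁻¹ x = e (b⁻¹ w) := by
          rw [hjρ]
          apply b₁.injective
          rw [MulAut.apply_inv_self, hb₁x, MulAut.apply_inv_self]
          exact Subtype.ext hwx.symm
        rw [h3]
        rfl
    have hcK : y⁻¹ * (j * y * j⁻¹) ∈ K := by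
      refine ⟨M₁.jStar_le h hN₁c hc', fun x hx => ?_⟩
      simp only [map_mul, map_inv, MulAut.mul_apply]
      rw [hyfix _ (hjU x hx), MulAut.apply_inv_self]
      conv_lhs => rw [← hyfix x hx]
      rw [MulAut.inv_apply_self]
    obtain ⟨m, hm⟩ := hKP hcK
    have hmT : (m : Ω) ∈ T := by
      have h1 := M₁.mem_T_of_mem_jStar h hN₁c hEn₁ (m := β' m) (by
        show ι' m ∈ _
        rw [hm]; exact hc')
      exact mem_of_apply_mem h.closed hβ ⟨m, hNSN m.2⟩ h1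
    have hmC : (m : Ω) ∈ centralizerIn T U := by
      refine ⟨hmT, fun u hu => ?_⟩
      set x : N₁ := ⟨βN ⟨u, hUN hu⟩, hr.le ⟨_, rfl⟩⟩ with hx
      have h1 := hρι m x
      rw [hm, hcK.2 x ⟨_, hu, rfl⟩] at h1
      change β _ = β _ * β _ * (β _)⁻¹ at h1
      rw [← map_inv, ← map_mul, ← map_mul] at h1
      have h2 := congrArg Subtype.val (F.injective_of_mem hβ h1)
      change u = (m : Ω) * u * (m : Ω)⁻¹ at h2
      conv_lhs => rw [h2]
      group
    have hmU : (m : Ω) ∈ U := hU.2 U (isConj_refl E hU.1) hmC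
    refine ⟨m, hmU, mul_mem hcN m.2, ?_⟩
    rw [show (⟨c * m, mul_mem hcN m.2⟩ : ↥(normalizerIn S U)) = ⟨c, hcN⟩ * m from rfl, map_mul,
      hm, ← hy]
    group
  -- the automorphism of `U C_S(U)`
  have hVN : cSup S U ≤ normalizerIn S U := cSup_le_normalizerIn hUS
  have hUN' : U ≤ normalizerIn S U := le_normalizerIn hUS
  have hconj : ∀ v : cSup S U, ∃ w : ↥(normalizerIn S U), (v : Ω)⁻¹ * w ∈ U ∧
      (∀ hv : (v : Ω) ∈ U, (w : Ω) = (a ⟨v, hv⟩ : U)) ∧
      j * ι' ⟨v, hVN v.2⟩ * j⁻¹ = ι' w := by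
    intro v
    have hu' : ∀ (u : Ω) (hu : u ∈ U),
        j * ι' ⟨u, hUN' hu⟩ * j⁻¹ = ι' ⟨(a ⟨u, hu⟩ : U), hUN' (a ⟨u, hu⟩).2⟩ := by
      intro u hu
      have hx : (e ⟨u, hUN hu⟩ : Ω) ∈ normalizerIn S N₁ :=
        le_normalizerIn hN₁.1 (e ⟨u, hUN hu⟩).2
      have h1 := M₁.conj j (e ⟨u, hUN hu⟩) hx (le_normalizerIn hN₁.1 (M₁.ρ j _).2)
      refine h1.trans ?_
      refine congrArg M₁.ι (Subtype.ext ?_)
      show ((M₁.ρ j (e ⟨u, hUN hu⟩) : N₁) : Ω) = β ⟨_, _⟩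
      rw [hjρ, hb₁x]
      refine congrArg β (Subtype.ext ?_)
      exact (hbx _).trans (hχx u hu _)
    obtain ⟨u, hu, c, hc, e'⟩ := mem_cSup.mp v.2
    have hcN := centralizerIn_le_normalizerIn S U hc
    obtain ⟨z, hz, hzN, hjc⟩ := hcomm c hc hcN
    refine ⟨⟨(a ⟨u, hu⟩ : U), hUN' (a ⟨u, hu⟩).2⟩ * ⟨c * z, hzN⟩, ?_, fun hv => ?_, ?_⟩
    · show (v : Ω)⁻¹ * ((a ⟨u, hu⟩ : U) * (c * z)) ∈ U
      rw [← e']
      have hc1 : c⁻¹ * (u⁻¹ * ((a ⟨u, hu⟩ : U) : Ω)) = u⁻¹ * ((a ⟨u, hu⟩ : U) : Ω) * c⁻¹ :=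
        ((Commute.inv_right (hc.2 _ (U.mul_mem (U.inv_mem hu) (a ⟨u, hu⟩).2))).eq).symm
      have : (u * c)⁻¹ * (((a ⟨u, hu⟩ : U) : Ω) * (c * z)) =
          u⁻¹ * ((a ⟨u, hu⟩ : U) : Ω) * z := by
        calc (u * c)⁻¹ * (((a ⟨u, hu⟩ : U) : Ω) * (c * z))
            = c⁻¹ * (u⁻¹ * ((a ⟨u, hu⟩ : U) : Ω)) * (c * z) := by group
          _ = _ := by rw [hc1]; group
      rw [this]
      exact U.mul_mem (U.mul_mem (U.inv_mem hu) (a ⟨u, hu⟩).2) hz
    · have hcU : c ∈ U := by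
        have := U.mul_mem (U.inv_mem hu) hv
        rwa [← e', inv_mul_cancel_left] at this
      have h1 := hu' c hcU
      rw [hjc] at h1
      have h2 : c * z = ((a ⟨c, hcU⟩ : U) : Ω) :=
        congrArg (fun m : ↥(normalizerIn S U) => (m : Ω)) (hι' h1)
      show ((a ⟨u, hu⟩ : U) : Ω) * (c * z) = _
      rw [h2, show (⟨(v : Ω), hv⟩ : U) = ⟨u, hu⟩ * ⟨c, hcU⟩ from Subtype.ext e'.symm, map_mul]
      rfl
    · rw [show (⟨(v : Ω), hVN v.2⟩ : ↥(normalizerIn S U)) = ⟨u, hUN' hu⟩ * ⟨c, hcN⟩ from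
        Subtype.ext e'.symm, map_mul, map_mul, ← hu' u hu, ← hjc]
      group
  choose w hwmod hwU hwconj using hconj
  have hwV : ∀ v : cSup S U, (w v : Ω) ∈ cSup S U := fun v => by
    have := mul_mem v.2 (Subgroup.mem_sup_left (T := centralizerIn S U) (hwmod v))
    rwa [mul_inv_cancel_left] at this
  let ψ : cSup S U →* Ω := MonoidHom.mk' (fun v => (w v : Ω)) fun v v' => by
    refine congrArg (fun m : ↥(normalizerIn S U) => (m : Ω)) (hι' (a₂ := w v * w v') ?_)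
    rw [map_mul ι', ← hwconj, ← hwconj, ← hwconj,
      show (⟨((v * v' : cSup S U) : Ω), hVN (v * v').2⟩ : ↥(normalizerIn S U)) =
        ⟨v, hVN v.2⟩ * ⟨v', hVN v'.2⟩ from rfl, map_mul ι']
    group
  have hψF : ψ ∈ F.Hom (cSup S U) := by
    set V₁ := ((cSup S U).subgroupOf (normalizerIn S N)).map β with hV₁
    have hV₁N : V₁ ≤ normalizerIn S N₁ := by
      rintro _ ⟨x, -, rfl⟩
      exact hβm x
    obtain ⟨θ, hθ, -, hθx, -⟩ := exists_inverse hβ rfl
    have hsrc : ∀ v : cSup S U, β ⟨v, hNSN (hVN v.2)⟩ ∈ V₁ := fun v => ⟨_, v.2, rfl⟩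
    have hV : ∀ y : V₁, ∃ v : cSup S U, β ⟨v, hNSN (hVN v.2)⟩ = y := by
      rintro ⟨_, ⟨x, hxN⟩, hx, rfl⟩
      exact ⟨⟨x, hx⟩, rfl⟩
    have hu₁ : ∀ y : V₁, ∃ m : ↥(normalizerIn S N₁),
        j * M₁.ι ⟨y, hV₁N y.2⟩ * j⁻¹ = M₁.ι m := by
      intro y
      obtain ⟨v, hv⟩ := hV y
      refine ⟨β' (w v), ?_⟩
      rw [show (⟨(y : Ω), hV₁N y.2⟩ : ↥(normalizerIn S N₁)) = β' ⟨v, hVN v.2⟩ from
        Subtype.ext hv.symm]
      exact hwconj v
    choose m hm using hu₁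
    let φ₁ : V₁ →* Ω := MonoidHom.mk' (fun y => (m y : Ω)) fun y y' => by
      refine congrArg (fun x : ↥(normalizerIn S N₁) => (x : Ω)) (M₁.inj (a₂ := m y * m y') ?_)
      rw [map_mul, ← hm, ← hm, ← hm, show (⟨((y * y' : V₁) : Ω), hV₁N (y * y').2⟩ :
        ↥(normalizerIn S N₁)) = ⟨y, hV₁N y.2⟩ * ⟨y', hV₁N y'.2⟩ from rfl, map_mul]
      group
    have hφ₁ : φ₁ ∈ F.Hom V₁ := M₁.hom j V₁ hV₁N φ₁ fun y => ⟨(m y).2, hm y⟩
    have hm' : ∀ v : cSup S U, φ₁ ⟨_, hsrc v⟩ = β ⟨w v, hNSN (hVN (hwV v))⟩ := by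
      intro v
      refine congrArg (fun x : ↥(normalizerIn S N₁) => (x : Ω))
        (M₁.inj (a₂ := β' (w v)) ((hm _).symm.trans ?_))
      exact hwconj v
    have hc1 : ∀ v, β.comp (Subgroup.inclusion (hVN.trans hNSN)) v ∈ V₁ := hsrc
    have hcomp := F.comp_mem (restrict_mem hβ (hVN.trans hNSN)) hφ₁ hc1
    have hmem : ∀ v, φ₁.comp ((β.comp (Subgroup.inclusion (hVN.trans hNSN))).codRestrict V₁ hc1) v
        ∈ β.range := fun v => ⟨_, (hm' v).symm⟩
    refine comp_mem_apply hcomp hθ hmem fun v => ?_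
    refine Eq.trans ?_ (congrArg θ (Subtype.ext (hm' v).symm :
      (⟨β ⟨w v, hNSN (hVN (hwV v))⟩, ⟨_, rfl⟩⟩ : β.range) = ⟨_, hmem v⟩))
    exact (hθx ⟨w v, hNSN (hVN (hwV v))⟩ ⟨_, rfl⟩).symm
  haveI : Finite (cSup S U) := finite_of_le (hVN.trans (normalizerIn_le S U))
  obtain ⟨γ, hγ, hγx⟩ := exists_aut_of_hom' F hψF hwV
  obtain ⟨l, hl, hlρ⟩ := M.exists_mem_J_of_aut h hU hγ ha
    (fun x => (hγx _).trans (hwU _ x.2)) (fun v => by rw [hγx]; exact hwmod v)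
  exact ⟨l, hl, hlρ⟩

end CfsgLib.FusionProduct
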