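import Cfsg.Agent.Lib.FusionProduct.Lift

/-!
Local data at a subgroup `U` of `T`: a finite group containing `N_R(U)` as a Sylow subgroup with a
normal subgroup inducing `Aut_E(U)` on `U`.
-/

set_option autoImplicit false
set_option linter.style.haveILetI false
set_option linter.unusedSectionVars false

namespace CfsgLib.FusionProduct

open Cfsg Cfsg.FusionSystem CfsgLib.Alperin CfsgLib.FusionSub CfsgLib.FusionBasics
open scoped Pointwise

universe u

variable {Ω : Type u} [Group Ω] {S T : Subgroup Ω}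

/-- Local data at `U` for the product of `E` and `R`. -/
structure Loc (F : FusionSystem S) (E : FusionSystem T) (p : ℕ) (R U : Subgroup Ω) where
  G : Type u
  [grp : Group G]
  fin : Finite G
  ι : ↥(normalizerIn R U) →* G
  ρ : G →* MulAut U
  J : Subgroup G
  normal : J.Normal
  inj : Function.Injective ι
  rho : ∀ (m : ↥(normalizerIn R U)) (x : U), ((ρ (ι m) x : U) : Ω) = m * x * (m : Ω)⁻¹
  conj : ∀ (g : G) (x : U) (h₁ : (x : Ω) ∈ normalizerIn R U)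
    (h₂ : ((ρ g x : U) : Ω) ∈ normalizerIn R U), g * ι ⟨x, h₁⟩ * g⁻¹ = ι ⟨(ρ g x : U), h₂⟩
  decomp : ∀ g : G, ∃ j ∈ J, ∃ m, g = j * ι m
  inter : ∀ m, ι m ∈ J ↔ (m : Ω) ∈ T
  rhoJ : ∀ j ∈ J, ρ j ∈ E.autGroup U
  surjJ : ∀ a ∈ E.autGroup U, ∃ j ∈ J, ρ j = a
  ker : ∀ g : G, ρ g = 1 → g ∈ ι.range
  hom : ∀ (g : G) (P : Subgroup Ω) (hP : P ≤ normalizerIn R U) (φ : P →* Ω),
    (∀ x : P, ∃ h : φ x ∈ normalizerIn R U, g * ι ⟨x, hP x.2⟩ * g⁻¹ = ι ⟨φ x, h⟩) → φ ∈ F.Hom P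
  sylow : ∀ H : Subgroup G, IsPGroup p H → ∃ g : G, ∀ x ∈ H, g * x * g⁻¹ ∈ ι.range

attribute [instance] Loc.grp

variable {F : FusionSystem S} {E : FusionSystem T} {p : ℕ} [Fact p.Prime] [Finite S]
  {R : Subgroup Ω}

theorem exists_loc (h : Setup F E p) (hTR : T ≤ R) (hRS : R ≤ S) {U : Subgroup Ω}
    (hU : E.IsCentric U) (hEn : E.IsFullyNormalized U) : Nonempty (Loc F E p R U) := by
  haveI := h.finT
  have hUS := hU.1.trans h.le
  obtain ⟨U₀, hUU, hU₀⟩ := exists_isFullyNormalized F hUS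
  obtain ⟨β, hβ, hβm, hβU⟩ := exists_hom_normalizerIn_of_fullyNormalized h.isP h.sat hU₀ hUU
  have lU : U ≤ normalizerIn S U := le_normalizerIn hUS
  set βU := β.comp (Subgroup.inclusion lU) with hβUdef
  have hβUF : βU ∈ F.Hom U := restrict_mem hβ lU
  have hr : βU.range = U₀ := (range_comp_inclusion β lU).trans hβU
  have hU₀c : E.IsCentric U₀ := hr ▸ isCentric_of_hom_invariant h.inv hU hβUF
  have hEn₀ := h.isFullyNormalized_sub hU₀c.1 hU₀
  obtain ⟨M⟩ := exists_model h hU₀c hU₀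
  haveI := M.fin
  have hle : normalizerIn R U ≤ normalizerIn S U := inf_le_inf_right _ hRS
  let γ : ↥(normalizerIn R U) →* ↥(normalizerIn S U₀) :=
    (β.codRestrict _ hβm).comp (Subgroup.inclusion hle)
  have hγinj : Function.Injective γ := fun x y hxy =>
    Subgroup.inclusion_injective hle (F.injective_of_mem hβ (congrArg Subtype.val hxy))
  let κ : ↥(normalizerIn R U) →* M.L := M.ι.comp γ
  have hJn : ∀ (n : ↥(normalizerIn S U₀)), ∀ j ∈ M.jStar h hU₀c,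
      M.ι n * j * (M.ι n)⁻¹ ∈ M.jStar h hU₀c := fun n j hj => M.conj_mem_jStar h hU₀c n hj
  set J := M.jStar h hU₀c with hJ
  have hnorm : M.ι.range ≤ Subgroup.normalizer (J : Set M.L) := by
    rintro _ ⟨n, rfl⟩
    refine Subgroup.mem_normalizer_iff.mpr fun x => ⟨hJn n x, fun hx => ?_⟩
    have := hJn n⁻¹ _ hx
    rw [map_inv] at this
    simpa [mul_assoc] using this
  have hκrange : κ.range ≤ M.ι.range := by
    rintro _ ⟨m, rfl⟩
    exact ⟨_, rfl⟩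
  have hκnorm := hκrange.trans hnorm
  set Γ : Subgroup M.L := J ⊔ κ.range with hΓ
  have hκΓ : κ.range ≤ Γ := le_sup_right
  have hmem : ∀ g ∈ Γ, ∃ j ∈ J, ∃ m, g = j * κ m := by
    intro g hg
    have h1 : g ∈ (J : Set M.L) * (κ.range : Set M.L) := by
      rw [← Subgroup.coe_mul_of_right_le_normalizer_left J κ.range hκnorm]
      exact hg
    obtain ⟨j, hj, _, ⟨m, rfl⟩, e⟩ := h1
    exact ⟨j, hj, m, e.symm⟩
  let ι : ↥(normalizerIn R U) →* Γ := κ.codRestrict Γ fun m => hκΓ ⟨m, rfl⟩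
  -- `J` meets the image of `N_S(U₀)` in the image of `N_T(U)`
  have hNT : ∀ n : ↥(normalizerIn S U₀), M.ι n ∈ J →
      ∃ m : ↥(normalizerIn R U), (m : Ω) ∈ T ∧ γ m = n := by
    intro n hn
    have hnT : (n : Ω) ∈ T := M.mem_T_of_mem_jStar h hU₀c hEn₀ hn
    -- cardinalities
    obtain ⟨a, ha, φ₀, hφ₀, hφx⟩ := h.inv.2.2.2 U hU.1 βU hβUF
    have hcard : Nat.card (normalizerIn T U₀) ≤ Nat.card (normalizerIn T U) := by
      refine le_trans ?_ (hEn.2 _ ⟨φ₀, hφ₀, rfl⟩)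
      haveI := finite_of_le (normalizerIn_le T φ₀.range)
      have key : ∀ x : ↥(normalizerIn T U₀),
          ((a⁻¹ ⟨x, x.2.1⟩ : T) : Ω) ∈ normalizerIn T φ₀.range := by
        have key : ∀ (x : ↥(normalizerIn T U₀)) (z : Ω), z ∈ φ₀.range →
            ((a⁻¹ ⟨x, x.2.1⟩ : T) : Ω) * z * ((a⁻¹ ⟨x, x.2.1⟩ : T) : Ω)⁻¹ ∈ φ₀.range := by
          rintro x _ ⟨u, rfl⟩
          have h1 : (x : Ω) * βU u * (x : Ω)⁻¹ ∈ U₀ :=
            mem_normalizer_conj x.2.2 (hr.le ⟨u, rfl⟩)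
          obtain ⟨v, hv⟩ := hr.ge h1
          refine ⟨v, ?_⟩
          rw [hφx v (apply_mem hφ₀ v), hφx u (apply_mem hφ₀ u)] at hv
          have h2 : a ⟨φ₀ v, apply_mem hφ₀ v⟩ =
              ⟨x, x.2.1⟩ * a ⟨φ₀ u, apply_mem hφ₀ u⟩ * (⟨x, x.2.1⟩)⁻¹ := Subtype.ext hv
          have h3 := congrArg (fun w : T => ((a⁻¹ w : T) : Ω)) h2
          simpa using h3
        intro x
        refine ⟨(a⁻¹ _).2, Subgroup.mem_normalizer_iff.mpr fun z => ⟨key x z, fun hz => ?_⟩⟩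
        have := key x⁻¹ _ hz
        rw [show (⟨((x⁻¹ : ↥(normalizerIn T U₀)) : Ω), (x⁻¹).2.1⟩ : T) = (⟨x, x.2.1⟩ : T)⁻¹ from
          rfl, map_inv] at this
        simpa [mul_assoc] using this
      refine Nat.card_le_card_of_injective
        (fun x => (⟨_, key x⟩ : ↥(normalizerIn T φ₀.range))) fun x y hxy => ?_
      exact Subtype.ext (congrArg (fun w : T => (w : Ω)) ((a⁻¹).injective
        (Subtype.ext (congrArg (fun z : ↥(normalizerIn T φ₀.range) => (z : Ω)) hxy) :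
          a⁻¹ ⟨x, x.2.1⟩ = a⁻¹ ⟨y, y.2.1⟩)))
    haveI := finite_of_le (normalizerIn_le T U₀)
    haveI := finite_of_le (normalizerIn_le T U)
    have hTN : ∀ x : ↥(normalizerIn T U), (γ ⟨x, hTR x.2.1, x.2.2⟩ : Ω) ∈ normalizerIn T U₀ :=
      fun x => ⟨stronglyClosed_apply h.closed hβ _ x.2.1, (γ ⟨x, hTR x.2.1, x.2.2⟩).2.2⟩
    let f : ↥(normalizerIn T U) → ↥(normalizerIn T U₀) := fun x => ⟨_, hTN x⟩
    have hfinj : Function.Injective f := fun x y hxy => by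
      have h1 := hγinj (Subtype.ext (congrArg (fun z : ↥(normalizerIn T U₀) => (z : Ω)) hxy) :
        γ ⟨x, hTR x.2.1, x.2.2⟩ = γ ⟨y, hTR y.2.1, y.2.2⟩)
      exact Subtype.ext (congrArg (fun z : ↥(normalizerIn R U) => (z : Ω)) h1)
    obtain ⟨x, hx⟩ := ((Nat.bijective_iff_injective_and_card f).mpr
      ⟨hfinj, le_antisymm (Nat.card_le_card_of_injective f hfinj) hcard⟩).2 ⟨n, hnT, n.2.2⟩
    exact ⟨⟨x, hTR x.2.1, x.2.2⟩, x.2.1,
      Subtype.ext (congrArg (fun z : ↥(normalizerIn T U₀) => (z : Ω)) hx)⟩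
  have hκJ : ∀ m : ↥(normalizerIn R U), (m : Ω) ∈ T → κ m ∈ J := fun m hm =>
    M.iota_mem_jStar h hU₀c (stronglyClosed_apply h.closed hβ _ hm)
  -- the Sylow property
  have hrel : ¬ p ∣ κ.range.relIndex J := by
    obtain ⟨P, hP⟩ := M.exists_sylow h
    have h1 : ¬ p ∣ M.ι.range.relIndex J :=
      CfsgLib.FusionBasics.not_dvd_relIndex_of_le (H := ⊤) le_top le_top hnorm
        (by rw [Subgroup.relIndex_top_right, ← hP]; exact P.not_dvd_index)
    have heq : κ.range.subgroupOf J = M.ι.range.subgroupOf J := by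
      refine le_antisymm (fun x hx => hκrange hx) fun x ⟨n, hn⟩ => ?_
      obtain ⟨m, -, hm⟩ := hNT n (by rw [hn]; exact x.2)
      exact ⟨m, (congrArg M.ι hm).trans hn⟩
    rwa [Subgroup.relIndex, heq, ← Subgroup.relIndex]
  have hidx : ¬ p ∣ (κ.range.subgroupOf Γ).index := by
    show ¬ p ∣ κ.range.relIndex (J ⊔ κ.range)
    rw [sup_comm, relIndex_sup_of_le_normalizer hκnorm]
    exact hrel
  -- the action on `U`
  set e := isoOfHom βU (F.injective_of_mem hβUF) hr with he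
  let ρ : Γ →* MulAut U := (MulAut.congr e.symm).toMonoidHom.comp (M.ρ.comp Γ.subtype)
  have hρ : ∀ (g : Γ) (x : U), e (ρ g x) = M.ρ (g : M.L) (e x) := fun g x => by
    show e (MulAut.congr e.symm (M.ρ (g : M.L)) x) = _
    rw [MulAut.congr_apply]
    simp
  have hρJ : ∀ j ∈ J.subgroupOf Γ, ρ j ∈ E.autGroup U := fun j hj => by
    have hinv : U.subtype.comp e.symm.toMonoidHom ∈ F.Hom U₀ := isoOfHom_symm_mem hβUF hr
    refine h.aut_transport hU₀c.1 hinv ?_ ((M.jStar_le h hU₀c hj).1) fun y hy => ?_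
    · rw [MonoidHom.range_comp, MonoidHom.range_eq_top.mpr e.symm.surjective,
        ← MonoidHom.range_eq_map, Subgroup.range_subtype]
    · show ((ρ j ⟨_, hy⟩ : U) : Ω) = ((e.symm (M.ρ (j : M.L) y) : U) : Ω)
      refine congrArg (fun v : U => (v : Ω)) (e.injective ?_)
      refine (hρ j _).trans ?_
      rw [MulEquiv.apply_symm_apply]
      refine congrArg (M.ρ (j : M.L)) ?_
      exact (congrArg e (Subtype.ext rfl : _ = e.symm y)).trans (e.apply_symm_apply y)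
  refine ⟨{ G := Γ, fin := inferInstance, ι := ι, ρ := ρ, J := J.subgroupOf Γ, normal := ?_,
            inj := ?_, rho := ?_, conj := ?_, decomp := ?_, inter := ?_, rhoJ := hρJ,
            surjJ := ?_, ker := ?_, hom := ?_, sylow := ?_ }⟩
  · refine ⟨fun x hx g => ?_⟩
    obtain ⟨j, hj, m, e'⟩ := hmem g g.2
    show (g : M.L) * (x : M.L) * (g : M.L)⁻¹ ∈ J
    rw [e', show j * κ m * (x : M.L) * (j * κ m)⁻¹ = j * (κ m * (x : M.L) * (κ m)⁻¹) * j⁻¹ by group]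
    exact J.mul_mem (J.mul_mem hj (hJn _ _ hx)) (J.inv_mem hj)
  · exact fun x y hxy => hγinj (M.inj (congrArg Subtype.val hxy))
  · intro m x
    have h1 : e (ρ (ι m) x) = e ⟨(m : Ω) * x * (m : Ω)⁻¹, mem_normalizer_conj m.2.2 x.2⟩ := by
      refine (hρ _ _).trans (Subtype.ext ((M.rho (γ m) (e x)).trans ?_))
      show β ⟨_, _⟩ * β (Subgroup.inclusion lU x) * (β ⟨_, _⟩)⁻¹ = β ⟨_, _⟩
      rw [← map_inv, ← map_mul, ← map_mul]
      rfl
    exact congrArg (fun v : U => (v : Ω)) (e.injective h1)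
  · intro g x h₁ h₂
    refine Subtype.ext ?_
    show (g : M.L) * κ ⟨x, h₁⟩ * (g : M.L)⁻¹ = κ ⟨_, h₂⟩
    have hle₀ := le_normalizerIn (S := S) hU₀.1
    have e1 : γ ⟨x, h₁⟩ = ⟨(e x : U₀), hle₀ (e x).2⟩ := Subtype.ext rfl
    have e2 : γ ⟨(ρ g x : U), h₂⟩ = ⟨(M.ρ (g : M.L) (e x) : U₀), hle₀ (M.ρ _ _).2⟩ :=
      Subtype.ext (congrArg (fun v : U₀ => (v : Ω)) (hρ g x))
    show (g : M.L) * M.ι (γ ⟨x, h₁⟩) * (g : M.L)⁻¹ = M.ι (γ ⟨_, h₂⟩)
    rw [e1, e2]
    exact M.conj _ _ _ _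
  · intro g
    obtain ⟨j, hj, m, e'⟩ := hmem g g.2
    exact ⟨⟨j, (le_sup_left : J ≤ Γ) hj⟩, hj, m, Subtype.ext e'⟩
  · intro m
    refine ⟨fun hm => ?_, fun hm => hκJ m hm⟩
    exact mem_of_apply_mem h.closed hβ ⟨m, hle m.2⟩ (M.mem_T_of_mem_jStar h hU₀c hEn₀ hm)
  · intro a ha
    have ha' : MulAut.congr e a ∈ E.autGroup U₀ := by
      refine h.aut_transport hU.1 hβUF hr ha fun x hm => ?_
      rw [show (⟨βU x, hm⟩ : U₀) = e x from Subtype.ext rfl, MulAut.congr_apply]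
      simp only [MulEquiv.trans_apply, MulEquiv.symm_apply_apply]
      rfl
    obtain ⟨j, hj, hjρ⟩ := M.exists_jStar_rho h hU₀c hEn₀
      (fun b hb => exists_mem_J h U₀ hU₀c hU₀ M b hb) _ ha'
    refine ⟨⟨j, (le_sup_left : J ≤ Γ) hj⟩, hj, ?_⟩
    show MulAut.congr e.symm (M.ρ j) = a
    rw [hjρ]
    exact MulEquiv.ext fun x => by simp [MulAut.congr_apply]
  · intro g hg
    -- the kernel is a normal `p`-subgroup
    have hker : ∀ c : Γ, ρ c = 1 → M.ρ (c : M.L) = 1 := fun c hc => MulEquiv.ext fun y => by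
      obtain ⟨x, rfl⟩ := e.surjective y
      rw [← hρ, hc]
      rfl
    have hp : IsPGroup p ρ.ker := by
      intro c
      obtain ⟨j, hj, m, e'⟩ := hmem (c : Γ) (c : Γ).2
      -- some `p`-power of `c` lies in `J`
      have hpow : ∀ i : ℕ, ((c : Γ) : M.L) ^ i * (κ m ^ i)⁻¹ ∈ J := by
        intro i
        rw [e']
        exact mul_pow_mem hj (fun x hx => hJn _ x hx) i
      haveI := finite_of_le (normalizerIn_le R U |>.trans hRS)
      obtain ⟨k, hk⟩ := (isPGroup_of_le h.isP ((normalizerIn_le R U).trans hRS)) m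
      have h1 := hpow (p ^ k)
      rw [← map_pow, hk, map_one, inv_one, mul_one] at h1
      obtain ⟨k', hk'⟩ := M.exists_pow_of_ker h hU₀c (M.jStar_le h hU₀c h1)
        (by rw [map_pow, hker _ c.2, one_pow])
      refine ⟨k + k', Subtype.ext (Subtype.ext ?_)⟩
      show ((c : Γ) : M.L) ^ p ^ (k + k') = 1
      rw [pow_add, pow_mul]
      exact hk'
    haveI : Finite (normalizerIn R U) := finite_of_le ((normalizerIn_le R U).trans hRS)
    let Q : Sylow p Γ := IsPGroup.toSylow (P := κ.range.subgroupOf Γ)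
      (((isPGroup_of_le h.isP ((normalizerIn_le R U).trans hRS)).of_surjective κ.rangeRestrict
        κ.rangeRestrict_surjective).comap_of_injective _ Γ.subtype_injective) hidx
    obtain ⟨m, hm⟩ := hp.le_sylow_of_normal Q hg
    exact ⟨m, Subtype.ext hm⟩
  · intro g P hP φ hφ
    set P₀ := (P.subgroupOf (normalizerIn R U)).map ((normalizerIn S U₀).subtype.comp γ) with hP₀
    have hP₀N : P₀ ≤ normalizerIn S U₀ := by
      rintro _ ⟨x, -, rfl⟩
      exact (γ x).2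
    have hy : ∀ y : P₀, ∃ x : P, (γ ⟨x, hP x.2⟩ : Ω) = y := by
      rintro ⟨_, ⟨x, hxN⟩, hx, rfl⟩
      exact ⟨⟨x, hx⟩, rfl⟩
    have hψ : ∀ y : P₀, ∃ m : ↥(normalizerIn S U₀),
        (g : M.L) * M.ι ⟨y, hP₀N y.2⟩ * (g : M.L)⁻¹ = M.ι m := by
      intro y
      obtain ⟨x, hx⟩ := hy y
      obtain ⟨hm, e'⟩ := hφ x
      refine ⟨γ ⟨φ x, hm⟩, ?_⟩
      rw [show (⟨(y : Ω), hP₀N y.2⟩ : ↥(normalizerIn S U₀)) = γ ⟨x, hP x.2⟩ from Subtype.ext hx.symm]
      exact congrArg Subtype.val e'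
    choose m hm using hψ
    let φ₁ : P₀ →* Ω := MonoidHom.mk' (fun y => (m y : Ω)) fun y y' => by
      refine congrArg (fun x : ↥(normalizerIn S U₀) => (x : Ω)) (M.inj (a₂ := m y * m y') ?_)
      rw [map_mul, ← hm, ← hm, ← hm, show (⟨((y * y' : P₀) : Ω), hP₀N (y * y').2⟩ :
        ↥(normalizerIn S U₀)) = ⟨y, hP₀N y.2⟩ * ⟨y', hP₀N y'.2⟩ from rfl, map_mul]
      group
    have hφ₁ : φ₁ ∈ F.Hom P₀ := M.hom _ P₀ hP₀N φ₁ fun y => ⟨(m y).2, hm y⟩
    obtain ⟨θ, hθ, -, hθx, -⟩ := exists_inverse hβ rfl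
    have hc : ∀ x, β.comp (Subgroup.inclusion (hP.trans hle)) x ∈ P₀ := fun x =>
      ⟨⟨x, hP x.2⟩, x.2, rfl⟩
    have hcomp := F.comp_mem (restrict_mem hβ (hP.trans hle)) hφ₁ hc
    have hval : ∀ x : P, φ₁ ⟨_, hc x⟩ = β ⟨φ x, hle (hφ x).1⟩ := fun x => by
      obtain ⟨hm', e'⟩ := hφ x
      exact congrArg (fun z : ↥(normalizerIn S U₀) => (z : Ω))
        (M.inj (a₂ := γ ⟨φ x, hm'⟩)
          ((hm ⟨_, hc x⟩).symm.trans (congrArg Subtype.val e')))
    have hmem' : ∀ x, φ₁.comp ((β.comp (Subgroup.inclusion (hP.trans hle))).codRestrict P₀ hc) x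
        ∈ β.range := fun x => ⟨_, (hval x).symm⟩
    refine comp_mem_apply hcomp hθ hmem' fun x => ?_
    refine Eq.trans ?_ (congrArg θ (Subtype.ext (hval x).symm :
      (⟨β ⟨φ x, hle (hφ x).1⟩, ⟨_, rfl⟩⟩ : β.range) = ⟨_, hmem' x⟩))
    exact (hθx ⟨φ x, hle (hφ x).1⟩ ⟨_, rfl⟩).symm
  · intro H hH
    haveI : Finite (normalizerIn R U) := finite_of_le ((normalizerIn_le R U).trans hRS)
    let Q : Sylow p Γ := IsPGroup.toSylow (P := κ.range.subgroupOf Γ)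
      (((isPGroup_of_le h.isP ((normalizerIn_le R U).trans hRS)).of_surjective κ.rangeRestrict
        κ.rangeRestrict_surjective).comap_of_injective _ Γ.subtype_injective) hidx
    obtain ⟨P, hP⟩ := hH.exists_le_sylow
    obtain ⟨g, hg⟩ := MulAction.exists_smul_eq Γ P Q
    refine ⟨g, fun x hx => ?_⟩
    have h1 : g * x * g⁻¹ ∈ (Q : Subgroup Γ) := by
      rw [← hg, Sylow.coe_subgroup_smul]
      exact ⟨x, hP hx, rfl⟩
    obtain ⟨m, hm⟩ := h1
    exact ⟨m, Subtype.ext hm⟩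

end CfsgLib.FusionProduct
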