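import Cfsg.Agent.Lib.FusionProduct.Loc
import Cfsg.Agent.Lib.FusionProduct.CSystem
import Cfsg.Agent.Lib.FusionBasics.Transport
import Cfsg.Agent.Lib.FusionBasics.Extension
import Cfsg.Agent.Lib.FusionSub.Induction

/-!
Maps induced by local data.
-/

set_option autoImplicit false
set_option linter.style.haveILetI false
set_option linter.unusedSectionVars false

namespace CfsgLib.FusionProduct

open Cfsg Cfsg.FusionSystem CfsgLib.Alperin CfsgLib.FusionSub CfsgLib.FusionBasics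

universe u

variable {Ω : Type u} [Group Ω] {S T : Subgroup Ω}

/-- The system on `N` of the maps realized through `κ`. -/
def kSys {N : Subgroup Ω} {G : Type*} [Group G] (κ : N →* G) (hκ : Function.Injective κ) :
    FusionSystem N where
  Hom P := {φ | ∃ (hP : P ≤ N) (hm : ∀ x, φ x ∈ N) (g : G),
    ∀ x : P, g * κ ⟨x, hP x.2⟩ * g⁻¹ = κ ⟨φ x, hm x⟩}
  le_of_mem h := ⟨h.1, h.2.1⟩
  injective_of_mem := by
    rintro P φ ⟨hP, hm, g, hg⟩ x y hxy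
    have h1 : g * κ ⟨x, hP x.2⟩ * g⁻¹ = g * κ ⟨y, hP y.2⟩ * g⁻¹ := by
      rw [hg, hg]; simp only [hxy]
    exact Subtype.ext (congrArg (fun z : N => (z : Ω)) (hκ (mul_left_cancel (mul_right_cancel h1))))
  conj_mem {P n} hP hn := ⟨hP, fun x => N.mul_mem (N.mul_mem hn (hP x.2)) (N.inv_mem hn),
    κ ⟨n, hn⟩, fun x => by rw [← map_inv, ← map_mul, ← map_mul]; rfl⟩
  comp_mem := by
    rintro P Q φ ψ ⟨hP, hm, g, hg⟩ ⟨hQ, hm', g', hg'⟩ hφQ
    refine ⟨hP, fun x => hm' _, g' * g, fun x => ?_⟩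
    refine Eq.trans ?_ (hg' ⟨φ x, hφQ x⟩)
    rw [← hg x]
    group
  inv_mem := by
    rintro P φ ⟨hP, hm, g, hg⟩
    obtain ⟨θ, hθ⟩ : ∃ θ : φ.range →* Ω, ∀ x : P, θ ⟨φ x, ⟨x, rfl⟩⟩ = x := by
      have hinj : Function.Injective φ := fun x y hxy => by
        have h1 : g * κ ⟨x, hP x.2⟩ * g⁻¹ = g * κ ⟨y, hP y.2⟩ * g⁻¹ := by
          rw [hg, hg]; simp only [hxy]
        exact Subtype.ext (congrArg (fun z : N => (z : Ω)) (hκ (mul_left_cancel (mul_right_cancel h1))))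
      exact ⟨P.subtype.comp (MonoidHom.ofInjective hinj).symm.toMonoidHom, fun x =>
        congrArg Subtype.val ((MonoidHom.ofInjective hinj).symm_apply_apply x)⟩
    refine ⟨θ, ⟨?_, ?_, g⁻¹, ?_⟩, hθ⟩
    · rintro _ ⟨x, rfl⟩; exact hm x
    · rintro ⟨_, x, rfl⟩; rw [hθ]; exact hP x.2
    · rintro ⟨_, x, rfl⟩
      simp only [hθ, inv_inv]
      rw [← hg x]
      group

theorem kSys_isSaturated {N : Subgroup Ω} [Finite N] {p : ℕ} [Fact p.Prime] {G : Type*} [Group G]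
    [Finite G] (κ : N →* G) (hκ : Function.Injective κ) (hp : IsPGroup p N)
    (hsyl : ∀ H : Subgroup G, IsPGroup p H → ∃ g : G, ∀ x ∈ H, g * x * g⁻¹ ∈ κ.range) :
    (kSys κ hκ).IsSaturated p := by
  obtain ⟨P, hP⟩ := (hp.of_surjective κ.rangeRestrict κ.rangeRestrict_surjective).exists_le_sylow
  obtain ⟨g, hg⟩ := hsyl P P.2
  have hPe : (P : Subgroup G) = κ.range := by
    refine (Subgroup.eq_of_le_of_card_ge hP ?_).symm
    exact Nat.card_le_card_of_injective (fun x => (⟨g * (x : G) * g⁻¹, hg x x.2⟩ : κ.range))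
      fun a b hab => Subtype.ext (mul_left_cancel (mul_right_cancel (congrArg Subtype.val hab)))
  refine isSaturated_of_realized (ι := κ) ⟨hκ, fun Q hQ φ hφ => ⟨?_, ?_⟩⟩ P hPe
  · rintro ⟨_, _, g, hg⟩
    exact ⟨g, fun x => (hg x).symm⟩
  · rintro ⟨g, hg⟩
    exact ⟨hQ, hφ, g, fun x => (hg x).symm⟩

namespace Loc

variable {F : FusionSystem S} {E : FusionSystem T} {p : ℕ} [Fact p.Prime] [Finite S]
  {R U : Subgroup Ω} (l : Loc F E p R U)

/-- The maps of the local data. -/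
def sys : FusionSystem (normalizerIn R U) := kSys l.ι l.inj

theorem sys_mem {P : Subgroup Ω} {φ : P →* Ω} : φ ∈ l.sys.Hom P ↔
    ∃ (hP : P ≤ normalizerIn R U) (hm : ∀ x, φ x ∈ normalizerIn R U) (g : l.G),
      ∀ x : P, g * l.ι ⟨x, hP x.2⟩ * g⁻¹ = l.ι ⟨φ x, hm x⟩ := Iff.rfl

theorem sys_le_F : l.sys.IsSubsystemOf F := by
  rintro P φ ⟨hP, hm, g, hg⟩
  exact l.hom g P hP φ fun x => ⟨hm x, hg x⟩

theorem sys_isSaturated (h : Setup F E p) (hRS : R ≤ S) : l.sys.IsSaturated p := by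
  haveI := l.fin
  haveI : Finite (normalizerIn R U) := finite_of_le ((normalizerIn_le R U).trans hRS)
  exact kSys_isSaturated l.ι l.inj (isPGroup_of_le h.isP ((normalizerIn_le R U).trans hRS)) l.sylow

/-- Elements of `J` trivial on `U` come from the centre of `U`. -/
theorem exists_of_kerJ (hU : E.IsCentric U) {c : l.G} (hc : c ∈ l.J) (hρ : l.ρ c = 1) :
    ∃ m : ↥(normalizerIn R U), (m : Ω) ∈ U ∧ (∀ u ∈ U, (m : Ω) * u = u * m) ∧ l.ι m = c := by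
  obtain ⟨m, rfl⟩ := l.ker c hρ
  have hcomm : ∀ u ∈ U, (m : Ω) * u = u * m := fun u hu => by
    have h1 := l.rho m ⟨u, hu⟩
    rw [hρ] at h1
    exact mul_inv_eq_iff_eq_mul.mp h1.symm
  exact ⟨m, hU.2 U (isConj_refl E hU.1) ⟨(l.inter m).mp hc, fun u hu => (hcomm u hu).symm⟩, hcomm,
    rfl⟩

/-- An element of the local group inducing a given map modulo the centre of `U`. -/
theorem exists_realizing (h : Setup F E p) (hRS : R ≤ S) (hU : E.IsCentric U) {Q : Subgroup Ω}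
    (hUQ : U ≤ Q) (hQN : Q ≤ normalizerIn R U) {φ : Q →* Ω} (hφN : ∀ x, φ x ∈ normalizerIn R U)
    {n : Ω} (hn : n ∈ normalizerIn R U) {a : MulAut U} (ha : a ∈ E.autGroup U)
    (hmod : ∀ x : Q, (n * (x : Ω) * n⁻¹)⁻¹ * φ x ∈ T)
    (hφU : ∀ x : U, φ ⟨x, hUQ x.2⟩ = n * (a x : U) * n⁻¹) :
    ∃ g : l.G, (∀ x : U, ((l.ρ g x : U) : Ω) = φ ⟨x, hUQ x.2⟩) ∧
      (∀ x : Q, ∃ z : ↥(normalizerIn R U), (z : Ω) ∈ U ∧ (∀ u ∈ U, (z : Ω) * u = u * z) ∧
        g * l.ι ⟨x, hQN x.2⟩ * g⁻¹ = l.ι (⟨φ x, hφN x⟩ * z)) ∧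
      (n ∈ T → g ∈ l.J) := by
  obtain ⟨j, hj, hjρ⟩ := l.surjJ a ha
  set m : ↥(normalizerIn R U) := ⟨n, hn⟩ with hm
  refine ⟨l.ι m * j, fun x => ?_, fun x => ?_, fun hnT =>
    l.J.mul_mem ((l.inter m).mpr hnT) hj⟩
  · rw [map_mul, MulAut.mul_apply, l.rho, hjρ, hφU]
  set g := l.ι m * j with hg
  have hρg : ∀ x : U, ((l.ρ g x : U) : Ω) = φ ⟨x, hUQ x.2⟩ := fun x => by
    rw [hg, map_mul, MulAut.mul_apply, l.rho, hjρ, hφU]
  set mx : ↥(normalizerIn R U) := ⟨x, hQN x.2⟩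
  set c := (l.ι ⟨φ x, hφN x⟩)⁻¹ * (g * l.ι mx * g⁻¹) with hc
  have hcJ : c ∈ l.J := by
    have hd : (m * mx * m⁻¹)⁻¹ * ⟨φ x, hφN x⟩ ∈
        (T.subgroupOf (normalizerIn R U)) := hmod x
    have h1 : l.ι ((m * mx * m⁻¹)⁻¹ * ⟨φ x, hφN x⟩) ∈ l.J := (l.inter _).mpr hd
    have h2 : (l.ι mx)⁻¹ * j * l.ι mx ∈ l.J := by
      have := l.normal.conj_mem j hj (l.ι mx)⁻¹
      rwa [inv_inv] at this
    have h3 := l.normal.conj_mem _ (l.J.mul_mem h2 (l.J.inv_mem hj)) (l.ι m)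
    have : c = (l.ι ((m * mx * m⁻¹)⁻¹ * ⟨φ x, hφN x⟩))⁻¹ *
        (l.ι m * ((l.ι mx)⁻¹ * j * l.ι mx * j⁻¹) * (l.ι m)⁻¹) := by
      rw [hc, hg, map_mul, map_inv, map_mul, map_mul, map_inv]
      group
    rw [this]
    exact l.J.mul_mem (l.J.inv_mem h1) h3
  have hcρ : l.ρ c = 1 := by
    refine MulEquiv.ext fun y => ?_
    obtain ⟨v, rfl⟩ := (l.ρ g).surjective y
    rw [hc]
    simp only [map_mul, map_inv, MulAut.mul_apply, MulAut.inv_apply_self, MulAut.one_apply]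
    apply (l.ρ (l.ι ⟨φ x, hφN x⟩)).injective
    rw [MulAut.apply_inv_self]
    refine Subtype.ext ?_
    rw [l.rho, hρg, hρg]
    have : (⟨((l.ρ (l.ι mx) v : U) : Ω), hUQ (l.ρ (l.ι mx) v).2⟩ : Q) =
        x * ⟨v, hUQ v.2⟩ * x⁻¹ := Subtype.ext (l.rho mx v)
    rw [this, map_mul, map_mul, map_inv]
  obtain ⟨z, hz, hzc, hze⟩ := l.exists_of_kerJ hU hcJ hcρ
  refine ⟨z, hz, hzc, ?_⟩
  rw [map_mul, hze, hc]
  group

/-- Automorphisms of `Q` in the local system from an element normalizing it. -/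
theorem mem_sys_aut {Q : Subgroup Ω} [Finite Q] (hQ : Q ≤ normalizerIn R U) {α : MulAut Q}
    {g : l.G} (hg : ∀ x : Q, g * l.ι ⟨x, hQ x.2⟩ * g⁻¹ = l.ι ⟨(α x : Q), hQ (α x).2⟩) :
    α ∈ l.sys.autGroup Q :=
  (mem_autGroup_iff l.sys hQ).mpr ⟨hQ, fun x => hQ (α x).2, g, hg⟩

theorem exists_of_sys_aut {Q : Subgroup Ω} (hQ : Q ≤ normalizerIn R U) {α : MulAut Q}
    (h : α ∈ l.sys.autGroup Q) :
    ∃ g : l.G, ∀ x : Q, g * l.ι ⟨x, hQ x.2⟩ * g⁻¹ = l.ι ⟨(α x : Q), hQ (α x).2⟩ := by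
  obtain ⟨_, _, g, hg⟩ := (mem_autGroup_iff l.sys hQ).mp h
  exact ⟨g, hg⟩

end Loc

variable {F : FusionSystem S} {E : FusionSystem T} {p : ℕ} [Fact p.Prime] [Finite S]
  {R U : Subgroup Ω}

/-- Coprime automorphisms of `Q` that are trivial modulo `T` and in `E` on `U` are maps of the
local data. -/
theorem Loc.coprime_aut_mem (l : Loc F E p R U) (h : Setup F E p) (hRS : R ≤ S)
    (hU : E.IsCentric U) {Q : Subgroup Ω} (hUQ : U ≤ Q) (hQN : Q ≤ normalizerIn R U)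
    {b : MulAut Q} (hb : b ∈ F.autGroup Q) (hco : (orderOf b).Coprime p)
    (hmod : ModT T (Q.subtype.comp b.toMonoidHom)) {e : MulAut U} (he : e ∈ E.autGroup U)
    (hbU : ∀ x : U, ((b ⟨x, hUQ x.2⟩ : Q) : Ω) = (e x : U)) :
    b ∈ l.sys.autGroup Q := by
  haveI := h.finT
  have hQR : Q ≤ R := hQN.trans (normalizerIn_le R U)
  have hQS : Q ≤ S := hQR.trans hRS
  haveI := finite_of_le hQS
  have hUT := hU.1
  -- the automorphism from the local group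
  obtain ⟨g, hgU, hgx, hgJ⟩ := l.exists_realizing h hRS hU hUQ hQN
    (φ := Q.subtype.comp b.toMonoidHom) (fun x => hQN (b x).2) (n := 1) (one_mem _) he
    (fun x => by
      simp only [one_mul, inv_one, mul_one]
      exact hmod x)
    (fun x => by simp only [one_mul, inv_one, mul_one]; exact hbU x)
  have hgJ := hgJ T.one_mem
  have hval : ∀ x : Q, ∃ y : Q, g * l.ι ⟨x, hQN x.2⟩ * g⁻¹ = l.ι ⟨y, hQN y.2⟩ := by
    intro x
    obtain ⟨z, hz, -, e'⟩ := hgx x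
    exact ⟨b x * ⟨z, hUQ hz⟩, e'⟩
  choose f hf using hval
  have hfinj : Function.Injective f := fun x y hxy => by
    have := (hf x).trans ((congrArg (fun v : Q => l.ι ⟨v, hQN v.2⟩) hxy).trans (hf y).symm)
    exact Subtype.ext (congrArg (fun v : ↥(normalizerIn R U) => (v : Ω))
      (l.inj (mul_left_cancel (mul_right_cancel this))))
  have hfmul : ∀ x y, f (x * y) = f x * f y := fun x y => by
    refine Subtype.ext (congrArg (fun v : ↥(normalizerIn R U) => (v : Ω))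
      (l.inj (a₁ := ⟨f (x * y), hQN (f (x * y)).2⟩)
        (a₂ := ⟨f x, hQN (f x).2⟩ * ⟨f y, hQN (f y).2⟩) ?_))
    rw [map_mul, ← hf, ← hf, ← hf, show (⟨((x * y : Q) : Ω), hQN (x * y).2⟩ :
      ↥(normalizerIn R U)) = ⟨x, hQN x.2⟩ * ⟨y, hQN y.2⟩ from rfl, map_mul]
    group
  let a : MulAut Q := MulEquiv.ofBijective (MonoidHom.mk' f hfmul)
    (Finite.injective_iff_bijective.mp hfinj)
  have hax : ∀ x : Q, g * l.ι ⟨x, hQN x.2⟩ * g⁻¹ = l.ι ⟨(a x : Q), hQN (a x).2⟩ := hf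
  have haA : a ∈ l.sys.autGroup Q := l.mem_sys_aut hQN hax
  have haF : a ∈ F.autGroup Q := autGroup_mono l.sys_le_F Q haA
  have hzform : ∀ x : Q, ∃ z : Q, (z : Ω) ∈ U ∧ (∀ u ∈ U, (z : Ω) * u = u * z) ∧ a x = b x * z := by
    intro x
    obtain ⟨z, hz, hzc, e'⟩ := hgx x
    refine ⟨⟨z, hUQ hz⟩, hz, hzc, Subtype.ext ?_⟩
    exact congrArg (fun v : ↥(normalizerIn R U) => (v : Ω)) (l.inj ((hax x).symm.trans e'))
  have haU : ∀ x : U, ((a ⟨x, hUQ x.2⟩ : Q) : Ω) = (e x : U) := fun x => by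
    have h1 := (hax ⟨x, hUQ x.2⟩).symm.trans (l.conj g x _ (le_normalizerIn (hUQ.trans hQR) (l.ρ g x).2))
    rw [congrArg (fun v : ↥(normalizerIn R U) => (v : Ω)) (l.inj h1)]
    exact (hgU x).trans (hbU x)
  have hamod : ModT T (Q.subtype.comp a.toMonoidHom) := fun x => by
    obtain ⟨z, hz, -, e'⟩ := hzform x
    show (x : Ω)⁻¹ * ((a x : Q) : Ω) ∈ T
    rw [e', Subgroup.coe_mul, ← mul_assoc]
    exact T.mul_mem (hmod x) (hUT hz)
  -- the difference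
  set θ := a⁻¹ * b with hθ
  have hθF : θ ∈ F.autGroup Q := mul_mem (inv_mem haF) hb
  have hθU : ∀ x : Q, (x : Ω) ∈ U → θ x = x := fun x hx => by
    have h1 : a x = b x := Subtype.ext ((haU ⟨x, hx⟩).trans (hbU ⟨x, hx⟩).symm)
    rw [hθ, MulAut.mul_apply, ← h1, MulAut.inv_apply_self]
  have hθz : ∀ x : Q, ∃ z : Q, (z : Ω) ∈ U ∧ (∀ u ∈ U, (z : Ω) * u = u * z) ∧ θ x = x * z := by
    intro x
    obtain ⟨z, hz, hzc, e'⟩ := hzform x
    -- `θ x = x · a⁻¹(z⁻¹)`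
    obtain ⟨w, hw⟩ := e.surjective ⟨(z : Ω)⁻¹, U.inv_mem hz⟩
    have haw : a ⟨w, hUQ w.2⟩ = z⁻¹ := Subtype.ext ((haU w).trans (congrArg Subtype.val hw))
    refine ⟨⟨w, hUQ w.2⟩, w.2, fun u hu => ?_, ?_⟩
    · have h2 : e w * e ⟨u, hu⟩ = e ⟨u, hu⟩ * e w := by
        rw [hw]
        refine Subtype.ext ?_
        exact (Commute.inv_left (hzc _ (e ⟨u, hu⟩).2)).eq
      rw [← map_mul, ← map_mul] at h2
      exact congrArg Subtype.val (e.injective h2)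
    · rw [hθ, MulAut.mul_apply]
      apply a.injective
      rw [MulAut.apply_inv_self, map_mul, e', haw, mul_inv_cancel_right]
  have hθpow : ∃ k : ℕ, θ ^ p ^ k = 1 := by
    obtain ⟨k, hk⟩ := IsPGroup.iff_card.mp (isPGroup_of_le h.isP hQS)
    refine ⟨k, MulEquiv.ext fun x => ?_⟩
    obtain ⟨z, hz, -, hz'⟩ := hθz x
    have hit : ∀ i : ℕ, (θ ^ i) x = x * z ^ i := by
      intro i
      induction i with
      | zero => simp
      | succ i ih => rw [pow_succ', MulAut.mul_apply, ih, map_mul, map_pow, hθU z hz, hz',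
          pow_succ', mul_assoc]
    rw [hit, ← hk, pow_card_eq_one', mul_one]
    rfl
  -- inner automorphisms by central elements of `U`
  let I : Set (MulAut Q) := {c | ∃ w : Q, (w : Ω) ∈ U ∧ (∀ u ∈ U, (w : Ω) * u = u * w) ∧
    c = MulAut.conj w}
  have hIA : ∀ c ∈ I, c ∈ l.sys.autGroup Q := by
    rintro c ⟨w, -, -, rfl⟩
    exact l.mem_sys_aut hQN (g := l.ι ⟨w, hQN w.2⟩) fun x => by
      rw [← map_inv, ← map_mul, ← map_mul]
      rfl
  have hIθ : ∀ c ∈ I, θ * c * θ⁻¹ ∈ I := by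
    rintro c ⟨w, hw, hwc, rfl⟩
    refine ⟨w, hw, hwc, MulEquiv.ext fun x => ?_⟩
    simp only [MulAut.mul_apply, MulAut.conj_apply, map_mul, map_inv, MulAut.apply_inv_self]
    rw [hθU w hw]
  have hcomm : a⁻¹ * θ * a * θ⁻¹ ∈ I := by
    -- move `θ` to an inner automorphism of `S`
    obtain ⟨k, hk⟩ := hθpow
    obtain ⟨η₀, hη₀, hη₀n, y₀, hy₀, hy₀x⟩ := exists_conj_of_pElement hQS
      (fun X _ hX => (centralized_automized_of_fullyNormalized h.isP h.sat hX).2) hθF hk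
    set U₂ := (η₀.comp (Subgroup.inclusion hUQ)).range with hU₂
    have hU₂T : U₂ ≤ T := by
      rintro _ ⟨x, rfl⟩
      exact stronglyClosed_apply h.closed hη₀ _ (hUT x.2)
    obtain ⟨U₁, hUU, hU₁⟩ := exists_isFullyNormalized F (hU₂T.trans h.le)
    obtain ⟨β, hβ, hβm, hβU⟩ := exists_hom_normalizerIn_of_fullyNormalized h.isP h.sat hU₁ hUU
    have hQnorm : ∀ x : Q, η₀ x ∈ normalizerIn S U₂ := fun x => by
      refine ⟨apply_mem hη₀ x, Subgroup.mem_normalizer_iff.mpr fun v => ?_⟩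
      have key : ∀ (x : Q) (v : Ω), v ∈ U₂ → η₀ x * v * (η₀ x)⁻¹ ∈ U₂ := by
        rintro x _ ⟨u, rfl⟩
        refine ⟨⟨(x : Ω) * u * (x : Ω)⁻¹, mem_normalizer_conj (hQN x.2).2 u.2⟩, ?_⟩
        show η₀ ⟨_, _⟩ = η₀ x * η₀ (Subgroup.inclusion hUQ u) * (η₀ x)⁻¹
        rw [← map_inv, ← map_mul, ← map_mul]
        rfl
      refine ⟨key x v, fun hv => ?_⟩
      have := key x⁻¹ _ hv
      rw [map_inv] at this
      simpa [mul_assoc] using this
    have hy₀N : y₀ ∈ normalizerIn S U₂ := by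
      have hfix : ∀ u ∈ U₂, y₀ * u * y₀⁻¹ = u := by
        rintro _ ⟨u, rfl⟩
        show y₀ * η₀ _ * y₀⁻¹ = η₀ _
        rw [← hy₀x, hθU _ u.2]
      refine ⟨hy₀, Subgroup.mem_normalizer_iff.mpr fun v => ⟨fun hv => by rwa [hfix v hv],
        fun hv => ?_⟩⟩
      have h1 := hfix _ hv
      rwa [mul_left_cancel (mul_right_cancel h1)] at hv
    set η : Q →* Ω := β.comp (η₀.codRestrict _ hQnorm) with hη
    have hηF : η ∈ F.Hom Q := F.comp_mem hη₀ hβ hQnorm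
    set y₁ : ↥(normalizerIn S U₁) := ⟨β ⟨y₀, hy₀N⟩, hβm _⟩ with hy₁
    have hθη : ∀ x : Q, η (θ x) = y₁ * η x * (y₁ : Ω)⁻¹ := fun x => by
      show β ⟨η₀ (θ x), _⟩ = β ⟨y₀, hy₀N⟩ * β ⟨η₀ x, _⟩ * (β ⟨y₀, hy₀N⟩)⁻¹
      rw [← map_inv, ← map_mul, ← map_mul]
      exact congrArg β (Subtype.ext (hy₀x x))
    set ηU := η.comp (Subgroup.inclusion hUQ) with hηU
    have hηUF : ηU ∈ F.Hom U := restrict_mem hηF hUQ
    have hrU : ηU.range = U₁ := by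
      rw [← hβU]
      ext v
      constructor
      · rintro ⟨u, rfl⟩
        exact ⟨⟨η₀ (Subgroup.inclusion hUQ u), hQnorm _⟩, ⟨u, rfl⟩, rfl⟩
      · rintro ⟨w, ⟨u, hu⟩, rfl⟩
        exact ⟨u, congrArg β (Subtype.ext hu)⟩
    have hU₁c : E.IsCentric U₁ := hrU ▸ isCentric_map h hU hηUF
    obtain ⟨l₁⟩ := exists_loc (R := S) h h.le le_rfl hU₁c
      (h.isFullyNormalized_sub hU₁c.1 hU₁)
    set Q₁ := η.range with hQ₁
    have hQ₁N : Q₁ ≤ normalizerIn S U₁ := by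
      rintro _ ⟨x, rfl⟩
      exact hβm _
    have hU₁Q₁ : U₁ ≤ Q₁ := by
      rw [← hrU]
      rintro _ ⟨u, rfl⟩
      exact ⟨_, rfl⟩
    set eη := isoOfHom η (F.injective_of_mem hηF) hQ₁.symm with heη
    set eU := isoOfHom ηU (F.injective_of_mem hηUF) hrU with heU
    set a₁ := MulAut.congr eη a with ha₁
    have ha₁x : ∀ x, a₁ (eη x) = eη (a x) := fun x => by
      rw [ha₁, MulAut.congr_apply]
      simp only [MulEquiv.trans_apply, MulEquiv.symm_apply_apply]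
    set e₁ := MulAut.congr eU e with he₁
    have he₁x : ∀ x, e₁ (eU x) = eU (e x) := fun x => by
      rw [he₁, MulAut.congr_apply]
      simp only [MulEquiv.trans_apply, MulEquiv.symm_apply_apply]
    have he₁E : e₁ ∈ E.autGroup U₁ := by
      refine h.aut_transport hUT hηUF hrU he fun x hm => ?_
      rw [show (⟨ηU x, hm⟩ : U₁) = eU x from Subtype.ext rfl, he₁x]
      rfl
    have ha₁mod : ModT T (Q₁.subtype.comp a₁.toMonoidHom) := by
      refine h.modT_transport hηF hQ₁.symm hamod fun x hm => ?_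
      rw [show (⟨η x, hm⟩ : Q₁) = eη x from Subtype.ext rfl, ha₁x]
      rfl
    have ha₁U : ∀ v : U₁, (Q₁.subtype.comp a₁.toMonoidHom) ⟨v, hU₁Q₁ v.2⟩ =
        (e₁ v : U₁) := by
      intro v
      obtain ⟨x, rfl⟩ := eU.surjective v
      rw [he₁x, show (⟨((eU x : U₁) : Ω), hU₁Q₁ (eU x).2⟩ : Q₁) =
        eη ⟨x, hUQ x.2⟩ from Subtype.ext rfl]
      show ((a₁ (eη _) : Q₁) : Ω) = _
      rw [ha₁x]
      show η _ = η _
      exact congrArg η (Subtype.ext (haU x))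
    obtain ⟨j₁, hj₁U, hj₁x, hj₁J⟩ := l₁.exists_realizing h le_rfl hU₁c hU₁Q₁ hQ₁N
      (φ := Q₁.subtype.comp a₁.toMonoidHom) (fun x => hQ₁N (a₁ x).2) (n := 1) (one_mem _) he₁E
      (fun x => by simp only [one_mul, inv_one, mul_one]; exact ha₁mod x)
      (fun x => by simp only [one_mul, inv_one, mul_one]; exact ha₁U x)
    have hj₁J := hj₁J T.one_mem
    -- the commutator lies in the centre of `U₁`
    have hρy : l₁.ρ (l₁.ι y₁) = 1 := MulEquiv.ext fun v => by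
      obtain ⟨x, rfl⟩ := eU.surjective v
      refine Subtype.ext ((l₁.rho y₁ _).trans ?_)
      show (y₁ : Ω) * η _ * (y₁ : Ω)⁻¹ = η _
      rw [← hθη, hθU _ x.2]
    set c := j₁ * l₁.ι y₁ * j₁⁻¹ * (l₁.ι y₁)⁻¹ with hc
    have hcJ : c ∈ l₁.J := by
      have h1 := l₁.normal.conj_mem _ (l₁.J.inv_mem hj₁J) (l₁.ι y₁)
      have h2 := l₁.J.mul_mem hj₁J h1
      refine (Eq.mpr (congrArg (· ∈ l₁.J) ?_) h2)
      rw [hc]; group
    have hcρ : l₁.ρ c = 1 := by rw [hc]; simp [hρy]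
    obtain ⟨w, hwU, hwc, hwe⟩ := l₁.exists_of_kerJ hU₁c hcJ hcρ
    obtain ⟨u₀, hu₀⟩ := hrU.ge hwU
    -- compute
    obtain ⟨w', hw'⟩ : ∃ w' : U, e w' = u₀ := e.surjective _
    have hwc' : ∀ u ∈ U, (w' : Ω) * u = u * w' := by
      intro u hu
      have h1 := hwc _ (hrU.le ⟨e ⟨u, hu⟩, rfl⟩)
      rw [← hu₀, ← hw', ← map_mul ηU, ← map_mul ηU] at h1
      have h2 := F.injective_of_mem hηUF h1
      rw [← map_mul e, ← map_mul e] at h2
      exact congrArg Subtype.val (e.injective h2)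
    refine ⟨⟨((w'⁻¹ : U) : Ω), hUQ (w'⁻¹).2⟩, (w'⁻¹).2, fun u hu => ?_, MulEquiv.ext fun x => ?_⟩
    · exact (Commute.inv_left (hwc' u hu)).eq
    -- the key identity `a θ = c_w θ a`
    have key : ∀ x : Q, a (θ x) = ⟨u₀, hUQ u₀.2⟩ * θ (a x) * (⟨u₀, hUQ u₀.2⟩ : Q)⁻¹ := by
      intro x
      apply Subtype.ext
      obtain ⟨zx, hzx, hzxc, hX⟩ := hj₁x (eη x)
      obtain ⟨zθ, hzθ, hzθc, hθX⟩ := hj₁x (eη (θ x))
      set Y := l₁.ι y₁
      have hj : j₁ * Y * j₁⁻¹ = l₁.ι w * Y := by rw [hwe, hc]; group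
      have hconj : ∀ v : Q, l₁.ι ⟨eη (θ v), hQ₁N (eη (θ v)).2⟩ =
          Y * l₁.ι ⟨eη v, hQ₁N (eη v).2⟩ * Y⁻¹ := fun v => by
        rw [← map_inv, ← map_mul, ← map_mul]
        exact congrArg l₁.ι (Subtype.ext (hθη v))
      -- `zθ = zx`
      obtain ⟨u₁, hu₁, hu₁c, hθx⟩ := hθz x
      have hzz : zθ = zx := by
        obtain ⟨u₂, hu₂, -, hu₂X⟩ := hj₁x (eη u₁)
        have hu₂1 : u₂ = 1 := by
          have hm : (eη u₁ : Ω) ∈ U₁ := hrU.le ⟨⟨u₁, hu₁⟩, rfl⟩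
          have h1 := l₁.conj j₁ ⟨eη u₁, hm⟩ (hQ₁N (eη u₁).2)
            (le_normalizerIn (hU₁c.1.trans h.le) (l₁.ρ j₁ _).2)
          have h2 := congrArg (fun v : ↥(normalizerIn S U₁) => (v : Ω))
            (l₁.inj (hu₂X.symm.trans h1))
          rw [Subgroup.coe_mul, hj₁U] at h2
          exact Subtype.ext (mul_left_cancel (a := ((a₁ (eη u₁) : Q₁) : Ω))
            (h2.trans (mul_one _).symm))
        have hsplit : (⟨eη (θ x), hQ₁N (eη (θ x)).2⟩ : ↥(normalizerIn S U₁)) =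
            ⟨eη x, hQ₁N (eη x).2⟩ * ⟨eη u₁, hQ₁N (eη u₁).2⟩ := Subtype.ext (by
          show η (θ x) = η x * η u₁
          rw [← map_mul, hθx])
        have h3 := hθX
        rw [hsplit, map_mul, show j₁ * (l₁.ι ⟨eη x, hQ₁N (eη x).2⟩ *
          l₁.ι ⟨eη u₁, hQ₁N (eη u₁).2⟩) * j₁⁻¹ = (j₁ * l₁.ι ⟨eη x, hQ₁N (eη x).2⟩ * j₁⁻¹) *
          (j₁ * l₁.ι ⟨eη u₁, hQ₁N (eη u₁).2⟩ * j₁⁻¹) by group, hX, hu₂X, hu₂1, mul_one,
          ← map_mul] at h3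
        have h4 := congrArg (fun v : ↥(normalizerIn S U₁) => (v : Ω)) (l₁.inj h3)
        simp only [Subgroup.coe_mul] at h4
        have h5 : ((a₁ (eη (θ x)) : Q₁) : Ω) = (a₁ (eη x) : Q₁) * (a₁ (eη u₁) : Q₁) := by
          rw [hθx, map_mul, map_mul, Subgroup.coe_mul]
        have hau : ((a₁ (eη u₁) : Q₁) : Ω) ∈ U₁ := by
          rw [ha₁x]
          exact hrU.le ⟨e ⟨u₁, hu₁⟩, congrArg η (Subtype.ext (haU ⟨u₁, hu₁⟩).symm)⟩
        change ((a₁ (eη x) : Q₁) : Ω) * zx * (a₁ (eη u₁) : Q₁) = (a₁ (eη (θ x)) : Q₁) * zθ at h4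
        rw [h5, mul_assoc, mul_assoc, hzxc _ hau] at h4
        exact Subtype.ext (mul_left_cancel (mul_left_cancel h4)).symm
      have hmain : l₁.ι (⟨eη (a (θ x)), hQ₁N (eη (a (θ x))).2⟩ * zθ) =
          l₁.ι w * (Y * l₁.ι (⟨eη (a x), hQ₁N (eη (a x)).2⟩ * zx) * Y⁻¹) * (l₁.ι w)⁻¹ := by
        have h1 : l₁.ι (⟨eη (a (θ x)), hQ₁N (eη (a (θ x))).2⟩ * zθ) =
            l₁.ι (⟨(Q₁.subtype.comp a₁.toMonoidHom) (eη (θ x)), hQ₁N (a₁ (eη (θ x))).2⟩ * zθ) :=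
          congrArg (fun v => l₁.ι (v * zθ)) (Subtype.ext (by rw [← ha₁x]; rfl))
        have h2 : l₁.ι (⟨eη (a x), hQ₁N (eη (a x)).2⟩ * zx) =
            l₁.ι (⟨(Q₁.subtype.comp a₁.toMonoidHom) (eη x), hQ₁N (a₁ (eη x)).2⟩ * zx) :=
          congrArg (fun v => l₁.ι (v * zx)) (Subtype.ext (by rw [← ha₁x]; rfl))
        rw [h1, h2, ← hθX, ← hX, hconj]
        rw [show j₁ * (Y * l₁.ι ⟨eη x, hQ₁N (eη x).2⟩ * Y⁻¹) * j₁⁻¹ =
          (j₁ * Y * j₁⁻¹) * (j₁ * l₁.ι ⟨eη x, hQ₁N (eη x).2⟩ * j₁⁻¹) * (j₁ * Y * j₁⁻¹)⁻¹ by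
            group, hj]
        group
      have hYz : Y * l₁.ι zx * Y⁻¹ = l₁.ι zx := by
        have := l₁.conj Y ⟨zx, hzx⟩ zx.2 (by rw [hρy]; exact zx.2)
        simpa [hρy] using this
      rw [map_mul, map_mul, show Y * (l₁.ι ⟨eη (a x), hQ₁N (eη (a x)).2⟩ * l₁.ι zx) * Y⁻¹ =
        (Y * l₁.ι ⟨eη (a x), hQ₁N (eη (a x)).2⟩ * Y⁻¹) * (Y * l₁.ι zx * Y⁻¹) by group, hYz,
        ← hconj, hzz, ← map_inv, ← map_mul, ← map_mul, ← map_mul, ← map_mul] at hmain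
      have h6 := congrArg (fun v : ↥(normalizerIn S U₁) => (v : Ω)) (l₁.inj hmain)
      simp only [Subgroup.coe_mul, Subgroup.coe_inv] at h6
      have hzw : (zx : Ω) * (w : Ω)⁻¹ = (w : Ω)⁻¹ * zx :=
        (Commute.inv_right (hzxc _ hwU)).eq
      rw [show (w : Ω) * ((eη (θ (a x)) : Q₁) * (zx : Ω)) * (w : Ω)⁻¹ =
        (w : Ω) * (eη (θ (a x)) : Q₁) * ((zx : Ω) * (w : Ω)⁻¹) by group, hzw, ← mul_assoc] at h6
      have h7 := mul_right_cancel h6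
      change η (a (θ x)) = (w : Ω) * η (θ (a x)) * (w : Ω)⁻¹ at h7
      rw [← hu₀, show ηU u₀ = η ⟨u₀, hUQ u₀.2⟩ from rfl, ← map_inv, ← map_mul, ← map_mul] at h7
      exact congrArg Subtype.val (F.injective_of_mem hηF h7)
    -- conclude
    obtain ⟨v, rfl⟩ := θ.surjective x
    show a⁻¹ (θ (a (θ⁻¹ (θ v)))) = _
    rw [MulAut.inv_apply_self, MulAut.conj_apply]
    apply a.injective
    rw [MulAut.apply_inv_self, map_mul, map_mul, map_inv, key v]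
    have hwa : a ⟨((w'⁻¹ : U) : Ω), hUQ (w'⁻¹).2⟩ = (⟨u₀, hUQ u₀.2⟩ : Q)⁻¹ := by
      refine Subtype.ext ((haU w'⁻¹).trans ?_)
      rw [map_inv, hw']
      rfl
    rw [hwa]
    group
  -- conclude
  obtain ⟨k, hk⟩ := hθpow
  set N : Subgroup (MulAut Q) := Subgroup.closure (insert a I) with hN
  have hNA : N ≤ l.sys.autGroup Q := by
    refine (Subgroup.closure_le _).mpr ?_
    rintro c (rfl | hc)
    exacts [haA, hIA c hc]
  refine hNA ?_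
  have hbeq : b = a * θ := by rw [hθ, mul_inv_cancel_left]
  have hθN : ∀ c ∈ N, θ * c * θ⁻¹ ∈ N := by
    intro c hc
    induction hc using Subgroup.closure_induction with
    | mem c hc =>
      rcases hc with rfl | hc
      · have h1 : θ * a * θ⁻¹ = a * (a⁻¹ * θ * a * θ⁻¹) := by group
        rw [h1]
        exact N.mul_mem (Subgroup.subset_closure (Or.inl rfl))
          (Subgroup.subset_closure (Or.inr hcomm))
      · exact Subgroup.subset_closure (Or.inr (hIθ c hc))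
    | one => simp
    | mul x y _ _ hx hy =>
      rw [show θ * (x * y) * θ⁻¹ = (θ * x * θ⁻¹) * (θ * y * θ⁻¹) by group]
      exact N.mul_mem hx hy
    | inv x _ hx =>
      rw [show θ * x⁻¹ * θ⁻¹ = (θ * x * θ⁻¹)⁻¹ by group]
      exact N.inv_mem hx
  rw [hbeq] at hco ⊢
  exact mem_of_mul_coprime (Subgroup.subset_closure (Or.inl rfl)) hθN (hk ▸ one_mem _) hco

end CfsgLib.FusionProduct
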