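import Cfsg.Agent.Lib.FusionProduct.Tools
import Cfsg.Agent.Lib.FusionModels.LocalModel
import Cfsg.Agent.Lib.FusionBasics.Hyperfocal

/-!
Local models at `U C_S(U)` for a fully normalized `U ≤ T` centric in `E`, and the subgroup of the
elements acting trivially modulo `U`.
-/

set_option autoImplicit false
set_option linter.style.haveILetI false
set_option linter.unusedSectionVars false

namespace CfsgLib.FusionProduct

open Cfsg Cfsg.FusionSystem CfsgLib.Alperin CfsgLib.FusionSub CfsgLib.FusionBasics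
open scoped Pointwise

universe u

variable {Ω : Type u} [Group Ω] {S T : Subgroup Ω}

/-- `U C_S(U)`. -/
abbrev cSup (S U : Subgroup Ω) : Subgroup Ω := U ⊔ centralizerIn S U

theorem mem_cSup {U : Subgroup Ω} {v : Ω} :
    v ∈ cSup S U ↔ ∃ u ∈ U, ∃ c ∈ centralizerIn S U, u * c = v := by
  refine ⟨fun h => ?_, fun ⟨u, hu, c, hc, e⟩ => e ▸ mul_mem (Subgroup.mem_sup_left hu)
    (Subgroup.mem_sup_right hc)⟩
  have hn : centralizerIn S U ≤ Subgroup.normalizer (U : Set Ω) :=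
    inf_le_right.trans (CfsgLib.FusionBasics.centralizer_le_normalizer U)
  have h' : v ∈ (U : Set Ω) * (centralizerIn S U : Set Ω) := by
    rw [← Subgroup.coe_mul_of_right_le_normalizer_left U (centralizerIn S U) hn]
    exact h
  obtain ⟨u, hu, c, hc, e⟩ := h'
  exact ⟨u, hu, c, hc, e⟩

variable {F : FusionSystem S} {E : FusionSystem T} {p : ℕ} [Fact p.Prime] [Finite S]

theorem cSup_le_normalizerIn {U : Subgroup Ω} (hU : U ≤ S) : cSup S U ≤ normalizerIn S U :=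
  sup_centralizerIn_le_normalizerIn hU

theorem cSup_inf {U : Subgroup Ω} (hU : E.IsCentric U) : cSup S U ⊓ T = U := by
  refine le_antisymm ?_ (le_inf le_sup_left hU.1)
  rintro v ⟨hv, hvT⟩
  obtain ⟨u, hu, c, hc, rfl⟩ := mem_cSup.mp hv
  have hcT : c ∈ T := by simpa using T.mul_mem (T.inv_mem (hU.1 hu)) hvT
  exact mul_mem hu (hU.2 U (isConj_refl E hU.1) ⟨hcT, hc.2⟩)

/-- A model of the normalizer of `U` and `U C_S(U)`. -/
structure Model (F : FusionSystem S) (U : Subgroup Ω) where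
  L : Type u
  [grp : Group L]
  fin : Finite L
  ι : ↥(normalizerIn S U) →* L
  ρ : L →* MulAut U
  inj : Function.Injective ι
  rho : ∀ (m : ↥(normalizerIn S U)) (x : U), ((ρ (ι m) x : U) : Ω) = m * x * (m : Ω)⁻¹
  conj : ∀ (l : L) (x : U) (h₁ : (x : Ω) ∈ normalizerIn S U)
    (h₂ : ((ρ l x : U) : Ω) ∈ normalizerIn S U), l * ι ⟨x, h₁⟩ * l⁻¹ = ι ⟨(ρ l x : U), h₂⟩
  hom : ∀ (l : L) (R : Subgroup Ω) (hR : R ≤ normalizerIn S U) (φ : R →* Ω),
    (∀ x : R, ∃ h : φ x ∈ normalizerIn S U, l * ι ⟨x, hR x.2⟩ * l⁻¹ = ι ⟨φ x, h⟩) → φ ∈ F.Hom R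
  cent : ∀ l : L, (∀ v : ↥(normalizerIn S U), (v : Ω) ∈ cSup S U → l * ι v * l⁻¹ = ι v) →
    l ∈ ι.range
  normV : ∀ (l : L) (v : ↥(normalizerIn S U)), (v : Ω) ∈ cSup S U →
    ∃ v' : ↥(normalizerIn S U), (v' : Ω) ∈ cSup S U ∧ l * ι v * l⁻¹ = ι v'
  lift : ∀ a ∈ F.autGroup (cSup S U), ∃ l : L, ∀ (v : cSup S U) (h₁ : (v : Ω) ∈ normalizerIn S U)
    (h₂ : ((a v : cSup S U) : Ω) ∈ normalizerIn S U),
      l * ι ⟨v, h₁⟩ * l⁻¹ = ι ⟨(a v : cSup S U), h₂⟩
  sylow : ∀ H : Subgroup L, IsPGroup p H → ∃ g : L, ∀ x ∈ H, g * x * g⁻¹ ∈ ι.range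

attribute [instance] Model.grp

theorem exists_model (h : Setup F E p) {U : Subgroup Ω} (hU : E.IsCentric U)
    (hn : F.IsFullyNormalized U) : Nonempty (Model (p := p) F U) := by
  haveI := h.finT
  set V := cSup S U with hVdef
  have hUS := hn.1
  have hVN : V ≤ normalizerIn S U := cSup_le_normalizerIn hUS
  have hVS : V ≤ S := hVN.trans (normalizerIn_le S U)
  have hVT : V ⊓ T = U := cSup_inf hU
  have hUV : U ≤ V := le_sup_left
  -- maps defined on `V` respect `U`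
  have hVU : ∀ {φ : V →* Ω}, φ ∈ F.Hom V → ∀ x : V, (x : Ω) ∈ U → φ x ∈ φ.range ⊓ T :=
    fun hφ x hx => ⟨⟨x, rfl⟩, stronglyClosed_apply h.closed hφ x (hU.1 hx)⟩
  have hNV : normalizerIn S V = normalizerIn S U := by
    refine le_antisymm (fun g hg => ⟨hg.1, Subgroup.mem_normalizer_iff.mpr fun x => ?_⟩)
      (fun g hg => ⟨hg.1, Subgroup.mem_normalizer_iff.mpr fun x => ?_⟩)
    · have key : ∀ {k : Ω}, k ∈ normalizerIn S U → ∀ {y : Ω}, y ∈ V → k * y * k⁻¹ ∈ V := by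
        intro k hk y hy
        obtain ⟨u, hu, c, hc, rfl⟩ := mem_cSup.mp hy
        refine mem_cSup.mpr ⟨k * u * k⁻¹, mem_normalizer_conj hk.2 hu, k * c * k⁻¹,
          ⟨S.mul_mem (S.mul_mem hk.1 hc.1) (S.inv_mem hk.1), fun q hq => ?_⟩, by group⟩
        have hq' : k⁻¹ * q * k⁻¹⁻¹ ∈ U := mem_normalizer_conj (inv_mem hk.2) hq
        calc q * (k * c * k⁻¹) = k * (k⁻¹ * q * k⁻¹⁻¹ * c) * k⁻¹ := by group
          _ = k * (c * (k⁻¹ * q * k⁻¹⁻¹)) * k⁻¹ := by rw [hc.2 _ hq']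
          _ = k * c * k⁻¹ * q := by group
      refine ⟨key hg, fun hx => ?_⟩
      have := key ((normalizerIn S U).inv_mem hg) hx
      simpa [mul_assoc] using this
    · constructor
      · intro hx
        exact hVT.le ⟨(Subgroup.mem_normalizer_iff.mp hg.2 x).mp (hUV hx),
          h.conj_mem hg.1 (hU.1 hx)⟩
      · intro hx
        refine hVT.le ⟨(Subgroup.mem_normalizer_iff.mp hg.2 x).mpr (hUV hx), ?_⟩
        have := h.conj_mem (S.inv_mem hg.1) (hU.1 hx)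
        simpa [mul_assoc] using this
  -- `V` is fully normalized and centric
  have hVn : F.IsFullyNormalized V := by
    refine ⟨hVS, fun R ⟨φ, hφ, hφr⟩ => ?_⟩
    set χ := φ.comp (Subgroup.inclusion hUV) with hχ
    have hχF : χ ∈ F.Hom U := restrict_mem hφ hUV
    haveI := finite_of_le hVS
    have hRU : R ⊓ T = χ.range := by
      refine le_antisymm ?_ ?_
      · rintro y ⟨hyR, hyT⟩
        obtain ⟨x, rfl⟩ := hφr.ge hyR
        exact ⟨⟨x, hVT.le ⟨x.2, mem_of_apply_mem h.closed hφ x hyT⟩⟩, congrArg φ (Subtype.ext rfl)⟩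
      · rintro _ ⟨x, rfl⟩
        have := hVU hφ (Subgroup.inclusion hUV x) x.2
        rwa [hφr] at this
    have hle : normalizerIn S R ≤ normalizerIn S χ.range := by
      rw [← hRU]
      intro g hg
      refine ⟨hg.1, Subgroup.mem_normalizer_iff.mpr fun x => ⟨fun hx =>
        ⟨(Subgroup.mem_normalizer_iff.mp hg.2 x).mp hx.1, h.conj_mem hg.1 hx.2⟩, fun hx =>
        ⟨(Subgroup.mem_normalizer_iff.mp hg.2 x).mpr hx.1, ?_⟩⟩⟩
      have := h.conj_mem (S.inv_mem hg.1) hx.2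
      simpa [mul_assoc] using this
    rw [hNV]
    haveI := finite_of_le (normalizerIn_le S χ.range)
    exact (Subgroup.card_le_of_le hle).trans (hn.2 _ ⟨χ, hχF, rfl⟩)
  have hVc : F.IsCentric V := isCentric_of_fullyCentralized h.isP h.sat
    (centralized_automized_of_fullyNormalized h.isP h.sat hVn).1 fun g hg =>
      Subgroup.mem_sup_right ⟨hg.1, Subgroup.centralizer_le hUV hg.2⟩
  obtain ⟨L, _, ι₀, ρV, hM⟩ := CfsgLib.FusionModels.exists_localModel (A := F.autGroup V)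
    h.isP h.sat hVn hVc (autInducedBy_le_autGroup F hVS) le_rfl
  -- restriction to `U`
  have hstab : ∀ l, ρV l ∈ stab V U := by
    intro l x
    have hl : ρV l ∈ F.autGroup V := hM.range_eq.le ⟨l, rfl⟩
    have hlh := (mem_autGroup_iff F hVS).mp hl
    haveI := finite_of_le hVS
    constructor
    · intro hx
      rw [← hVT]
      exact ⟨(ρV l x).2, stronglyClosed_apply h.closed hlh x (hU.1 hx)⟩
    · intro hx
      rw [← hVT]
      exact ⟨x.2, mem_of_apply_mem h.closed hlh x (hU.1 hx)⟩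
  let ρ : L →* MulAut U := (stabRes hUV).comp (ρV.codRestrict (stab V U) hstab)
  let ι : ↥(normalizerIn S U) →* L := ι₀.comp (Subgroup.inclusion hNV.ge)
  have hrange : ι.range = ι₀.range := by
    refine le_antisymm ?_ ?_
    · rintro _ ⟨m, rfl⟩; exact ⟨_, rfl⟩
    · rintro _ ⟨m, rfl⟩; exact ⟨⟨m, hNV.le m.2⟩, rfl⟩
  refine ⟨{ L := L, fin := hM.finite, ι := ι, ρ := ρ, inj := ?_, rho := ?_, conj := ?_,
            hom := ?_, cent := ?_, normV := ?_, lift := ?_, sylow := ?_ }⟩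
  · exact hM.inj.comp (Subgroup.inclusion_injective _)
  · intro m x
    show (((ρV (ι₀ _) (Subgroup.inclusion hUV x)) : V) : Ω) = _
    rw [hM.map_iota]
    rfl
  · intro l x h₁ h₂
    exact hM.conj_apply l (Subgroup.inclusion hUV x) (hNV.ge h₁) (hNV.ge h₂)
  · intro l R hR φ hφ
    exact hM.hom l R (hR.trans hNV.ge) φ fun x => by
      obtain ⟨hm, e⟩ := hφ x
      exact ⟨hNV.ge hm, e⟩
  · intro l hl
    have h1 : ρV l = 1 := by
      refine MulEquiv.ext fun v => Subtype.ext ?_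
      have hv : (v : Ω) ∈ normalizerIn S U := hVN v.2
      have e1 := hl ⟨v, hv⟩ v.2
      have e2 := hM.conj_apply l v (hNV.ge hv) (hNV.ge (hVN (ρV l v).2))
      exact congrArg (fun m : ↥(normalizerIn S V) => (m : Ω)) (hM.inj (e2.symm.trans e1))
    obtain ⟨m, -, rfl⟩ := hM.ker_le l h1
    rw [hrange]
    exact ⟨m, rfl⟩
  · intro l v hv
    exact ⟨⟨(ρV l ⟨v, hv⟩ : V), hVN (ρV l _).2⟩, (ρV l _).2,
      hM.conj_apply l ⟨v, hv⟩ (hNV.ge v.2) _⟩
  · intro a ha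
    obtain ⟨l, rfl⟩ := hM.range_eq.ge ha
    exact ⟨l, fun v h₁ h₂ => hM.conj_apply l v (hNV.ge h₁) (hNV.ge h₂)⟩
  · intro H hH
    haveI := hM.finite
    haveI := finite_of_le (normalizerIn_le S V)
    let P : Sylow p L := IsPGroup.toSylow (P := ι₀.range)
      (((isPGroup_of_le h.isP (normalizerIn_le S V)).of_surjective ι₀.rangeRestrict
        ι₀.rangeRestrict_surjective)) hM.index
    obtain ⟨Q, hQ⟩ := hH.exists_le_sylow
    obtain ⟨g, hg⟩ := MulAction.exists_smul_eq L Q P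
    refine ⟨g, fun x hx => ?_⟩
    have h1 : g * x * g⁻¹ ∈ (P : Subgroup L) := by
      rw [← hg, Sylow.coe_subgroup_smul]
      exact ⟨x, hQ hx, rfl⟩
    rw [hrange]
    exact h1

namespace Model

variable {U : Subgroup Ω} (M : Model (p := p) F U)

/-- The elements inducing maps of `E` on `U` and trivial on `U C_S(U)` modulo `U`. -/
def J (h : Setup F E p) (hU : E.IsCentric U) : Subgroup M.L where
  carrier := {l | M.ρ l ∈ E.autGroup U ∧ ∀ v : ↥(normalizerIn S U), (v : Ω) ∈ cSup S U →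
    ∃ v' : ↥(normalizerIn S U), (v : Ω)⁻¹ * v' ∈ U ∧ l * M.ι v * l⁻¹ = M.ι v'}
  one_mem' := ⟨by rw [map_one]; exact one_mem _, fun v _ => ⟨v, by simp, by simp⟩⟩
  mul_mem' {a b} ha hb := by
    refine ⟨by rw [map_mul]; exact mul_mem ha.1 hb.1, fun v hv => ?_⟩
    obtain ⟨v', hv', e'⟩ := hb.2 v hv
    have hv'V : (v' : Ω) ∈ cSup S U := by
      have := mul_mem hv (Subgroup.mem_sup_left (T := centralizerIn S U) hv')
      rwa [mul_inv_cancel_left] at this
    obtain ⟨v'', hv'', e''⟩ := ha.2 v' hv'V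
    refine ⟨v'', ?_, ?_⟩
    · have := U.mul_mem hv' hv''
      simpa [mul_assoc] using this
    · rw [show a * b * M.ι v * (a * b)⁻¹ = a * (b * M.ι v * b⁻¹) * a⁻¹ by group, e', e'']
  inv_mem' {a} ha := by
    refine ⟨by rw [map_inv]; exact inv_mem ha.1, fun v hv => ?_⟩
    obtain ⟨w, hwV, hw⟩ := M.normV a⁻¹ v hv
    obtain ⟨w', hw', e'⟩ := ha.2 w hwV
    rw [← hw, inv_inv, show a * (a⁻¹ * M.ι v * a) * a⁻¹ = M.ι v by group] at e'
    have hww : v = w' := M.inj e'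
    refine ⟨w, ?_, hw⟩
    have := U.inv_mem hw'
    rw [← hww] at this
    simpa using this

theorem mem_J {h : Setup F E p} {hU : E.IsCentric U} {l : M.L} :
    l ∈ M.J h hU ↔ M.ρ l ∈ E.autGroup U ∧ ∀ v : ↥(normalizerIn S U), (v : Ω) ∈ cSup S U →
    ∃ v' : ↥(normalizerIn S U), (v : Ω)⁻¹ * v' ∈ U ∧ l * M.ι v * l⁻¹ = M.ι v' := Iff.rfl

theorem rho_mem_autGroup (h : Setup F E p) (hU : E.IsCentric U) (l : M.L) :
    M.ρ l ∈ F.autGroup U := by
  have hUS := hU.1.trans h.le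
  refine (mem_autGroup_iff F hUS).mpr (M.hom l U (le_normalizerIn hUS) _ fun x => ?_)
  exact ⟨le_normalizerIn hUS (M.ρ l x).2, M.conj l x _ _⟩

instance J_normal (h : Setup F E p) (hU : E.IsCentric U) : (M.J h hU).Normal := by
  refine ⟨fun a ha l => ?_⟩
  refine ⟨?_, fun v hv => ?_⟩
  · rw [map_mul, map_mul, map_inv]
    exact conj_mem_autGroup_of_isInvariantIn h.inv hU.1 (M.rho_mem_autGroup h hU l) ha.1
  · obtain ⟨w, hwV, hw⟩ := M.normV l⁻¹ v hv
    rw [inv_inv] at hw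
    obtain ⟨w', hww, e⟩ := ha.2 w hwV
    set u : U := ⟨(w : Ω)⁻¹ * w', hww⟩ with hu
    have hUN : U ≤ normalizerIn S U := le_normalizerIn (hU.1.trans h.le)
    have e2 : l * M.ι (w⁻¹ * w') * l⁻¹ = M.ι ⟨(M.ρ l u : U), hUN (M.ρ l u).2⟩ :=
      M.conj l u (w⁻¹ * w').2 _
    refine ⟨v * ⟨(M.ρ l u : U), hUN (M.ρ l u).2⟩, ?_, ?_⟩
    · show (v : Ω)⁻¹ * ((v : Ω) * ((M.ρ l u : U) : Ω)) ∈ U
      rw [inv_mul_cancel_left]
      exact (M.ρ l u).2
    · rw [map_mul, ← e2, map_mul, map_inv, show M.ι v = l * M.ι w * l⁻¹ by rw [← hw]; group,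
        ← e]
      group

/-- The elements of `J` trivial on `U` have `p`-power order. -/
theorem exists_pow_of_ker (h : Setup F E p) (hU : E.IsCentric U) {l : M.L} (hl : l ∈ M.J h hU)
    (hρ : M.ρ l = 1) : ∃ k : ℕ, l ^ p ^ k = 1 := by
  have hUS := hU.1.trans h.le
  have hUN : U ≤ normalizerIn S U := le_normalizerIn hUS
  haveI := finite_of_le hUS
  obtain ⟨k, hk⟩ := IsPGroup.iff_card.mp (isPGroup_of_le h.isP hUS)
  have hfix : ∀ (x : U), l * M.ι ⟨x, hUN x.2⟩ * l⁻¹ = M.ι ⟨x, hUN x.2⟩ := fun x => by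
    have := M.conj l x (hUN x.2) (hUN (M.ρ l x).2)
    simpa [hρ] using this
  have h1 : l ^ p ^ k ∈ M.ι.range := by
    refine M.cent _ fun v hv => ?_
    obtain ⟨v', hv', e⟩ := hl.2 v hv
    set u : U := ⟨(v : Ω)⁻¹ * v', hv'⟩ with hu
    have e' : l * M.ι v * l⁻¹ = M.ι v * M.ι ⟨u, hUN u.2⟩ := by
      rw [e, ← map_mul]
      refine congrArg M.ι (Subtype.ext ?_)
      show (v' : Ω) = v * ((v : Ω)⁻¹ * v')
      group
    have hit : ∀ i : ℕ, l ^ i * M.ι v * (l ^ i)⁻¹ = M.ι v * (M.ι ⟨u, hUN u.2⟩) ^ i := by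
      intro i
      induction i with
      | zero => simp
      | succ i ih =>
        have hc : l * (M.ι ⟨u, hUN u.2⟩) ^ i * l⁻¹ = (M.ι ⟨u, hUN u.2⟩) ^ i := by
          rw [← conj_pow, hfix]
        calc l ^ (i + 1) * M.ι v * (l ^ (i + 1))⁻¹
            = l * (l ^ i * M.ι v * (l ^ i)⁻¹) * l⁻¹ := by rw [pow_succ']; group
          _ = (l * M.ι v * l⁻¹) * (l * (M.ι ⟨u, hUN u.2⟩) ^ i * l⁻¹) := by rw [ih]; group
          _ = M.ι v * (M.ι ⟨u, hUN u.2⟩) ^ (i + 1) := by rw [e', hc, pow_succ', mul_assoc]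
    have hu1 : (⟨(u : Ω), hUN u.2⟩ : ↥(normalizerIn S U)) ^ p ^ k = 1 := by
      have : u ^ p ^ k = 1 := hk ▸ pow_card_eq_one'
      exact Subtype.ext (by simpa using congrArg Subtype.val this)
    rw [hit, ← map_pow, hu1, map_one, mul_one]
  obtain ⟨m, hm⟩ := h1
  haveI := finite_of_le (normalizerIn_le S U)
  obtain ⟨j, hj⟩ := (isPGroup_of_le h.isP (normalizerIn_le S U)) m
  exact ⟨k + j, by rw [pow_add, pow_mul, ← hm, ← map_pow, hj, map_one]⟩

end Model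

end CfsgLib.FusionProduct
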