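import Cfsg.Agent.Lib.FusionProduct.Orbit
import Cfsg.Agent.Lib.Alperin.PPowerIndex

/-!
Moving subgroups of `T` to well placed ones by maps of the product system.
-/

set_option autoImplicit false
set_option linter.style.haveILetI false
set_option linter.unusedSectionVars false

namespace CfsgLib.FusionProduct

open Cfsg Cfsg.FusionSystem CfsgLib.Alperin CfsgLib.FusionSub CfsgLib.FusionBasics

universe u

variable {Ω : Type u} [Group Ω] {S T : Subgroup Ω}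

variable {F : FusionSystem S} {E : FusionSystem T} {p : ℕ} [Fact p.Prime] [Finite S]
  {R : Subgroup Ω}

/-- Every subgroup of `T` is moved to a well placed one with a well placed normalizer. -/
theorem exists_good_image (c : Ctx F E p R) {U : Subgroup Ω} (hUT : U ≤ T) {P : Subgroup Ω}
    (hUP : U ≤ P) (hP : P ≤ normalizerIn R U) :
    ∃ χ ∈ (dSys c).Hom P, Good E R (img χ U) ∧ (U ≠ T →
      Good E R (normalizerIn T (img χ U)) ∧ E.IsCentric (normalizerIn T (img χ U))) := by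
  haveI := c.finT
  suffices H : ∀ (n : ℕ) (U : Subgroup Ω), Nat.card T - Nat.card U = n → U ≤ T →
      ∀ P : Subgroup Ω, U ≤ P → P ≤ normalizerIn R U →
      ∃ χ ∈ (dSys c).Hom P, Good E R (img χ U) ∧ (U ≠ T →
        Good E R (normalizerIn T (img χ U)) ∧ E.IsCentric (normalizerIn T (img χ U))) from
    H _ U rfl hUT P hUP hP
  intro n
  induction n using Nat.strong_induction_on with
  | _ n ih =>
  intro U hn hUT P hUP hP
  by_cases hne : U = T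
  · subst hne
    refine ⟨P.subtype, incl_mem _ (hP.trans (normalizerIn_le R _)), ?_, fun h => absurd rfl h⟩
    rw [show img P.subtype U = U by rw [img_eq_range _ hUP]; exact
      (MonoidHom.range_eq_map _).trans (by rw [← MonoidHom.range_eq_map]; ext y; exact
        ⟨fun ⟨x, hx⟩ => hx ▸ x.2, fun hy => ⟨⟨y, hy⟩, rfl⟩⟩)]
    exact good_top c
  -- enlarge the source
  set P₁ := P ⊔ normalizerIn T U with hP₁
  have hP₁N : P₁ ≤ normalizerIn R U := sup_le hP (inf_le_inf_right _ c.tr)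
  have hUP₁ : U ≤ P₁ := hUP.trans le_sup_left
  have hP₁R : P₁ ≤ R := hP₁N.trans (normalizerIn_le R U)
  classical
  have hne' : ∀ {χ : P₁ →* Ω}, χ ∈ (dSys c).Hom P₁ →
      Nat.card (normalizerIn T (img χ U)) ≤ Nat.card T :=
    fun _ => Subgroup.card_le_of_le (normalizerIn_le T _)
  set Pr : ℕ → Prop := fun k => ∃ χ ∈ (dSys c).Hom P₁, Nat.card (normalizerIn T (img χ U)) = k
  have hPr : Pr (Nat.card (normalizerIn T (img P₁.subtype U))) :=
    ⟨_, incl_mem _ hP₁R, rfl⟩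
  obtain ⟨χ₀, hχ₀, hχ₀max⟩ : ∃ χ₀ ∈ (dSys c).Hom P₁, ∀ χ ∈ (dSys c).Hom P₁,
      Nat.card (normalizerIn T (img χ U)) ≤ Nat.card (normalizerIn T (img χ₀ U)) := by
    obtain ⟨χ₀, hχ₀, he⟩ := Nat.findGreatest_spec (P := Pr) (hne' (incl_mem _ hP₁R)) hPr
    exact ⟨χ₀, hχ₀, fun χ hχ => (Nat.le_findGreatest (P := Pr) (hne' hχ) ⟨χ, hχ, rfl⟩).trans he.ge⟩
  set U₀ := img χ₀ U with hU₀
  have hχ₀F := dSys_le_F c _ hχ₀
  have hU₀T : U₀ ≤ T := by
    rintro _ ⟨x, hx, rfl⟩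
    exact stronglyClosed_apply c.closed hχ₀F _ (hUT hx)
  have hU₀card : Nat.card U₀ = Nat.card U := card_img hχ₀ hUP₁
  set W := normalizerIn T U₀ with hW
  have hU₀W : U₀ ≤ W := le_normalizerIn hU₀T
  have hlt : U₀ < T := lt_of_le_of_ne hU₀T fun e => by
    apply hne
    refine Subgroup.eq_of_le_of_card_ge hUT ?_
    rw [← hU₀card, e]
  obtain ⟨g₀, hg₀, hg₀N, hg₀U⟩ := exists_mem_normalizer_not_mem c.isPT hlt le_rfl
  have hWT : W ≤ T := normalizerIn_le T U₀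
  haveI := finite_of_le hWT
  have hcardlt : Nat.card U < Nat.card W := by
    rw [← hU₀card]
    exact lt_of_le_of_ne (Subgroup.card_le_of_le hU₀W) fun e =>
      hg₀U ((Subgroup.eq_of_le_of_card_ge hU₀W e.ge).ge ⟨hg₀, hg₀N⟩)
  -- move the normalizer
  set Q := χ₀.range ⊔ W with hQ
  have hQU₀ : Q ≤ normalizerIn R U₀ := by
    refine sup_le ?_ (inf_le_inf_right _ c.tr)
    rintro _ ⟨x, rfl⟩
    exact ⟨((dSys c).le_of_mem hχ₀).2 x, apply_mem_normalizer_img χ₀ hUP₁ (hP₁N x.2).2⟩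
  obtain ⟨χ₁, hχ₁, hgood₁, -⟩ := ih (Nat.card T - Nat.card W)
    (by have := Subgroup.card_le_of_le hWT; omega) W rfl hWT Q le_sup_right
    (hQU₀.trans (c.normalizerIn_le_normalizerIn U₀))
  have hWQ : W ≤ Q := le_sup_right
  set U₁ := img χ₁ U₀ with hU₁
  set W₁ := img χ₁ W with hW₁
  have hχ₁F := dSys_le_F c _ hχ₁
  have hU₁W₁ : U₁ ≤ W₁ := img_mono χ₁ hU₀W
  have hW₁N : W₁ ≤ normalizerIn T U₁ := by
    rintro _ ⟨x, hx, rfl⟩
    exact ⟨stronglyClosed_apply c.closed hχ₁F x (hWT hx),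
      apply_mem_normalizer_img χ₁ (hU₀W.trans hWQ) hx.2⟩
  have hW₁card : Nat.card W₁ = Nat.card W := card_img hχ₁ hWQ
  have hm₀ : ∀ x, χ₀ x ∈ Q := fun x => le_sup_left (a := χ₀.range) ⟨x, rfl⟩
  have hcomp : ∀ {K : Subgroup Ω} {ψ : K →* Ω}, ψ ∈ (dSys c).Hom K → ∀ hm : ∀ x, χ₁.comp
      (χ₀.codRestrict Q hm₀) x ∈ K,
      ψ.comp ((χ₁.comp (χ₀.codRestrict Q hm₀)).codRestrict K hm) ∈ (dSys c).Hom P₁ :=
    fun hψ hm => (dSys c).comp_mem ((dSys c).comp_mem hχ₀ hχ₁ hm₀) hψ hm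
  have himg₁ : img (χ₁.comp (χ₀.codRestrict Q hm₀)) U = U₁ := img_comp χ₀ χ₁ hm₀ U
  have hNU₁ : normalizerIn T U₁ = W₁ := by
    haveI := finite_of_le (normalizerIn_le T U₁)
    refine (Subgroup.eq_of_le_of_card_ge hW₁N ?_).symm
    rw [hW₁card, ← himg₁]
    exact hχ₀max _ ((dSys c).comp_mem hχ₀ hχ₁ hm₀)
  have hW₁T : W₁ ≤ T := hgood₁.1.1
  have hW₁c : E.IsCentric W₁ := by
    refine isCentric_of_fullyCentralized c.isPT c.esat
      (centralized_automized_of_fullyNormalized c.isPT c.esat hgood₁.1).1 fun y hy => ?_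
    exact hNU₁.le ⟨hy.1, Subgroup.centralizer_le_normalizer _
      (fun u hu => hy.2 u (hU₁W₁ hu) : y ∈ Subgroup.centralizer (U₁ : Set Ω))⟩
  obtain ⟨l⟩ := exists_loc c.toSetup c.tr c.rs hW₁c hgood₁.1
  obtain ⟨g, hmax⟩ := l.exists_isMax c.rs hU₁W₁
  set Q₁ := χ₁.range with hQ₁
  have hQ₁U : ∀ x : Q, χ₁ x ∈ Subgroup.normalizer (U₁ : Set Ω) := fun x =>
    apply_mem_normalizer_img χ₁ (hU₀W.trans hWQ) (hQU₀ x.2).2
  have hQ₁N : Q₁ ≤ normalizerIn R W₁ := by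
    rintro _ ⟨x, rfl⟩
    exact ⟨((dSys c).le_of_mem hχ₁).2 x, apply_mem_normalizer_img χ₁ hWQ
      (c.normalizerIn_le_normalizerIn U₀ (hQU₀ x.2)).2⟩
  obtain ⟨φ, hφ, hφN, hφV, hφimg⟩ := exists_gen_move c hW₁c hgood₁ l hU₁W₁ g rfl hmax hQ₁N
    (by rintro _ ⟨x, rfl⟩; exact hQ₁U x) (img_le_range χ₁ W)
    (fun y hy => hNU₁.le ⟨hy.2, by obtain ⟨x, rfl⟩ := hy.1; exact hQ₁U x⟩)
  set U₃ := l.act g U₁ with hU₃
  have hm₁ : ∀ x, χ₁.comp (χ₀.codRestrict Q hm₀) x ∈ Q₁ := fun x => ⟨_, rfl⟩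
  set χ' := φ.comp ((χ₁.comp (χ₀.codRestrict Q hm₀)).codRestrict Q₁ hm₁) with hχ'
  have hχ'D : χ' ∈ (dSys c).Hom P₁ := hcomp hφ hm₁
  have himg : img χ' U = U₃ := by rw [hχ', img_comp, himg₁, hφimg]
  have hU₃W : U₃ ≤ W₁ := l.act_le g U₁
  have hNU₃ : normalizerIn T U₃ = W₁ := by
    haveI : Finite ↥(normalizerIn T U₃) := finite_of_le (normalizerIn_le T U₃)
    have hle : W₁ ≤ normalizerIn T U₃ :=
      le_inf hW₁T (l.le_normalizer_act g hU₁W₁ (hNU₁.ge.trans inf_le_right))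
    refine (Subgroup.eq_of_le_of_card_ge hle ?_).symm
    rw [hW₁card, ← himg]
    exact hχ₀max _ hχ'D
  refine ⟨χ'.comp (Subgroup.inclusion le_sup_left), restrict_mem hχ'D le_sup_left, ?_, fun _ => ?_⟩
  · rw [img_comp_inclusion χ' le_sup_left hUP, himg]
    exact good_of_isMax c hW₁c hgood₁ l hU₃W hNU₃ hmax
  · rw [img_comp_inclusion χ' le_sup_left hUP, himg, hNU₃]
    exact ⟨hgood₁, hW₁c⟩

theorem img_subtype {P U : Subgroup Ω} (hUP : U ≤ P) : img P.subtype U = U := by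
  refine le_antisymm ?_ fun y hy => ⟨⟨y, hUP hy⟩, hy, rfl⟩
  rintro _ ⟨x, hx, rfl⟩
  exact hx

theorem card_sub_eq (c : Ctx F E p R) {W : Subgroup Ω} (l : Loc F E p R W) {V : Subgroup Ω}
    (hNV : normalizerIn T V = W) : Nat.card (l.sub V) = Nat.card (normalizerIn R V) := by
  rw [l.card_sub]
  congr 1
  have hle : normalizerIn R V ≤ normalizerIn R W := hNV ▸ c.normalizerIn_le_normalizerIn V
  rw [show normalizerIn R W ⊓ Subgroup.normalizer (V : Set Ω) = normalizerIn R V from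
    le_antisymm (le_inf (inf_le_left.trans inf_le_left) inf_le_right) (le_inf hle inf_le_right)]

/-- A subgroup conjugate in the ambient system to a well placed one is moved onto it by a map of
the product system defined on its normalizer. -/
theorem exists_hom_to_good (c : Ctx F E p R) {U U' : Subgroup Ω} (hUT : U ≤ T)
    (hU' : Good E R U') (hconj : (cSys c.toSetup c.rs).IsConj U U') :
    ∃ χ ∈ (dSys c).Hom (normalizerIn R U), (∀ x, χ x ∈ normalizerIn R U') ∧ img χ U = U' := by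
  haveI := c.finT
  haveI : Finite R := finite_of_le c.rs
  suffices H : ∀ (n : ℕ) (U U' : Subgroup Ω), Nat.card T - Nat.card U = n → U ≤ T →
      Good E R U' → (cSys c.toSetup c.rs).IsConj U U' →
      ∃ χ ∈ (dSys c).Hom (normalizerIn R U), (∀ x, χ x ∈ normalizerIn R U') ∧ img χ U = U' from
    H _ U U' rfl hUT hU' hconj
  intro n
  induction n using Nat.strong_induction_on with
  | _ n ih =>
  intro U U' hn hUT hU' hconj
  have hU'T : U' ≤ T := hU'.1.1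
  have hUN : U ≤ normalizerIn R U := le_normalizerIn (hUT.trans c.tr)
  have hU'N : U' ≤ normalizerIn R U' := le_normalizerIn (hU'T.trans c.tr)
  obtain ⟨χ₁, hχ₁, hg₁, hg₁'⟩ := exists_good_image c hUT hUN le_rfl
  obtain ⟨χ₂, hχ₂, hg₂, hg₂'⟩ := exists_good_image c hU'T hU'N le_rfl
  set U₁ := img χ₁ U with hU₁
  set U₂ := img χ₂ U' with hU₂
  have hχ₁N : ∀ x, χ₁ x ∈ normalizerIn R U₁ := fun x =>
    ⟨((dSys c).le_of_mem hχ₁).2 x, apply_mem_normalizer_img χ₁ hUN x.2.2⟩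
  have hχ₂N : ∀ x, χ₂ x ∈ normalizerIn R U₂ := fun x =>
    ⟨((dSys c).le_of_mem hχ₂).2 x, apply_mem_normalizer_img χ₂ hU'N x.2.2⟩
  have hc₂ : (cSys c.toSetup c.rs).IsConj U' U₂ := isConj_img (dSys_le_cSys c _ hχ₂) hU'N
  have hc₁ : (cSys c.toSetup c.rs).IsConj U U₁ := isConj_img (dSys_le_cSys c _ hχ₁) hUN
  have hC : (cSys c.toSetup c.rs).IsConj U₁ U₂ := CfsgLib.Alperin.IsConj.trans
    (CfsgLib.Alperin.IsConj.symm hc₁) (CfsgLib.Alperin.IsConj.trans hconj hc₂)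
  have hr₂ : χ₂.range = normalizerIn R U₂ := by
    haveI := finite_of_le (normalizerIn_le R U₂)
    refine Subgroup.eq_of_le_of_card_ge (by rintro _ ⟨x, rfl⟩; exact hχ₂N x) ?_
    rw [card_range_eq ((dSys c).injective_of_mem hχ₂)]
    obtain ⟨φ, hφ, hr⟩ := hc₂
    exact card_normalizerIn_le c hU' hφ hr
  -- the map between the two moved subgroups
  suffices hcore : ∃ ξ ∈ (dSys c).Hom (normalizerIn R U₁),
      (∀ x, ξ x ∈ normalizerIn R U₂) ∧ img ξ U₁ = U₂ by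
    obtain ⟨ξ, hξ, hξN, hξU⟩ := hcore
    obtain ⟨θ, hθ, hθr, hθx, -⟩ := exists_inverse hχ₂ hr₂
    let χ : ↥(normalizerIn R U) →* Ω :=
      θ.comp ((ξ.comp (χ₁.codRestrict _ hχ₁N)).codRestrict _ fun x => hξN _)
    have hθU : img θ U₂ = U' := by
      ext y
      constructor
      · rintro ⟨z, hz, rfl⟩
        obtain ⟨x, hx, hxz⟩ := hz
        obtain rfl : z = ⟨χ₂ x, hr₂.le ⟨x, rfl⟩⟩ := Subtype.ext hxz.symm
        rw [hθx]
        exact hx
      · intro hy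
        exact ⟨⟨χ₂ ⟨y, hU'N hy⟩, hr₂.le ⟨_, rfl⟩⟩, ⟨⟨y, hU'N hy⟩, hy, rfl⟩, hθx _ _⟩
    refine ⟨χ, (dSys c).comp_mem ((dSys c).comp_mem hχ₁ hξ hχ₁N) hθ fun x => hξN _,
      fun x => hθr.le ⟨_, rfl⟩, ?_⟩
    show img (θ.comp _) U = U'
    rw [img_comp, img_comp, ← hU₁, hξU, hθU]
  by_cases hne : U = T
  · subst hne
    have h1 : U₁ = U := Subgroup.eq_of_le_of_card_ge hg₁.1.1 (card_img hχ₁ hUN).ge
    have h2 : U₂ = U := Subgroup.eq_of_le_of_card_ge hg₂.1.1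
      ((CfsgLib.Alperin.IsConj.card_eq hC).trans (congrArg (fun K : Subgroup Ω => Nat.card K) h1)).ge
    rw [h1, h2]
    exact ⟨_, incl_mem _ (normalizerIn_le R U), fun x => x.2,
      img_subtype (le_normalizerIn c.tr)⟩
  have hU'ne : U' ≠ T := fun e => hne (Subgroup.eq_of_le_of_card_ge hUT
    (by rw [← CfsgLib.Alperin.IsConj.card_eq hconj, e]))
  obtain ⟨hgW', -⟩ := hg₁' hne
  obtain ⟨hgW, hWc⟩ := hg₂' hU'ne
  set W' := normalizerIn T U₁ with hW'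
  set W := normalizerIn T U₂ with hW
  haveI := finite_of_le hgW.1.1
  have hWT : W ≤ T := hgW.1.1
  have hW'T : W' ≤ T := hgW'.1.1
  -- an ambient map `W → W'`
  obtain ⟨φ, hφ, hφr⟩ := CfsgLib.Alperin.IsConj.symm hC
  obtain ⟨-, -, -, s, hs, -, e, he, hex⟩ := hφ
  have hU₂T : U₂ ≤ T := hg₂.1.1
  set e' := e.comp (Subgroup.inclusion (le_inf le_rfl hU₂T : U₂ ≤ U₂ ⊓ T)) with he'
  have he'E : e' ∈ E.Hom U₂ := restrict_mem he _
  set U₃ := e'.range with hU₃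
  have hU₁eq : U₁ = U₃.map (MulAut.conj s).toMonoidHom := by
    rw [← hφr]
    ext y
    constructor
    · rintro ⟨x, rfl⟩
      exact ⟨e' x, ⟨x, rfl⟩, (hex x (hU₂T x.2)).symm⟩
    · rintro ⟨_, ⟨x, rfl⟩, rfl⟩
      exact ⟨x, hex x (hU₂T x.2)⟩
  have hsT := c.conjT_mem hs
  have hNU₁ : W' = (normalizerIn T U₃).map (MulAut.conj s).toMonoidHom := by
    rw [hW', hU₁eq, normalizerIn_map_conj hsT]
  have hfn₃ : E.IsFullyNormalized U₃ := by
    refine ⟨range_le he'E, fun Q hQ => ?_⟩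
    have h1 := isConj_conj_hom c hQ (c.rs hs)
    rw [← hU₁eq] at h1
    have h2 := hg₁.1.2 _ h1
    rwa [normalizerIn_map_conj hsT, card_map_conj, ← hW', hNU₁, card_map_conj] at h2
  obtain ⟨η, hη, hηm, hηU⟩ := exists_hom_normalizerIn_of_fullyNormalized c.isPT c.esat hfn₃
    (show E.IsConj U₂ U₃ from ⟨e', he'E, rfl⟩)
  have hsR : ∀ x : W, η x ∈ R := fun x => c.tr (apply_mem hη x)
  set ψ : W →* Ω := (conjHom R s).comp (η.codRestrict R hsR) with hψdef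
  have hψC : ψ ∈ (cSys c.toSetup c.rs).Hom W := (cSys c.toSetup c.rs).comp_mem
    (le_cSys c.toSetup c.tr c.rs _ hη) ((cSys c.toSetup c.rs).conj_mem le_rfl hs) hsR
  have hψr : ψ.range = W' := by
    haveI := finite_of_le hW'T
    refine Subgroup.eq_of_le_of_card_ge ?_ ?_
    · rintro _ ⟨x, rfl⟩
      exact hNU₁.ge ⟨η x, hηm x, rfl⟩
    · rw [card_range_eq ((cSys c.toSetup c.rs).injective_of_mem hψC), hNU₁, card_map_conj]
      exact hg₂.1.2 _ ⟨e', he'E, rfl⟩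
  have hψU : img ψ U₂ = U₁ := by
    rw [hU₁eq, ← hηU]
    ext y
    constructor
    · rintro ⟨x, hx, rfl⟩
      exact ⟨η x, ⟨x, hx, rfl⟩, rfl⟩
    · rintro ⟨_, ⟨x, hx, rfl⟩, rfl⟩
      exact ⟨x, hx, rfl⟩
  have hWlt : Nat.card U < Nat.card W' := by
    have h1 : Nat.card U₁ = Nat.card U := card_img hχ₁ hUN
    rw [← h1]
    refine card_lt_card hW'T (CfsgLib.FusionSub.lt_normalizerIn c.isPT (lt_of_le_of_ne hg₁.1.1 fun e0 => hne ?_))
    exact Subgroup.eq_of_le_of_card_ge hUT (h1.symm.trans (by rw [e0])).ge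
  obtain ⟨ζ, hζ, hζN, hζW⟩ := ih (Nat.card T - Nat.card W')
    (by have := Subgroup.card_le_of_le hW'T; omega) W' W rfl hW'T hgW
    (CfsgLib.Alperin.IsConj.symm ⟨ψ, hψC, hψr⟩)
  have hW'N : W' ≤ normalizerIn R W' := le_normalizerIn (hW'T.trans c.tr)
  have hmψ : ∀ x : W, ψ x ∈ normalizerIn R W' := fun x => hW'N (hψr.le ⟨x, rfl⟩)
  set α : W →* Ω := ζ.comp (ψ.codRestrict _ hmψ) with hαdef
  have hαC : α ∈ (cSys c.toSetup c.rs).Hom W :=
    (cSys c.toSetup c.rs).comp_mem hψC (dSys_le_cSys c _ hζ) hmψ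
  obtain ⟨l⟩ := exists_loc c.toSetup c.tr c.rs hWc hgW.1
  obtain ⟨-, g, hg, -⟩ := exists_realizing_cMap c hWc hgW l le_rfl
    (le_normalizerIn (hWT.trans c.tr)) hαC
    (fun x _ => hζW.le ⟨⟨ψ x, hmψ x⟩, hψr.le ⟨x, rfl⟩, rfl⟩)
  have hU₂W : U₂ ≤ W := le_normalizerIn hU₂T
  set V := img ζ U₁ with hV
  have hactV : l.act g U₂ = V := by
    rw [hV, ← hψU]
    ext y
    constructor
    · rintro ⟨x, hx, rfl⟩
      exact ⟨⟨ψ x, hmψ x⟩, ⟨x, hx, rfl⟩, (hg x).symm⟩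
    · rintro ⟨z, ⟨x, hx, hxz⟩, rfl⟩
      refine ⟨x, hx, ?_⟩
      show ((l.ρ g x : W) : Ω) = ζ z
      rw [hg]
      exact congrArg ζ (Subtype.ext hxz)
  have hmax : l.IsMax U₂ := fun g' => by
    rw [card_sub_eq c l rfl, l.card_sub]
    haveI := finite_of_le (normalizerIn_le R (l.act g' U₂))
    refine le_trans (Subgroup.card_le_of_le (H := normalizerIn R W ⊓ _)
      (K := normalizerIn R (l.act g' U₂))
      (le_inf (inf_le_left.trans inf_le_left) inf_le_right)) ?_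
    have hWN := le_normalizerIn (S := R) (hWT.trans c.tr)
    refine card_normalizerIn_le c hg₂ (φ := (W.subtype.comp (l.ρ g').toMonoidHom).comp
      (Subgroup.inclusion hU₂W)) (restrict_mem
        (l.mem_cSys c hWT le_rfl inf_le_left (l.rho_mem_sys hWN g')) hU₂W) ?_
    rw [← img_eq_range]
    rfl
  -- the normalizer moved into `N_R(W)`
  have hN₁ : normalizerIn R U₁ ≤ normalizerIn R W' := c.normalizerIn_le_normalizerIn U₁
  set ζ₁ := ζ.comp (Subgroup.inclusion hN₁) with hζ₁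
  have hζ₁D : ζ₁ ∈ (dSys c).Hom (normalizerIn R U₁) := restrict_mem hζ hN₁
  have hU₁N : U₁ ≤ normalizerIn R U₁ := le_normalizerIn (hg₁.1.1.trans c.tr)
  have hW'N₁ : W' ≤ normalizerIn R U₁ := inf_le_inf_right _ c.tr
  have hζ₁F := dSys_le_F c _ hζ₁D
  obtain ⟨φg, hφg, hφgN, hφgV, hφgimg⟩ := exists_gen_move c hWc hgW l (V := V)
    (hactV ▸ l.act_le g U₂) g⁻¹ (by rw [← hactV, l.act_inv_act g hU₂W]) hmax
    (Q := ζ₁.range) (by rintro _ ⟨x, rfl⟩; exact hζN _)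
    (by
      rintro _ ⟨x, rfl⟩
      exact apply_mem_normalizer_img ζ (hU₁N.trans hN₁) (x := Subgroup.inclusion hN₁ x) x.2.2)
    (by
      rw [← hζW]
      rintro _ ⟨x, hx, rfl⟩
      exact ⟨⟨x, hW'N₁ hx⟩, congrArg ζ (Subtype.ext rfl)⟩)
    (by
      rintro y ⟨⟨x, rfl⟩, hyT⟩
      have hxT := mem_of_apply_mem c.closed hζ₁F x hyT
      exact hζW.le ⟨Subgroup.inclusion hN₁ x, ⟨hxT, x.2.2⟩, rfl⟩)
  have hm : ∀ x, ζ₁ x ∈ ζ₁.range := fun x => ⟨x, rfl⟩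
  refine ⟨φg.comp (ζ₁.codRestrict _ hm), (dSys c).comp_mem hζ₁D hφg hm,
    fun x => ⟨(hφgN _).1, hφgV _⟩, ?_⟩
  rw [img_comp, show img ζ₁ U₁ = V from img_comp_inclusion ζ hN₁ hU₁N]
  exact hφgimg

/-- Ambient maps on centric subgroups of `T` are in the product system. -/
theorem mem_dSys_of_centric (c : Ctx F E p R) {U : Subgroup Ω} (hU : E.IsCentric U)
    {φ : U →* Ω} (hφ : φ ∈ (cSys c.toSetup c.rs).Hom U) : φ ∈ (dSys c).Hom U := by
  haveI := c.finT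
  have hUT := hU.1
  have hUN : U ≤ normalizerIn R U := le_normalizerIn (hUT.trans c.tr)
  set U' := φ.range with hU'
  have hU'T : U' ≤ T := by
    rintro _ ⟨x, rfl⟩
    exact stronglyClosed_apply c.closed hφ.1 x (hUT x.2)
  have hU'N : U' ≤ normalizerIn R U' := le_normalizerIn (hU'T.trans c.tr)
  obtain ⟨χ₂, hχ₂, hg, -⟩ := exists_good_image c hU'T hU'N le_rfl
  set W := img χ₂ U' with hW
  have hχ₂U : χ₂.comp (Subgroup.inclusion hU'N) ∈ (dSys c).Hom U' := restrict_mem hχ₂ hU'N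
  have hW' : (χ₂.comp (Subgroup.inclusion hU'N)).range = W := (img_eq_range _ hU'N).symm
  obtain ⟨χ, hχ, hχN, hχU⟩ := exists_hom_to_good c hUT hg (CfsgLib.Alperin.IsConj.trans
    ⟨φ, hφ, rfl⟩ (isConj_img (dSys_le_cSys c _ hχ₂) hU'N))
  have hχU' : χ.comp (Subgroup.inclusion hUN) ∈ (dSys c).Hom U := restrict_mem hχ hUN
  have hWc : E.IsCentric W := by
    rw [← hχU, img_eq_range χ hUN]
    exact isCentric_map c.toSetup hU (dSys_le_F c _ hχU')
  obtain ⟨θ₁, hθ₁, hθ₁r, hθ₁x, hθ₁y⟩ :=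
    exists_inverse hχU' ((img_eq_range χ hUN).symm.trans hχU)
  obtain ⟨θ₂, hθ₂, -, hθ₂x, -⟩ := exists_inverse hχ₂U hW'
  have hm₁ : ∀ y : W, θ₁ y ∈ U := fun y => hθ₁r.le ⟨y, rfl⟩
  have hm₂ : ∀ x : U, φ x ∈ U' := fun x => ⟨x, rfl⟩
  let a : W →* Ω := (χ₂.comp (Subgroup.inclusion hU'N)).comp
    ((φ.comp (θ₁.codRestrict U hm₁)).codRestrict U' fun y => hm₂ _)
  have ha : a ∈ (cSys c.toSetup c.rs).Hom W := (cSys c.toSetup c.rs).comp_mem
    ((cSys c.toSetup c.rs).comp_mem (dSys_le_cSys c _ hθ₁) hφ hm₁) (dSys_le_cSys c _ hχ₂U) _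
  haveI := finite_of_le hWc.1
  obtain ⟨l⟩ := exists_loc c.toSetup c.tr c.rs hWc hg.1
  have hWN : W ≤ normalizerIn R W := le_normalizerIn (hWc.1.trans c.tr)
  obtain ⟨-, g, hgx, -⟩ := exists_realizing_cMap c hWc hg l le_rfl hWN ha
    (fun y _ => hW'.le ⟨_, rfl⟩)
  have hgD : W.subtype.comp (l.ρ g).toMonoidHom ∈ (dSys c).Hom W :=
    dSys_gen c (Or.inr ⟨W, hWc, hg, l, le_rfl, inf_le_left, l.rho_mem_sys hWN g⟩)
  have hmχ : ∀ x : U, χ.comp (Subgroup.inclusion hUN) x ∈ W := fun x => hχU.le ⟨_, x.2, rfl⟩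
  have haD : a ∈ (dSys c).Hom W := mem_of_apply_eq hgD fun y => (hgx y).symm
  refine comp_mem_apply ((dSys c).comp_mem hχU' haD hmχ) hθ₂ (fun x => hW'.le ⟨_, rfl⟩) fun x => ?_
  show φ x = θ₂ ⟨(χ₂.comp (Subgroup.inclusion hU'N)) ⟨φ ⟨θ₁ ⟨_, hmχ x⟩, hm₁ _⟩, hm₂ _⟩, _⟩
  have e1 : (⟨θ₁ ⟨_, hmχ x⟩, hm₁ _⟩ : U) = x := Subtype.ext (hθ₁x x _)
  simp only [e1]
  exact (hθ₂x ⟨φ x, hm₂ x⟩ _).symm

/-- `E` lies in the product system. -/
theorem le_dSys (c : Ctx F E p R) : E.IsSubsystemOf (dSys c) := by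
  haveI := c.finT
  intro P φ hφ
  refine closed_induction_centric (Good := fun P φ => φ ∈ (dSys c).Hom P) c.isPT c.esat
    (closed_hom E _) (fun Q _ hQ _ α hα => ?_) hφ
  exact mem_dSys_of_centric c hQ
    (le_cSys c.toSetup c.tr c.rs _ ((mem_autGroup_iff E hQ.1).mp hα))

/-- Local systems lie in every system containing their coprime automorphisms above `U`. -/
theorem locSys_le (c : Ctx F E p R) {U : Subgroup Ω} (hUT : U ≤ T) (l : Loc F E p R U)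
    (X : FusionSystem (normalizerIn R U))
    (haut : ∀ Q : Subgroup Ω, U ≤ Q → Q ≤ normalizerIn R U → ∀ b ∈ l.sys.autGroup Q,
      (orderOf b).Coprime p → b ∈ X.autGroup Q) : l.sys.IsSubsystemOf X := by
  haveI : Finite (normalizerIn R U) := finite_of_le ((normalizerIn_le R U).trans c.rs)
  have hUN : U ≤ normalizerIn R U := le_normalizerIn (hUT.trans c.tr)
  have hNp : IsPGroup p (normalizerIn R U) := isPGroup_of_le c.isP ((normalizerIn_le R U).trans c.rs)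
  let Gd : ∀ P : Subgroup Ω, (P →* Ω) → Prop := fun P φ =>
    ∃ φ' : ↥(P ⊔ U) →* Ω, φ' ∈ l.sys.Hom (P ⊔ U) ∧ φ' ∈ X.Hom (P ⊔ U) ∧
      ∀ x : P, φ' ⟨x, Subgroup.mem_sup_left x.2⟩ = φ x
  have hpres : ∀ {P : Subgroup Ω} {φ : P →* Ω}, φ ∈ l.sys.Hom P →
      ∀ x : P, (x : Ω) ∈ U → φ x ∈ U := by
    rintro P φ ⟨hP, hm, g, hg⟩ x hx
    rw [l.apply_eq_rho hP hUN hg x hx]
    exact (l.ρ g _).2
  have hG : Closed l.sys Gd := by
    constructor
    · rintro P Q φ hQ - ⟨φ', h1, h2, h3⟩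
      exact ⟨φ'.comp (Subgroup.inclusion (sup_le_sup_right hQ U)), restrict_mem h1 _,
        restrict_mem h2 _, fun x => (h3 ⟨x, hQ x.2⟩)⟩
    · rintro P Q φ ψ - - h ⟨φ', h1, h2, h3⟩ ⟨ψ', g1, g2, g3⟩
      have hm : ∀ z, φ' z ∈ Q ⊔ U := by
        have hle : P ⊔ U ≤ ((Q ⊔ U).comap φ').map (P ⊔ U).subtype := by
          refine sup_le (fun x hx => ⟨⟨x, Subgroup.mem_sup_left hx⟩, ?_, rfl⟩)
            (fun x hx => ⟨⟨x, Subgroup.mem_sup_right hx⟩, ?_, rfl⟩)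
          · show φ' _ ∈ Q ⊔ U
            rw [h3 ⟨x, hx⟩]
            exact Subgroup.mem_sup_left (h _)
          · exact Subgroup.mem_sup_right (hpres h1 _ hx)
        intro z
        obtain ⟨w, hw, hwz⟩ := hle z.2
        exact (Subtype.ext hwz : w = z) ▸ hw
      refine ⟨ψ'.comp (φ'.codRestrict _ hm), l.sys.comp_mem h1 g1 hm, X.comp_mem h2 g2 hm,
        fun x => ?_⟩
      show ψ' ⟨φ' _, _⟩ = ψ ⟨φ x, h x⟩
      rw [← g3 ⟨φ x, h x⟩]
      exact congrArg ψ' (Subtype.ext (h3 x))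
    · rintro P Q φ ψ - - hr hψ ⟨φ', h1, h2, h3⟩
      have hle : Q ⊔ U ≤ φ'.range := by
        refine sup_le ?_ ?_
        · rw [← hr]
          rintro _ ⟨x, rfl⟩
          exact ⟨_, h3 x⟩
        · have hU : img φ' U = U := by
            haveI := finite_of_le (S := normalizerIn R U) hUN
            refine Subgroup.eq_of_le_of_card_ge ?_ (card_img h1 le_sup_right).ge
            rintro _ ⟨x, hx, rfl⟩
            exact hpres h1 x hx
          intro u hu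
          exact img_le_range φ' U (hU.ge hu)
      obtain ⟨θ, hθ, -, hθx, -⟩ := exists_inverse h1 rfl
      obtain ⟨θ', hθ', -, hθ'x, -⟩ := exists_inverse h2 rfl
      refine ⟨θ.comp (Subgroup.inclusion hle), restrict_mem hθ hle,
        restrict_mem_apply hθ' hle fun y => ?_, fun y => ?_⟩
      · obtain ⟨x, hx⟩ := hle y.2
        show θ ⟨(y : Ω), hle y.2⟩ = θ' ⟨(y : Ω), hle y.2⟩
        rw [show (⟨(y : Ω), hle y.2⟩ : φ'.range) = ⟨φ' x, ⟨x, rfl⟩⟩ from Subtype.ext hx.symm]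
        exact (hθx x _).trans (hθ'x x _).symm
      · obtain ⟨x, hx⟩ := hr.ge y.2
        show θ ⟨(y : Ω), _⟩ = ψ y
        rw [show (⟨(y : Ω), hle (Subgroup.mem_sup_left y.2)⟩ : φ'.range) =
          ⟨φ' ⟨x, Subgroup.mem_sup_left x.2⟩, ⟨_, rfl⟩⟩ from Subtype.ext ((h3 x).trans hx).symm]
        refine (hθx ⟨x, Subgroup.mem_sup_left x.2⟩ _).trans ?_
        exact ((congrArg ψ (Subtype.ext hx.symm : y = ⟨φ x, hr.le ⟨x, rfl⟩⟩)).trans (hψ x _)).symm
  intro P φ hφ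
  have key : Gd P φ := by
    refine closed_induction hNp (l.sys_isSaturated c.toSetup c.rs) hG
      (fun Q hQ big α hα => ?_) hφ
    obtain ⟨g, hg⟩ := l.exists_of_sys_aut hQ.1 hα
    by_cases hUQ : U ≤ Q
    · have hle : l.sys.autGroup Q ≤ X.autGroup Q :=
        CfsgLib.Alperin.autGroup_le_of_pPrime hNp (l.sys_isSaturated c.toSetup c.rs) hQ
          (autInducedBy_le_autGroup X hQ.1) fun b hb hco => haut Q hUQ hQ.1 b hb hco
      have e : Q ⊔ U = Q := sup_eq_left.mpr hUQ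
      refine ⟨(Q.subtype.comp α.toMonoidHom).comp (Subgroup.inclusion e.le),
        restrict_mem ((mem_autGroup_iff l.sys hQ.1).mp hα) e.le,
        restrict_mem ((mem_autGroup_iff X hQ.1).mp (hle hα)) e.le, fun x => ?_⟩
      rfl
    · have hQU : Q ⊔ U ≤ normalizerIn R U := sup_le hQ.1 hUN
      set κ := (MulAut.conj g).toMonoidHom.comp l.ι with hκ
      have hle : (Q ⊔ U).subgroupOf (normalizerIn R U) ≤ l.ι.range.comap κ := by
        intro z hz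
        have hsup : Q ⊔ U ≤ (l.ι.range.comap κ).map (normalizerIn R U).subtype :=
          sup_le (fun x hx => ⟨⟨x, hQ.1 hx⟩, ⟨_, (hg ⟨x, hx⟩).symm⟩, rfl⟩)
            (fun x hx => ⟨⟨x, hUN hx⟩,
              ⟨_, (l.conj g ⟨x, hx⟩ (hUN hx) (hUN (l.ρ g _).2)).symm⟩, rfl⟩)
        obtain ⟨w, hw, hwz⟩ := hsup hz
        exact (Subtype.ext hwz : w = z) ▸ hw
      obtain ⟨φ₂, hφ₂, hm₂, hφ₂x⟩ := l.exists_hom_of_conj hQU g fun x => by
        obtain ⟨m, hm⟩ := hle (x := ⟨x, hQU x.2⟩) x.2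
        exact ⟨m, hm.symm⟩
      have hlt : Nat.card Q < Nat.card ↥(Q ⊔ U) := card_lt_card hQU
        (lt_of_le_of_ne le_sup_left fun e => hUQ (le_sup_right.trans e.ge))
      have hval : ∀ x : Q, φ₂ ⟨x, Subgroup.mem_sup_left x.2⟩ = ((α x : Q) : Ω) := fun x =>
        congrArg (fun v : ↥(normalizerIn R U) => (v : Ω))
          (l.inj ((hφ₂x ⟨x, Subgroup.mem_sup_left x.2⟩).symm.trans (hg x)))
      exact hG.restrict_apply le_sup_left hφ₂ (big _ φ₂ hφ₂ hlt) fun x => (hval x).symm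
  obtain ⟨φ', -, h2, h3⟩ := key
  exact restrict_mem_apply h2 le_sup_left fun x => (h3 x).symm

end CfsgLib.FusionProduct
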