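import Cfsg.Agent.Lib.FusionProduct.Good
import Cfsg.Agent.Lib.FusionBasics.Criterion.Ext

/-!
Orbits of subgroups of `U` under the local group at `U`.
-/

set_option autoImplicit false
set_option linter.style.haveILetI false
set_option linter.unusedSectionVars false

namespace CfsgLib.FusionProduct

open Cfsg Cfsg.FusionSystem CfsgLib.Alperin CfsgLib.FusionSub CfsgLib.FusionBasics

universe u

variable {Ω : Type u} [Group Ω] {S T : Subgroup Ω}

/-- The image of a subgroup under a homomorphism defined on `P`. -/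
def img {P : Subgroup Ω} (χ : P →* Ω) (U : Subgroup Ω) : Subgroup Ω := (U.subgroupOf P).map χ

theorem mem_img {P : Subgroup Ω} {χ : P →* Ω} {U : Subgroup Ω} {y : Ω} :
    y ∈ img χ U ↔ ∃ x : P, (x : Ω) ∈ U ∧ χ x = y := Iff.rfl

theorem img_eq_range {P U : Subgroup Ω} (χ : P →* Ω) (hUP : U ≤ P) :
    img χ U = (χ.comp (Subgroup.inclusion hUP)).range := (range_comp_inclusion χ hUP).symm

theorem img_le_range {P : Subgroup Ω} (χ : P →* Ω) (U : Subgroup Ω) : img χ U ≤ χ.range := by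
  rintro _ ⟨x, -, rfl⟩
  exact ⟨x, rfl⟩

theorem img_mono {P : Subgroup Ω} (χ : P →* Ω) {U V : Subgroup Ω} (h : U ≤ V) :
    img χ U ≤ img χ V := by
  rintro _ ⟨x, hx, rfl⟩
  exact ⟨x, h hx, rfl⟩

theorem card_img {F : FusionSystem S} {P U : Subgroup Ω} {χ : P →* Ω} (hχ : χ ∈ F.Hom P)
    (hUP : U ≤ P) : Nat.card (img χ U) = Nat.card U := by
  rw [img_eq_range χ hUP]
  exact card_range_eq (F.injective_of_mem (restrict_mem hχ hUP))

theorem isConj_img {F : FusionSystem S} {P U : Subgroup Ω} {χ : P →* Ω} (hχ : χ ∈ F.Hom P)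
    (hUP : U ≤ P) : F.IsConj U (img χ U) :=
  ⟨_, restrict_mem hχ hUP, (img_eq_range χ hUP).symm⟩

theorem img_comp {P Q : Subgroup Ω} (φ : P →* Ω) (ψ : Q →* Ω) (hm : ∀ x, φ x ∈ Q)
    (U : Subgroup Ω) : img (ψ.comp (φ.codRestrict Q hm)) U = img ψ (img φ U) := by
  ext y
  constructor
  · rintro ⟨x, hx, rfl⟩
    exact ⟨⟨φ x, hm x⟩, ⟨x, hx, rfl⟩, rfl⟩
  · rintro ⟨z, ⟨x, hx, hxz⟩, rfl⟩
    exact ⟨x, hx, congrArg ψ (Subtype.ext hxz)⟩

theorem img_comp_inclusion {P Q U : Subgroup Ω} (φ : Q →* Ω) (hPQ : P ≤ Q) (hUP : U ≤ P) :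
    img (φ.comp (Subgroup.inclusion hPQ)) U = img φ U := by
  ext y
  constructor
  · rintro ⟨x, hx, rfl⟩
    exact ⟨Subgroup.inclusion hPQ x, hx, rfl⟩
  · rintro ⟨x, hx, rfl⟩
    exact ⟨⟨x, hUP hx⟩, hx, congrArg φ (Subtype.ext rfl)⟩

theorem apply_mem_normalizer_img {P U : Subgroup Ω} (χ : P →* Ω) (hUP : U ≤ P) {x : P}
    (hx : (x : Ω) ∈ Subgroup.normalizer (U : Set Ω)) :
    χ x ∈ Subgroup.normalizer (img χ U : Set Ω) := by
  have key : ∀ {x : P}, (x : Ω) ∈ Subgroup.normalizer (U : Set Ω) → ∀ v ∈ img χ U,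
      χ x * v * (χ x)⁻¹ ∈ img χ U := by
    rintro x hx _ ⟨u, hu, rfl⟩
    exact ⟨x * u * x⁻¹, mem_normalizer_conj hx hu, by simp⟩
  refine Subgroup.mem_normalizer_iff.mpr fun v => ⟨key hx v, fun hv => ?_⟩
  have := key (x := x⁻¹) (inv_mem hx) _ hv
  rw [map_inv] at this
  simpa [mul_assoc] using this

namespace Loc

variable {F : FusionSystem S} {E : FusionSystem T} {p : ℕ} [Fact p.Prime] [Finite S]
  {R U : Subgroup Ω} (l : Loc F E p R U)

/-- The action of the local group on subgroups of `U`. -/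
def act (g : l.G) (V : Subgroup Ω) : Subgroup Ω := img (U.subtype.comp (l.ρ g).toMonoidHom) V

theorem mem_act {g : l.G} {V : Subgroup Ω} {y : Ω} :
    y ∈ l.act g V ↔ ∃ x : U, (x : Ω) ∈ V ∧ ((l.ρ g x : U) : Ω) = y := Iff.rfl

theorem act_le (g : l.G) (V : Subgroup Ω) : l.act g V ≤ U := by
  rintro _ ⟨x, -, rfl⟩
  exact (l.ρ g x).2

theorem act_mul (g h : l.G) (V : Subgroup Ω) : l.act (g * h) V = l.act g (l.act h V) := by
  ext y
  constructor
  · rintro ⟨x, hx, rfl⟩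
    refine ⟨l.ρ h x, ⟨x, hx, rfl⟩, ?_⟩
    show ((l.ρ g (l.ρ h x) : U) : Ω) = ((l.ρ (g * h) x : U) : Ω)
    rw [map_mul, MulAut.mul_apply]
  · rintro ⟨z, ⟨x, hx, hxz⟩, rfl⟩
    refine ⟨x, hx, ?_⟩
    show ((l.ρ (g * h) x : U) : Ω) = ((l.ρ g z : U) : Ω)
    rw [map_mul, MulAut.mul_apply]
    exact congrArg (fun v : U => ((l.ρ g v : U) : Ω)) (Subtype.ext hxz)

theorem act_one {V : Subgroup Ω} (hV : V ≤ U) : l.act 1 V = V := by
  ext y
  constructor
  · rintro ⟨x, hx, rfl⟩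
    show ((l.ρ 1 x : U) : Ω) ∈ V
    rwa [map_one]
  · intro hy
    refine ⟨⟨y, hV hy⟩, hy, ?_⟩
    show ((l.ρ 1 ⟨y, hV hy⟩ : U) : Ω) = y
    rw [map_one]
    rfl

theorem act_inv_act (g : l.G) {V : Subgroup Ω} (hV : V ≤ U) : l.act g⁻¹ (l.act g V) = V := by
  rw [← act_mul, inv_mul_cancel, act_one l hV]

/-- The stabilizer of `V`. -/
def stab {V : Subgroup Ω} (hV : V ≤ U) : Subgroup l.G where
  carrier := {g | l.act g V = V}
  one_mem' := l.act_one hV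
  mul_mem' {a b} (ha : l.act a V = V) (hb : l.act b V = V) := by
    show l.act (a * b) V = V
    rw [act_mul, hb, ha]
  inv_mem' {a} (ha : l.act a V = V) := by
    show l.act a⁻¹ V = V
    conv_lhs => rw [← ha]
    exact l.act_inv_act a hV

theorem mem_stab {V : Subgroup Ω} {hV : V ≤ U} {g : l.G} : g ∈ l.stab hV ↔ l.act g V = V := Iff.rfl

theorem act_iota (m : ↥(normalizerIn R U)) {V : Subgroup Ω} (hV : V ≤ U) :
    l.act (l.ι m) V = V.map (MulAut.conj (m : Ω)).toMonoidHom := by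
  ext y
  constructor
  · rintro ⟨x, hx, rfl⟩
    exact ⟨x, hx, (l.rho m x).symm⟩
  · rintro ⟨x, hx, rfl⟩
    exact ⟨⟨x, hV hx⟩, hx, l.rho m _⟩

theorem act_iota_of_mem (m : ↥(normalizerIn R U)) {V : Subgroup Ω} (hV : V ≤ U)
    (hm : (m : Ω) ∈ Subgroup.normalizer (V : Set Ω)) : l.ι m ∈ l.stab hV :=
  (l.act_iota m hV).trans (map_conj_of_mem hm)

theorem mem_normalizer_of_act_eq (m : ↥(normalizerIn R U)) {V : Subgroup Ω} (hV : V ≤ U)
    (h : l.ι m ∈ l.stab hV) : (m : Ω) ∈ Subgroup.normalizer (V : Set Ω) := by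
  have h1 := (l.act_iota m hV).symm.trans h
  refine Subgroup.mem_normalizer_iff.mpr fun x => ⟨fun hx => h1.le ⟨x, hx, rfl⟩, fun hx => ?_⟩
  obtain ⟨y, hy, hyx⟩ := h1.ge hx
  rwa [← mul_left_cancel (mul_right_cancel (hyx : (m : Ω) * y * (m : Ω)⁻¹ = _))]

/-- `U` normalizing `V` normalizes its images. -/
theorem le_normalizer_act (g : l.G) {V : Subgroup Ω} (hV : V ≤ U)
    (hUV : U ≤ Subgroup.normalizer (V : Set Ω)) :
    U ≤ Subgroup.normalizer (l.act g V : Set Ω) := by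
  intro w hw
  obtain ⟨x, hx⟩ := (l.ρ g).surjective ⟨w, hw⟩
  have := apply_mem_normalizer_img (U.subtype.comp (l.ρ g).toMonoidHom) hV (hUV x.2)
  rwa [show (U.subtype.comp (l.ρ g).toMonoidHom) x = w from congrArg Subtype.val hx] at this

/-- The elements of `N_R(U)` normalizing `V`. -/
def sub (_l : Loc F E p R U) (V : Subgroup Ω) : Subgroup ↥(normalizerIn R U) :=
  (Subgroup.normalizer (V : Set Ω)).subgroupOf (normalizerIn R U)

theorem card_sub (V : Subgroup Ω) :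
    Nat.card (l.sub V) = Nat.card ↥(normalizerIn R U ⊓ Subgroup.normalizer (V : Set Ω)) := by
  refine Nat.card_congr
    { toFun := fun x => ⟨((x : ↥(normalizerIn R U)) : Ω), x.1.2, x.2⟩
      invFun := fun x => ⟨⟨(x : Ω), x.2.1⟩, x.2.2⟩
      left_inv := fun x => rfl
      right_inv := fun x => rfl }

/-- `V` has the largest normalizer in `N_R(U)` among its images. -/
def IsMax (V : Subgroup Ω) : Prop :=
  ∀ g : l.G, Nat.card (l.sub (l.act g V)) ≤ Nat.card (l.sub V)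

theorem exists_isMax (hRS : R ≤ S) {V : Subgroup Ω} (hV : V ≤ U) :
    ∃ g, l.IsMax (l.act g V) := by
  haveI := l.fin
  obtain ⟨g, hg⟩ := Finite.exists_max fun g : l.G => Nat.card (l.sub (l.act g V))
  refine ⟨g, fun g' => ?_⟩
  rw [← act_mul]
  exact hg _

/-- The image of `N_R(U) ∩ N(V)` in the stabilizer of `V`. -/
def subStab {V : Subgroup Ω} (hV : V ≤ U) : Subgroup ↥(l.stab hV) :=
  ((l.sub V).map l.ι).subgroupOf (l.stab hV)

/-- For a maximal `V` the image of `N_R(U) ∩ N(V)` is a Sylow subgroup of the stabilizer. -/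
theorem exists_sylow_stab (hRS : R ≤ S) (hS : IsPGroup p S) {V : Subgroup Ω} (hV : V ≤ U)
    (hmax : l.IsMax V) : ∃ P : Sylow p ↥(l.stab hV), (P : Subgroup ↥(l.stab hV)) = l.subStab hV := by
  haveI := l.fin
  haveI : Finite (normalizerIn R U) := finite_of_le ((normalizerIn_le R U).trans hRS)
  set M : Subgroup l.G := (l.sub V).map l.ι with hM
  have hMV : M ≤ l.stab hV := by
    rintro _ ⟨m, hm, rfl⟩
    exact l.act_iota_of_mem m hV hm
  have hMp : IsPGroup p M :=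
    ((isPGroup_of_le hS ((normalizerIn_le R U).trans hRS)).to_subgroup _).map l.ι
  have hMcard : Nat.card M = Nat.card (l.sub V) := Subgroup.card_map_of_injective l.inj
  obtain ⟨P, hP⟩ := (hMp.comap_subtype (K := l.stab hV)).exists_le_sylow
  refine ⟨P, (Subgroup.eq_of_le_of_card_ge hP ?_).symm⟩
  set P' : Subgroup l.G := (P : Subgroup ↥(l.stab hV)).map (l.stab hV).subtype with hP'
  have hcP : Nat.card P' = Nat.card P := Subgroup.card_map_of_injective Subtype.val_injective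
  obtain ⟨g, hg⟩ := l.sylow P' (P.2.map _)
  have e1 : Nat.card ↥(M.comap (l.stab hV).subtype) = Nat.card (l.sub V) :=
    (Nat.card_congr (Subgroup.subgroupOfEquivOfLe hMV).toEquiv).trans hMcard
  refine le_trans ?_ e1.ge
  rw [← hcP]
  refine le_trans ?_ (hmax g)
  choose m hm using fun x : P' => hg x x.2
  refine Nat.card_le_card_of_injective
    (fun x => (⟨m x, ?_⟩ : ↥(l.sub (l.act g V)))) fun x y hxy => ?_
  · refine l.mem_normalizer_of_act_eq (m x) (l.act_le g V) ?_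
    rw [mem_stab, hm, ← act_mul, inv_mul_cancel_right, act_mul]
    obtain ⟨z, -, hz⟩ := x.2
    have hxV : l.act (x : l.G) V = V := hz ▸ z.2
    rw [hxV]
  · have h1 : g * (x : l.G) * g⁻¹ = g * (y : l.G) * g⁻¹ := by
      rw [← hm, ← hm]
      exact congrArg l.ι (congrArg Subtype.val hxy)
    exact Subtype.ext (mul_left_cancel (mul_right_cancel h1))

/-- A `p`-subgroup of the stabilizer of a maximal `V` is conjugate into `N_R(U) ∩ N(V)`. -/
theorem exists_conj_into (hRS : R ≤ S) (hS : IsPGroup p S) {V : Subgroup Ω} (hV : V ≤ U)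
    (hmax : l.IsMax V) {H : Subgroup l.G} (hH : IsPGroup p H) (hHV : H ≤ l.stab hV) :
    ∃ h ∈ l.stab hV, ∀ x ∈ H, ∃ m : ↥(normalizerIn R U),
      (m : Ω) ∈ Subgroup.normalizer (V : Set Ω) ∧ h * x * h⁻¹ = l.ι m := by
  haveI := l.fin
  obtain ⟨P, hPM⟩ := l.exists_sylow_stab hRS hS hV hmax
  obtain ⟨P₂, hP₂⟩ := (hH.comap_subtype (K := l.stab hV)).exists_le_sylow
  obtain ⟨h, hh⟩ := MulAction.exists_smul_eq ↥(l.stab hV) P₂ P
  refine ⟨h, h.2, fun x hx => ?_⟩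
  have h1 : h * (⟨x, hHV hx⟩ : ↥(l.stab hV)) * h⁻¹ ∈ (P : Subgroup ↥(l.stab hV)) := by
    rw [← hh, Sylow.coe_subgroup_smul]
    exact ⟨⟨x, hHV hx⟩, hP₂ hx, rfl⟩
  rw [hPM] at h1
  obtain ⟨m, hm, he⟩ := h1
  exact ⟨m, hm, he.symm⟩

/-- A map of the local system from an element carrying `Q` into `N_R(U)`. -/
theorem exists_hom_of_conj {Q : Subgroup Ω} (hQ : Q ≤ normalizerIn R U) (g : l.G)
    (hg : ∀ x : Q, ∃ m, g * l.ι ⟨x, hQ x.2⟩ * g⁻¹ = l.ι m) :
    ∃ φ ∈ l.sys.Hom Q, ∃ hm : ∀ x, φ x ∈ normalizerIn R U,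
      ∀ x : Q, g * l.ι ⟨x, hQ x.2⟩ * g⁻¹ = l.ι ⟨φ x, hm x⟩ := by
  choose m hm using hg
  let φ : Q →* Ω := MonoidHom.mk' (fun x => (m x : Ω)) fun x y => by
    refine congrArg (fun v : ↥(normalizerIn R U) => (v : Ω)) (l.inj (a₂ := m x * m y) ?_)
    rw [map_mul, ← hm, ← hm, ← hm, show (⟨((x * y : Q) : Ω), hQ (x * y).2⟩ :
      ↥(normalizerIn R U)) = ⟨x, hQ x.2⟩ * ⟨y, hQ y.2⟩ from rfl, map_mul]
    group
  exact ⟨φ, ⟨hQ, fun x => (m x).2, g, hm⟩, fun x => (m x).2, hm⟩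

theorem apply_eq_rho {Q : Subgroup Ω} (hQ : Q ≤ normalizerIn R U) (hUN : U ≤ normalizerIn R U)
    {φ : Q →* Ω} {g : l.G} {hm : ∀ x, φ x ∈ normalizerIn R U}
    (hφ : ∀ x : Q, g * l.ι ⟨x, hQ x.2⟩ * g⁻¹ = l.ι ⟨φ x, hm x⟩) (x : Q) (hx : (x : Ω) ∈ U) :
    φ x = ((l.ρ g ⟨x, hx⟩ : U) : Ω) :=
  congrArg (fun v : ↥(normalizerIn R U) => (v : Ω))
    (l.inj ((hφ x).symm.trans (l.conj g ⟨x, hx⟩ (hQ x.2) (hUN (l.ρ g _).2))))

/-- The automorphisms of `U` from the local group are maps of the local system. -/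
theorem rho_mem_sys (hUN : U ≤ normalizerIn R U) (g : l.G) :
    U.subtype.comp (l.ρ g).toMonoidHom ∈ l.sys.Hom U :=
  ⟨hUN, fun x => hUN (l.ρ g x).2, g, fun x => l.conj g x (hUN x.2) (hUN (l.ρ g x).2)⟩

end Loc

variable {F : FusionSystem S} {E : FusionSystem T} {p : ℕ} [Fact p.Prime] [Finite S]
  {R : Subgroup Ω}

/-- A generator moving `V` to a maximal image, with `Q` normalizing `V`. -/
theorem exists_gen_move' (c : Ctx F E p R) {W : Subgroup Ω} (hW : E.IsCentric W)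
    (hgW : Good E R W) (l : Loc F E p R W) {V V₃ : Subgroup Ω} (hV : V ≤ W) (g : l.G)
    (hg : l.act g V = V₃) (hmax : l.IsMax V₃) {Q : Subgroup Ω} (hQ : Q ≤ normalizerIn R W)
    (hQV : Q ≤ Subgroup.normalizer (V : Set Ω)) (hWQ : W ≤ Q) (hQT : Q ⊓ T ≤ W) :
    ∃ φ ∈ (dSys c).Hom Q, φ ∈ l.sys.Hom Q ∧ (∀ x, φ x ∈ normalizerIn R W) ∧
      (∀ x, φ x ∈ Subgroup.normalizer (V₃ : Set Ω)) ∧ img φ V = V₃ := by
  subst hg
  have hV₃ : l.act g V ≤ W := l.act_le g V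
  haveI : Finite (normalizerIn R W) := finite_of_le ((normalizerIn_le R W).trans c.rs)
  set H : Subgroup l.G := (Q.subgroupOf (normalizerIn R W)).map
    ((MulAut.conj g).toMonoidHom.comp l.ι) with hHdef
  have hHp : IsPGroup p H :=
    ((isPGroup_of_le c.isP ((normalizerIn_le R W).trans c.rs)).to_subgroup _).map _
  have hHV : H ≤ l.stab hV₃ := by
    rintro _ ⟨m, hm, rfl⟩
    show l.act (g * l.ι m * g⁻¹) (l.act g V) = _
    rw [← l.act_mul, inv_mul_cancel_right, l.act_mul, l.act_iota_of_mem m hV (hQV hm)]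
  obtain ⟨h, hh, hconj⟩ := l.exists_conj_into c.rs c.isP hV₃ hmax hHp hHV
  have hgv : ∀ x : Q, ∃ m : ↥(normalizerIn R W), (m : Ω) ∈ Subgroup.normalizer (l.act g V : Set Ω) ∧
      (h * g) * l.ι ⟨x, hQ x.2⟩ * (h * g)⁻¹ = l.ι m := fun x => by
    obtain ⟨m, hm, he⟩ := hconj _ ⟨⟨x, hQ x.2⟩, x.2, rfl⟩
    refine ⟨m, hm, ?_⟩
    rw [← he]
    show _ = h * (g * l.ι ⟨x, hQ x.2⟩ * g⁻¹) * h⁻¹
    group
  obtain ⟨φ, hφ, hm, hφe⟩ := l.exists_hom_of_conj hQ (h * g) fun x => ⟨_, (hgv x).choose_spec.2⟩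
  refine ⟨φ, dSys_gen c (Or.inr ⟨W, hW, hgW, l, hWQ, hQT, hφ⟩), hφ, hm, fun x => ?_, ?_⟩
  · obtain ⟨m, hm', he⟩ := hgv x
    rw [show φ x = m from congrArg (fun v : ↥(normalizerIn R W) => (v : Ω))
      (l.inj ((hφe x).symm.trans he))]
    exact hm'
  · have hWN : W ≤ normalizerIn R W := le_normalizerIn (hW.1.trans c.tr)
    have hact : l.act (h * g) V = l.act g V := (l.act_mul h g V).trans hh
    refine Eq.trans ?_ hact
    ext y
    constructor
    · rintro ⟨x, hx, rfl⟩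
      exact ⟨⟨x, hV hx⟩, hx, (l.apply_eq_rho hQ hWN hφe x (hV hx)).symm⟩
    · rintro ⟨x, hx, rfl⟩
      exact ⟨⟨x, hWQ x.2⟩, hx, l.apply_eq_rho hQ hWN hφe _ x.2⟩

theorem exists_gen_move (c : Ctx F E p R) {W : Subgroup Ω} (hW : E.IsCentric W)
    (hgW : Good E R W) (l : Loc F E p R W) {V V₃ : Subgroup Ω} (hV : V ≤ W) (g : l.G)
    (hg : l.act g V = V₃) (hmax : l.IsMax V₃) {Q : Subgroup Ω} (hQ : Q ≤ normalizerIn R W)
    (hQV : Q ≤ Subgroup.normalizer (V : Set Ω)) (hWQ : W ≤ Q) (hQT : Q ⊓ T ≤ W) :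
    ∃ φ ∈ (dSys c).Hom Q, (∀ x, φ x ∈ normalizerIn R W) ∧
      (∀ x, φ x ∈ Subgroup.normalizer (V₃ : Set Ω)) ∧ img φ V = V₃ := by
  obtain ⟨φ, h₁, -, h₂⟩ := exists_gen_move' c hW hgW l hV g hg hmax hQ hQV hWQ hQT
  exact ⟨φ, h₁, h₂⟩

/-- A maximal image with normalizer `W` in `T` is fully normalized. -/
theorem isFullyNormalized_of_isMax (c : Ctx F E p R) {W : Subgroup Ω} (hW : E.IsCentric W)
    (hfn : E.IsFullyNormalized W) (l : Loc F E p R W) {V : Subgroup Ω} (hV : V ≤ W)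
    (hNV : normalizerIn T V = W) (hmax : l.IsMax V) : E.IsFullyNormalized V := by
  haveI := c.finT
  have hVT := hV.trans hW.1
  haveI := finite_of_le hW.1
  obtain ⟨V₀, hVV₀, hV₀⟩ := exists_isFullyNormalized E hVT
  obtain ⟨β, hβ, hβm, hβV⟩ :=
    exists_hom_normalizerIn_of_fullyNormalized c.isPT c.esat hV₀ hVV₀
  refine ⟨hVT, fun Q hQ => (hV₀.2 Q (CfsgLib.Alperin.IsConj.trans
    (CfsgLib.Alperin.IsConj.symm hVV₀) hQ)).trans ?_⟩
  rw [hNV]
  by_contra hlt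
  set W₂ := β.range with hW₂
  have hW₂N : W₂ ≤ normalizerIn T V₀ := by
    rintro _ ⟨x, rfl⟩
    exact hβm x
  have hW₂T : W₂ ≤ T := range_le hβ
  have hW₂card : Nat.card W₂ = Nat.card W := by
    rw [← hNV]; exact card_range_eq (E.injective_of_mem hβ)
  have hlt2 : W₂ < normalizerIn T V₀ := lt_of_le_of_ne hW₂N fun e =>
    hlt ((congrArg (fun K : Subgroup Ω => Nat.card K) e).ge.trans hW₂card.le)
  obtain ⟨g₀, hg₀, hg₀N, hg₀W⟩ :=
    exists_mem_normalizer_not_mem c.isPT hlt2 (normalizerIn_le T V₀)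
  -- carry `W₂` back to `W`
  have hconj : E.IsConj W₂ W := by
    refine CfsgLib.Alperin.IsConj.symm ?_
    rw [← hNV]
    exact ⟨β, hβ, rfl⟩
  obtain ⟨β', hβ', hβ'm, hβ'W⟩ :=
    exists_hom_normalizerIn_of_fullyNormalized c.isPT c.esat hfn hconj
  have hmW : ∀ x : ↥(normalizerIn T V), β x ∈ normalizerIn T W₂ := fun x =>
    le_normalizerIn hW₂T ⟨x, rfl⟩
  have hWV : W ≤ normalizerIn T V := hNV.ge
  set e : W →* Ω := (β'.comp (β.codRestrict _ hmW)).comp (Subgroup.inclusion hWV) with he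
  have heE : e ∈ E.Hom W := restrict_mem (E.comp_mem hβ hβ' hmW) hWV
  obtain ⟨a, ha, hax⟩ := exists_aut_of_hom' E heE fun x => hβ'W.le ⟨⟨_, hmW _⟩, ⟨_, rfl⟩, rfl⟩
  obtain ⟨j, hj, hja⟩ := l.surjJ a ha
  -- the subgroup normalizing the image of `V₀`
  set X : Subgroup Ω := normalizerIn (normalizerIn T V₀) W₂ with hX
  have hXN : X ≤ normalizerIn T W₂ := fun x hx => ⟨hx.1.1, hx.2⟩
  have hcardX : Nat.card W < Nat.card X := by
    haveI := finite_of_le (hXN.trans (normalizerIn_le T W₂))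
    have hlt3 : W₂ < X := lt_of_le_not_ge (fun x hx => ⟨hW₂N hx, Subgroup.le_normalizer hx⟩)
      fun hge => hg₀W (hge ⟨hg₀, hg₀N⟩)
    rw [← hW₂card]
    exact lt_of_le_of_ne (Subgroup.card_le_of_le hlt3.le) fun e' =>
      hlt3.ne (Subgroup.eq_of_le_of_card_ge hlt3.le e'.ge)
  have hβ'X : ∀ x : X, β' ⟨x, hXN x.2⟩ ∈ normalizerIn R W := fun x =>
    ⟨c.tr (hβ'm _).1, (hβ'm _).2⟩
  have hV₀W₂ : V₀ ≤ W₂ := by
    rw [← hβV]
    exact img_le_range β V
  have hVact : l.act j V = img β' V₀ := by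
    ext y
    constructor
    · rintro ⟨x, hx, rfl⟩
      refine ⟨⟨β ⟨x, hWV x.2⟩, hmW _⟩, hβV.le ⟨⟨x, hWV x.2⟩, hx, rfl⟩, ?_⟩
      show β' _ = ((l.ρ j x : W) : Ω)
      rw [hja, hax]
      rfl
    · rintro ⟨z, hz, rfl⟩
      obtain ⟨x, hx, hxz⟩ := hβV.ge hz
      refine ⟨⟨x, hV hx⟩, hx, ?_⟩
      show ((l.ρ j ⟨(x : Ω), hV hx⟩ : W) : Ω) = _
      rw [hja, hax]
      show β' _ = β' z
      exact congrArg β' (Subtype.ext hxz)
  let κ : X →* l.G := (MulAut.conj j⁻¹).toMonoidHom.comp (l.ι.comp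
    ((β'.comp (Subgroup.inclusion hXN)).codRestrict (normalizerIn R W) hβ'X))
  have hκinj : Function.Injective κ := fun x y hxy => by
    have h1 := l.inj ((MulAut.conj j⁻¹).injective hxy)
    have h2 := congrArg (fun v : ↥(normalizerIn R W) => (v : Ω)) h1
    exact Subgroup.inclusion_injective hXN (E.injective_of_mem hβ' h2)
  have hκV : κ.range ≤ l.stab hV := by
    rintro _ ⟨x, rfl⟩
    show l.act (j⁻¹ * l.ι _ * j⁻¹⁻¹) V = V
    rw [inv_inv, l.act_mul, hVact, l.act_mul]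
    rw [show l.act (l.ι _) (img β' V₀) = img β' V₀ from
      l.act_iota_of_mem _ (hVact ▸ l.act_le j V) (apply_mem_normalizer_img β'
        (hV₀W₂.trans (le_normalizerIn hW₂T)) (x := Subgroup.inclusion hXN x) x.2.1.2)]
    rw [← hVact, l.act_inv_act j hV]
  have hκp : IsPGroup p κ.range :=
    (isPGroup_of_le c.isPT (hXN.trans (normalizerIn_le T W₂))).of_surjective κ.rangeRestrict
      κ.rangeRestrict_surjective
  obtain ⟨h, -, hconj'⟩ := l.exists_conj_into c.rs c.isP hV hmax hκp hκV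
  choose m hmN hm using fun x : X => hconj' (κ x) ⟨x, rfl⟩
  have hmT : ∀ x : X, (m x : Ω) ∈ W := fun x => by
    have hxJ : κ x ∈ l.J :=
      l.normal.conj_mem _ ((l.inter _).mpr (hβ'm (Subgroup.inclusion hXN x)).1) _
    have h1 : l.ι (m x) ∈ l.J := hm x ▸ l.normal.conj_mem _ hxJ h
    exact hNV.le ⟨(l.inter _).mp h1, hmN x⟩
  have hle : Nat.card X ≤ Nat.card W := by
    refine Nat.card_le_card_of_injective (fun x => (⟨(m x : Ω), hmT x⟩ : W)) fun x y hxy => ?_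
    have h1 : m x = m y := Subtype.ext (congrArg (fun v : W => (v : Ω)) hxy)
    refine hκinj (mul_left_cancel (mul_right_cancel ((hm x).trans ?_)))
    rw [h1]
    exact (hm y).symm
  omega

/-- A maximal image with normalizer `W` in `T` is well placed. -/
theorem good_of_isMax (c : Ctx F E p R) {W : Subgroup Ω} (hW : E.IsCentric W)
    (hgW : Good E R W) (l : Loc F E p R W) {V : Subgroup Ω} (hV : V ≤ W)
    (hNV : normalizerIn T V = W) (hmax : l.IsMax V) : Good E R V := by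
  haveI := c.finT
  haveI := l.fin
  haveI := finite_of_le hW.1
  have hfn := isFullyNormalized_of_isMax c hW hgW.1 l hV hNV hmax
  refine ⟨hfn, fun s hs hsV => ?_⟩
  have hsT := c.conjT_mem hs
  set V' := V.map (MulAut.conj s).toMonoidHom with hV'
  have hNV' : normalizerIn T V' = W.map (MulAut.conj s).toMonoidHom := by
    rw [normalizerIn_map_conj hsT, hNV]
  have hfn' : E.IsFullyNormalized V' := by
    refine ⟨CfsgLib.Alperin.IsConj.right_le hsV, fun Q hQ => ?_⟩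
    rw [hNV', card_map_conj, ← hNV]
    exact hfn.2 Q (CfsgLib.Alperin.IsConj.trans hsV hQ)
  obtain ⟨β, hβ, hβm, hβV⟩ := exists_hom_normalizerIn_of_fullyNormalized c.isPT c.esat hfn' hsV
  have hβr : β.range = W.map (MulAut.conj s).toMonoidHom := by
    haveI := finite_of_le (S := T) (show W.map (MulAut.conj s).toMonoidHom ≤ T from
      hNV' ▸ normalizerIn_le T V')
    refine Subgroup.eq_of_le_of_card_ge ?_ ?_
    · rintro _ ⟨x, rfl⟩
      exact hNV'.le (hβm x)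
    · rw [card_range_eq (E.injective_of_mem hβ), card_map_conj, hNV]
  obtain ⟨n, hn, t, ht, hst⟩ := hgW.2 s hs ⟨β.comp (Subgroup.inclusion hNV.ge),
    restrict_mem hβ hNV.ge, by
      rw [MonoidHom.range_comp, MonoidHom.range_eq_top.mpr, ← MonoidHom.range_eq_map, hβr]
      exact fun x => ⟨⟨x, hNV.le x.2⟩, rfl⟩⟩
  set t' := n * t * n⁻¹ with ht'
  have ht'T : t' ∈ T := c.conj_mem (c.rs hn.1) ht
  have hsn : t'⁻¹ * s = n := by rw [ht', hst]; group
  let e : W →* Ω := (MulAut.conj t'⁻¹).toMonoidHom.comp (β.comp (Subgroup.inclusion hNV.ge))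
  have heE : e ∈ E.Hom W :=
    comp_mem_apply (restrict_mem hβ hNV.ge) (E.conj_mem (range_le (restrict_mem hβ hNV.ge))
      (T.inv_mem ht'T)) (fun x => ⟨x, rfl⟩) fun x => rfl
  have heW : ∀ x : W, e x ∈ W := fun x => by
    obtain ⟨w, hw, hwe⟩ := hβr.le ⟨Subgroup.inclusion hNV.ge x, rfl⟩
    show t'⁻¹ * β (Subgroup.inclusion hNV.ge x) * t'⁻¹⁻¹ ∈ W
    rw [← hwe, show t'⁻¹ * (MulAut.conj s).toMonoidHom w * t'⁻¹⁻¹ =
      (t'⁻¹ * s) * w * (t'⁻¹ * s)⁻¹ by simp [mul_assoc], hsn]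
    exact mem_normalizer_conj hn.2 hw
  obtain ⟨a, ha, hax⟩ := exists_aut_of_hom' E heE heW
  obtain ⟨j, hj, hja⟩ := l.surjJ a ha
  set mn : ↥(normalizerIn R W) := ⟨n, hn⟩
  have hjV : l.act j V = l.act (l.ι mn) V := by
    rw [l.act_iota mn hV]
    show _ = V.map (MulAut.conj n).toMonoidHom
    rw [← hsn, ← map_conj_conj]
    ext y
    constructor
    · rintro ⟨x, hx, rfl⟩
      refine ⟨_, hβV.le ⟨Subgroup.inclusion hNV.ge x, hx, rfl⟩, ?_⟩
      show t'⁻¹ * _ * t'⁻¹⁻¹ = ((l.ρ j x : W) : Ω)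
      rw [hja, hax]
      rfl
    · rintro ⟨z, hz, rfl⟩
      obtain ⟨x, hx, hxz⟩ := hβV.ge hz
      refine ⟨⟨x, hV hx⟩, hx, ?_⟩
      show ((l.ρ j ⟨(x : Ω), hV hx⟩ : W) : Ω) = t'⁻¹ * z * t'⁻¹⁻¹
      rw [hja, hax, ← hxz]
      rfl
  have hstab : (l.ι mn)⁻¹ * j ∈ l.stab hV := by
    show l.act _ V = V
    rw [l.act_mul, hjV, l.act_inv_act _ hV]
  -- the stabilizer is a product of its part in `J` and its Sylow subgroup
  haveI : Finite (normalizerIn R W) := finite_of_le ((normalizerIn_le R W).trans c.rs)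
  haveI := l.normal
  let f : ↥(l.stab hV) →* l.G ⧸ l.J := (QuotientGroup.mk' l.J).comp (l.stab hV).subtype
  have hq : IsPGroup p (l.G ⧸ l.J) := by
    refine (isPGroup_of_le c.isP ((normalizerIn_le R W).trans c.rs)).of_surjective
      ((QuotientGroup.mk' l.J).comp l.ι) fun q => ?_
    obtain ⟨g, rfl⟩ := QuotientGroup.mk'_surjective l.J q
    obtain ⟨i, hi, m, rfl⟩ := l.decomp g
    refine ⟨m, ?_⟩
    rw [map_mul, show QuotientGroup.mk' l.J i = 1 from (QuotientGroup.eq_one_iff i).mpr hi,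
      one_mul]
    rfl
  have hfp : IsPGroup p f.range := hq.to_subgroup _
  obtain ⟨P, hPM⟩ := l.exists_sylow_stab c.rs c.isP hV hmax
  have hmap : (l.subStab hV).map f = f.range := by
    refine map_eq_range_of_sylow f hfp ?_
    rw [← hPM]
    exact P.card_eq_multiplicity
  obtain ⟨x, ⟨m, hm, hmx⟩, hxe⟩ := hmap.ge ⟨⟨_, hstab⟩, rfl⟩
  change l.ι m = (x : l.G) at hmx
  have hd : (l.ι m)⁻¹ * ((l.ι mn)⁻¹ * j) ∈ l.J := by
    rw [hmx]
    exact (QuotientGroup.eq (s := l.J)).mp hxe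
  have hT1 : ((mn * m)⁻¹ : ↥(normalizerIn R W)).1 ∈ T := by
    refine (l.inter _).mp ?_
    rw [map_inv, map_mul, mul_inv_rev]
    have := l.J.mul_mem hd (l.J.inv_mem hj)
    simpa [mul_assoc] using this
  refine ⟨(m : Ω)⁻¹, ⟨R.inv_mem m.2.1, Subgroup.inv_mem _ hm⟩, m * n * t, T.mul_mem ?_ ht, ?_⟩
  · -- `m n ∈ T`
    have h2 : n * (m : Ω) ∈ T := by simpa [mn] using T.inv_mem hT1
    have := c.conj_mem (c.rs m.2.1) h2
    simpa [mul_assoc] using this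
  · rw [hst]; group

end CfsgLib.FusionProduct
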