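import Cfsg.Agent.Lib.FusionProduct.LocalD

/-!
Maps of the product system fixing a well placed centric subgroup of `T` come from its local group.
-/

set_option autoImplicit false
set_option linter.style.haveILetI false
set_option linter.unusedSectionVars false

namespace CfsgLib.FusionProduct

open Cfsg Cfsg.FusionSystem CfsgLib.Alperin CfsgLib.FusionSub CfsgLib.FusionBasics

universe u

variable {Ω : Type u} [Group Ω] {S T : Subgroup Ω}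
  {F : FusionSystem S} {E : FusionSystem T} {p : ℕ} [Fact p.Prime] [Finite S] {R : Subgroup Ω}

/-- A chosen way of moving `U'` to `U`. -/
def IsChi (c : Ctx F E p R) (U' U : Subgroup Ω) (χ : ↥(normalizerIn R U') →* Ω) : Prop :=
  χ ∈ (dSys c).Hom (normalizerIn R U') ∧ img χ U' = U ∧ (U' = T → ∀ x, χ x = x)

theorem IsChi.apply_mem {c : Ctx F E p R} {U' U : Subgroup Ω} {χ : ↥(normalizerIn R U') →* Ω}
    (h : IsChi c U' U χ) (hU' : U' ≤ R) (x : ↥(normalizerIn R U')) :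
    χ x ∈ normalizerIn R U :=
  ⟨((dSys c).le_of_mem h.1).2 x, h.2.1 ▸ apply_mem_normalizer_img χ (le_normalizerIn hU') x.2.2⟩

theorem isChi_subtype (c : Ctx F E p R) {U : Subgroup Ω} (hU : U ≤ R) :
    IsChi c U U (normalizerIn R U).subtype :=
  ⟨incl_mem _ (normalizerIn_le R U), img_subtype (le_normalizerIn hU), fun _ _ => rfl⟩

theorem IsChi.eq_top {c : Ctx F E p R} {U' U : Subgroup Ω} {χ : ↥(normalizerIn R U') →* Ω}
    (h : IsChi c U' U χ) (hT : U' = T) : U = T := by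
  subst hT
  rw [← h.2.1, show χ = (normalizerIn R U').subtype from MonoidHom.ext (h.2.2 rfl)]
  exact img_subtype (le_normalizerIn c.tr)

theorem exists_isChi (c : Ctx F E p R) {U' U : Subgroup Ω} (hU'T : U' ≤ T) (hU : Good E R U)
    (hconj : (cSys c.toSetup c.rs).IsConj U' U) : ∃ χ, IsChi c U' U χ := by
  haveI := c.finT
  by_cases h : U' = T
  · have : U = T := Subgroup.eq_of_le_of_card_ge hU.1.1
      (by rw [CfsgLib.Alperin.IsConj.card_eq hconj, h])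
    rw [h, this]
    exact ⟨_, isChi_subtype c c.tr⟩
  · obtain ⟨χ, hχ, -, hχU⟩ := exists_hom_to_good c hU'T hU hconj
    exact ⟨χ, hχ, hχU, fun e => absurd e h⟩

theorem exists_isChi_good (c : Ctx F E p R) {U' : Subgroup Ω} (hU'T : U' ≤ T) :
    ∃ U χ, Good E R U ∧ IsChi c U' U χ := by
  by_cases h : U' = T
  · exact ⟨T, h ▸ (normalizerIn R T).subtype, good_top c, by subst h; exact isChi_subtype c c.tr⟩
  · obtain ⟨χ, hχ, hg, -⟩ :=
      exists_good_image c hU'T (le_normalizerIn (hU'T.trans c.tr)) le_rfl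
    exact ⟨_, χ, hg, hχ, rfl, fun e => absurd e h⟩

theorem img_le_T (c : Ctx F E p R) {P U : Subgroup Ω} {φ : P →* Ω}
    (hφ : φ ∈ (cSys c.toSetup c.rs).Hom P) (hU : U ≤ T) : img φ U ≤ T := by
  rintro _ ⟨x, hx, rfl⟩
  exact stronglyClosed_apply c.closed hφ.1 x (hU hx)

/-- `φ` is tame at the centric subgroups of order `n` of its source. -/
def TameAt (c : Ctx F E p R) (n : ℕ) {P : Subgroup Ω} (φ : P →* Ω) : Prop :=
  ∀ (U' U'' U : Subgroup Ω), E.IsCentric U' → Nat.card U' = n → U' ≤ P → img φ U' = U'' →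
    Good E R U → ∀ (l : Loc F E p R U) (χ : ↥(normalizerIn R U') →* Ω)
      (χ' : ↥(normalizerIn R U'') →* Ω), IsChi c U' U χ → IsChi c U'' U χ' →
      ∃ g : l.G, ∀ (x : P) (hx : (x : Ω) ∈ normalizerIn R U') (hx' : φ x ∈ normalizerIn R U'')
        (y y' : ↥(normalizerIn R U)), (y : Ω) = χ ⟨x, hx⟩ → (y' : Ω) = χ' ⟨φ x, hx'⟩ →
        g * l.ι y * g⁻¹ = l.ι y'

namespace Loc

variable {U : Subgroup Ω} (l : Loc F E p R U)

/-- An element fixing a maximal centric `V` pointwise comes from `C_R(V)`. -/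
theorem exists_of_fixes (c : Ctx F E p R) (hUT : U ≤ T) {V : Subgroup Ω} (hVc : E.IsCentric V)
    (hV : V ≤ U) (hUV : U ≤ Subgroup.normalizer (V : Set Ω)) (hmax : l.IsMax V) {a : l.G}
    (ha : ∀ x : U, (x : Ω) ∈ V → l.ρ a x = x) :
    ∃ m : ↥(normalizerIn R U), l.ι m = a ∧ ∀ v ∈ V, (m : Ω) * v * (m : Ω)⁻¹ = v := by
  haveI := l.fin
  haveI := c.finT
  haveI := l.normal
  haveI : Finite (normalizerIn R U) := finite_of_le ((normalizerIn_le R U).trans c.rs)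
  have hNp : IsPGroup p (normalizerIn R U) :=
    isPGroup_of_le c.isP ((normalizerIn_le R U).trans c.rs)
  let K : Subgroup l.G :=
    { carrier := {k | ∀ x : U, (x : Ω) ∈ V → l.ρ k x = x}
      one_mem' := fun x _ => by rw [map_one]; rfl
      mul_mem' := fun {k k'} hk hk' x hx => by rw [map_mul, MulAut.mul_apply, hk' x hx, hk x hx]
      inv_mem' := fun {k} hk x hx => by
        conv_lhs => rw [← hk x hx]
        rw [map_inv, MulAut.inv_apply_self] }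
  have hKV : K ≤ l.stab hV := fun k hk => by
    ext y
    constructor
    · rintro ⟨x, hx, rfl⟩
      show ((l.ρ k x : U) : Ω) ∈ V
      rw [hk x hx]
      exact hx
    · intro hy
      exact ⟨⟨y, hV hy⟩, hy, congrArg Subtype.val (hk ⟨y, hV hy⟩ hy)⟩
  haveI hKn : (K.subgroupOf (l.stab hV)).Normal := by
    refine ⟨fun k hk g x hx => ?_⟩
    show l.ρ ((g : l.G) * (k : l.G) * (g : l.G)⁻¹) x = x
    have hg' : (x : Ω) ∈ l.act (g : l.G) V := by rw [show l.act (g : l.G) V = V from g.2]; exact hx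
    obtain ⟨z, hz, hzx⟩ := hg'
    have hzx' : l.ρ (g : l.G) z = x := Subtype.ext hzx
    rw [map_mul, map_mul, MulAut.mul_apply, MulAut.mul_apply, map_inv, ← hzx',
      MulAut.inv_apply_self]
    exact congrArg (l.ρ (g : l.G)) (hk z hz)
  have hKp : IsPGroup p (K.subgroupOf (l.stab hV)) := by
    rintro ⟨⟨k, hks⟩, hk⟩
    obtain ⟨j, hj, m, hkj⟩ := l.decomp k
    obtain ⟨i₁, hi₁⟩ := hNp m
    have hJ : k ^ p ^ i₁ ∈ l.J := by
      have := mul_pow_mem (a := l.ι m) hj (fun x hx => l.normal.conj_mem x hx _) (p ^ i₁)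
      rwa [← map_pow, hi₁, map_one, inv_one, mul_one, ← hkj] at this
    haveI := finite_of_le hUT
    have hkK : k ^ p ^ i₁ ∈ K := K.pow_mem hk _
    obtain ⟨i₂, hi₂⟩ := exists_pow_dvd_of_fixes_centric c.isPT hV (le_inf hUT hUV)
      (hVc.2 V (isConj_refl E hVc.1)) (ε := l.ρ (k ^ p ^ i₁)) hkK
    rw [← map_pow] at hi₂
    obtain ⟨m', hm'⟩ := l.ker _ hi₂
    obtain ⟨i₃, hi₃⟩ := hNp m'
    refine ⟨i₁ + (i₂ + i₃), Subtype.ext (Subtype.ext ?_)⟩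
    show k ^ p ^ (i₁ + (i₂ + i₃)) = 1
    rw [pow_add, pow_mul, pow_add, pow_mul, ← hm', ← map_pow, hi₃, map_one]
  obtain ⟨P, hP⟩ := l.exists_sylow_stab c.rs c.isP hV hmax
  have hmem : (⟨a, hKV ha⟩ : ↥(l.stab hV)) ∈ (P : Subgroup ↥(l.stab hV)) :=
    hKp.le_sylow_of_normal P ha
  rw [hP] at hmem
  obtain ⟨m, -, hm⟩ := hmem
  refine ⟨m, hm, fun v hv => ?_⟩
  have h1 := l.rho m ⟨v, hV hv⟩
  rw [show l.ι m = a from hm, ha _ hv] at h1
  exact h1.symm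

end Loc

/-- The inductive hypothesis above `n`. -/
def TameAbove (c : Ctx F E p R) (n : ℕ) : Prop :=
  ∀ m, n < m → m ≤ Nat.card T → ∀ (P : Subgroup Ω) (φ : P →* Ω), φ ∈ (dSys c).Hom P → TameAt c m φ

/-- A map of the product system fixing `U` with source meeting `T` above `U` is local at `U`. -/
theorem mem_sys_of_fix (c : Ctx F E p R) {U : Subgroup Ω} (ih : TameAbove c (Nat.card U))
    (hU : E.IsCentric U) (hgood : Good E R U) (l : Loc F E p R U) {Q : Subgroup Ω} (hUQ : U ≤ Q)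
    (hQN : Q ≤ normalizerIn R U) (hlt : ∃ y ∈ Q, y ∈ T ∧ y ∉ U) {h : Q →* Ω}
    (hh : h ∈ (dSys c).Hom Q) (hfix : ∀ x : Q, (x : Ω) ∈ U → h x ∈ U) : h ∈ l.sys.Hom Q := by
  haveI := c.finT
  have hUT := hU.1
  have hQR : Q ≤ R := hQN.trans (normalizerIn_le R U)
  haveI := finite_of_le (hQR.trans c.rs)
  haveI := finite_of_le hUT
  obtain ⟨hhN, g, hgU, hgx⟩ :=
    exists_realizing_cMap c hU hgood l hUQ hQN (dSys_le_cSys c _ hh) hfix
  choose z hzU hzc hze using hgx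
  obtain ⟨ψ, hψ, hψN, hψx⟩ := l.exists_hom_of_conj hQN g fun x => ⟨_, hze x⟩
  have hψz : ∀ x : Q, ψ x = h x * z x := fun x =>
    congrArg (fun v : ↥(normalizerIn R U) => (v : Ω)) (l.inj ((hψx x).symm.trans (hze x)))
  have hψD : ψ ∈ (dSys c).Hom Q := locSys_le_dSys c hU l _ hψ
  have hψU : ∀ x : Q, (x : Ω) ∈ U → ψ x = h x := fun x hx =>
    (l.apply_eq_rho hQN (le_normalizerIn (hUT.trans c.tr)) hψx x hx).trans (hgU ⟨x, hx⟩)
  -- `h` and `ψ` have the same image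
  have hUh : U ≤ h.range := by
    have : img h U = U := Subgroup.eq_of_le_of_card_ge
      (by rintro _ ⟨x, hx, rfl⟩; exact hfix x hx) (card_img hh hUQ).ge
    exact this.ge.trans (img_le_range h U)
  have hrange : ψ.range = h.range := by
    haveI := finite_of_le ((range_le hh).trans c.rs)
    refine Subgroup.eq_of_le_of_card_ge ?_ (le_of_eq ?_)
    · rintro _ ⟨x, rfl⟩
      rw [hψz]
      exact h.range.mul_mem ⟨x, rfl⟩ (hUh (hzU x))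
    · rw [card_range_eq ((dSys c).injective_of_mem hh),
        card_range_eq ((dSys c).injective_of_mem hψD)]
  obtain ⟨θ, hθ, hθr, hθx, hθy⟩ := exists_inverse hψD hrange
  have hmh : ∀ x, h x ∈ h.range := fun x => ⟨x, rfl⟩
  set h' : Q →* Ω := θ.comp (h.codRestrict _ hmh) with hh'def
  have hh' : h' ∈ (dSys c).Hom Q := (dSys c).comp_mem hh hθ hmh
  have hh'Q : ∀ x, h' x ∈ Q := fun x => hθr.le ⟨_, rfl⟩
  have hψh' : ∀ x, ψ ⟨h' x, hh'Q x⟩ = h x := fun x => hθy ⟨h x, hmh x⟩ _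
  have hh'U : ∀ x : Q, (x : Ω) ∈ U → h' x = x := fun x hx =>
    ((congrArg θ (Subtype.ext (hψU x hx).symm :
      (⟨h x, hmh x⟩ : h.range) = ⟨ψ x, hrange.le ⟨x, rfl⟩⟩)).trans (hθx x _))
  have hh'z : ∀ x : Q, (x : Ω)⁻¹ * h' x ∈ U := fun x => by
    obtain ⟨u, hu⟩ : ∃ u : Q, (u : Ω) ∈ U ∧ ψ u = (z x : Ω) := by
      obtain ⟨v, hv⟩ := (l.ρ g).surjective ⟨z x, hzU x⟩
      exact ⟨⟨v, hUQ v.2⟩, v.2, (l.apply_eq_rho hQN (le_normalizerIn (hUT.trans c.tr)) hψx _ v.2).trans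
        (congrArg (fun w : U => (w : Ω)) hv)⟩
    have h1 : ψ (⟨h' x, hh'Q x⟩ * u) = ψ x := by rw [map_mul, hψh', hu.2, ← hψz]
    have h2 := congrArg (fun w : Q => (w : Ω)) ((dSys c).injective_of_mem hψD h1)
    simp only [Subgroup.coe_mul] at h2
    rw [← h2, mul_inv_rev, inv_mul_cancel_right]
    exact U.inv_mem hu.1
  suffices hl : h' ∈ l.sys.Hom Q from comp_mem_apply hl hψ hh'Q fun x => (hψh' x).symm
  -- above `U`
  set W' := Q ⊓ T with hW'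
  have hW'T : W' ≤ T := inf_le_right
  have hUW' : U ≤ W' := le_inf hUQ hUT
  have hW'c : E.IsCentric W' := isCentric_of_le hU hUW' hW'T
  haveI := finite_of_le hW'T
  have hcardW : Nat.card U < Nat.card W' := by
    obtain ⟨y, hyQ, hyT, hyU⟩ := hlt
    exact lt_of_le_of_ne (Subgroup.card_le_of_le hUW') fun e =>
      hyU ((Subgroup.eq_of_le_of_card_ge hUW' e.ge).ge ⟨hyQ, hyT⟩)
  have hW'h : img h' W' = W' := by
    refine Subgroup.eq_of_le_of_card_ge ?_ (card_img hh' inf_le_left).ge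
    rintro _ ⟨x, hx, rfl⟩
    refine ⟨hh'Q x, ?_⟩
    exact stronglyClosed_apply c.closed (dSys_le_F c _ hh') x hx.2
  have hW'Q : W' ≤ Q := inf_le_left
  have hQW' : Q ≤ normalizerIn R W' := fun x hx => ⟨hQR hx,
    Subgroup.mem_normalizer_iff.mpr fun y => by
      have key : ∀ z ∈ Q, ∀ y ∈ W', z * y * z⁻¹ ∈ W' := fun z hz y hy =>
        ⟨Q.mul_mem (Q.mul_mem hz hy.1) (Q.inv_mem hz), c.conj_mem (c.rs (hQR hz)) hy.2⟩
      refine ⟨key x hx y, fun h => ?_⟩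
      have := key x⁻¹ (Q.inv_mem hx) _ h
      simpa [mul_assoc] using this⟩
  obtain ⟨W, χ, hgW, hχ⟩ := exists_isChi_good c hW'T
  have hW'N : W' ≤ normalizerIn R W' := le_normalizerIn (hW'T.trans c.tr)
  have hWc : E.IsCentric W := by
    rw [← hχ.2.1, img_eq_range χ hW'N]
    exact isCentric_map c.toSetup hW'c (restrict_mem (dSys_le_F c _ hχ.1) hW'N)
  obtain ⟨lW⟩ := exists_loc c.toSetup c.tr c.rs hWc hgW.1
  obtain ⟨a, ha⟩ := ih _ hcardW (Subgroup.card_le_of_le hW'T) Q h' hh' W' W' W hW'c rfl hW'Q hW'h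
    hgW lW χ χ hχ hχ
  have hχN := hχ.apply_mem (hW'T.trans c.tr)
  have ha' : ∀ x : Q, a * lW.ι ⟨χ ⟨x, hQW' x.2⟩, hχN _⟩ * a⁻¹ =
      lW.ι ⟨χ ⟨h' x, hQW' (hh'Q x)⟩, hχN _⟩ := fun x =>
    ha x (hQW' x.2) (hQW' (hh'Q x)) _ _ rfl rfl
  set χQ := χ.comp (Subgroup.inclusion hQW') with hχQ
  have hχQD : χQ ∈ (dSys c).Hom Q := restrict_mem hχ.1 hQW'
  have hχQF := dSys_le_F c _ hχQD
  set U₁ := img χQ U with hU₁
  have hW_eq : W = img χQ W' := by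
    rw [← hχ.2.1]
    exact (img_comp_inclusion χ hQW' hW'Q).symm
  have hU₁W : U₁ ≤ W := hW_eq ▸ img_mono χQ hUW'
  have hWU₁ : W ≤ Subgroup.normalizer (U₁ : Set Ω) := by
    rw [hW_eq]
    rintro _ ⟨x, -, rfl⟩
    exact apply_mem_normalizer_img χQ hUQ (hQN x.2).2
  have hWN : W ≤ normalizerIn R W := le_normalizerIn (hWc.1.trans c.tr)
  obtain ⟨γ, hmax⟩ := lW.exists_isMax c.rs hU₁W
  obtain ⟨φ₃, hφ₃, hφ₃l, hφ₃N, hφ₃V, hφ₃img⟩ := exists_gen_move' c hWc hgW lW hU₁W γ rfl hmax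
    (Q := χQ.range) (by rintro _ ⟨x, rfl⟩; exact hχN _)
    (by rintro _ ⟨x, rfl⟩; exact apply_mem_normalizer_img χQ hUQ (hQN x.2).2)
    (hW_eq ▸ img_le_range χQ W')
    (by
      rintro y ⟨⟨x, rfl⟩, hyT⟩
      rw [hW_eq]
      exact ⟨x, ⟨x.2, mem_of_apply_mem c.closed hχQF x hyT⟩, rfl⟩)
  set V := lW.act γ U₁ with hVdef
  have hmχ : ∀ x, χQ x ∈ χQ.range := fun x => ⟨x, rfl⟩
  set χ₁ : Q →* Ω := φ₃.comp (χQ.codRestrict _ hmχ) with hχ₁def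
  have hχ₁D : χ₁ ∈ (dSys c).Hom Q := (dSys c).comp_mem hχQD hφ₃ hmχ
  have hχ₁U : img χ₁ U = V := by rw [hχ₁def, img_comp, ← hU₁, hφ₃img]
  obtain ⟨_, _, g', hg'⟩ := hφ₃l
  have hχ₁N : ∀ x, χ₁ x ∈ normalizerIn R W := fun x => hφ₃N _
  have hg₁ : ∀ x : Q, g' * lW.ι ⟨χ ⟨x, hQW' x.2⟩, hχN _⟩ * g'⁻¹ = lW.ι ⟨χ₁ x, hχ₁N x⟩ :=
    fun x => hg' ⟨χQ x, hmχ x⟩
  set a₂ := g' * a * g'⁻¹ with ha₂
  have ha₂x : ∀ x : Q, a₂ * lW.ι ⟨χ₁ x, hχ₁N x⟩ * a₂⁻¹ = lW.ι ⟨χ₁ ⟨h' x, hh'Q x⟩, hχ₁N _⟩ := by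
    intro x
    rw [← hg₁, ← hg₁, ← ha' x, ha₂]
    group
  have hVW : V ≤ W := lW.act_le γ U₁
  have hVc : E.IsCentric V := by
    rw [← hχ₁U, img_eq_range χ₁ hUQ]
    exact isCentric_map c.toSetup hU (restrict_mem (dSys_le_F c _ hχ₁D) hUQ)
  have hfixV : ∀ x : W, (x : Ω) ∈ V → lW.ρ a₂ x = x := by
    intro x hx
    obtain ⟨u, hu, hux⟩ := hχ₁U.ge hx
    have h1 := ha₂x u
    rw [show (⟨h' u, hh'Q u⟩ : Q) = u from Subtype.ext (hh'U u hu),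
      show (⟨χ₁ u, hχ₁N u⟩ : ↥(normalizerIn R W)) = ⟨(x : Ω), hWN x.2⟩ from Subtype.ext hux] at h1
    exact Subtype.ext (congrArg (fun v : ↥(normalizerIn R W) => (v : Ω))
      (lW.inj ((lW.conj a₂ x (hWN x.2) (hWN (lW.ρ a₂ x).2)).symm.trans h1)))
  obtain ⟨m, hm, hmV⟩ := lW.exists_of_fixes c hWc.1 hVc hVW
    (lW.le_normalizer_act γ hU₁W hWU₁) hmax hfixV
  have hconj : ∀ x : Q, (m : Ω) * χ₁ x * (m : Ω)⁻¹ = χ₁ ⟨h' x, hh'Q x⟩ := fun x => by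
    have h1 := ha₂x x
    rw [← hm, ← map_inv, ← map_mul, ← map_mul] at h1
    exact congrArg (fun v : ↥(normalizerIn R W) => (v : Ω)) (lW.inj h1)
  -- move back to `U`
  have hVT : V ≤ T := hVc.1
  obtain ⟨ω, hω, hωN, hωV⟩ := exists_hom_to_good c hVT hgood (CfsgLib.Alperin.IsConj.symm
    (hχ₁U ▸ isConj_img (dSys_le_cSys c _ hχ₁D) hUQ))
  have hmN : (m : Ω) ∈ normalizerIn R V := by
    refine ⟨m.2.1, Subgroup.mem_normalizer_iff.mpr fun v => ⟨fun hv => by rwa [hmV v hv],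
      fun hv => ?_⟩⟩
    have h1 := hmV _ hv
    rwa [mul_left_cancel (mul_right_cancel h1)] at hv
  have hχ₁V : ∀ x, χ₁ x ∈ normalizerIn R V := fun x => ⟨(hχ₁N x).1, hφ₃V _⟩
  set k : Q →* Ω := ω.comp (χ₁.codRestrict _ hχ₁V) with hkdef
  have hk : k ∈ (dSys c).Hom Q := (dSys c).comp_mem hχ₁D hω hχ₁V
  have hkU : img k U = U := by rw [hkdef, img_comp, hχ₁U, hωV]
  set c' : ↥(normalizerIn R U) := ⟨ω ⟨m, hmN⟩, hωN _⟩ with hc'
  have hc'U : ∀ u ∈ U, (c' : Ω) * u = u * c' := by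
    intro u hu
    obtain ⟨v, hv, rfl⟩ := hωV.ge hu
    show ω _ * ω v = ω v * ω _
    rw [← map_mul, ← map_mul]
    exact congrArg ω (Subtype.ext (mul_inv_eq_iff_eq_mul.mp (hmV v hv)))
  obtain ⟨hkN, g₂, hg₂U, hg₂x⟩ := exists_realizing_cMap c hU hgood l hUQ hQN
    (dSys_le_cSys c _ hk) (fun x hx => hkU.le ⟨x, hx, rfl⟩)
  choose w hwU hwc hwe using hg₂x
  have hρc' : l.ρ (l.ι c') = 1 := MulEquiv.ext fun x => Subtype.ext (by
    rw [l.rho, hc'U _ x.2, mul_inv_cancel_right]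
    rfl)
  obtain ⟨m₂, hm₂⟩ := l.ker (g₂⁻¹ * l.ι c' * g₂) (by simp [hρc'])
  refine ⟨hQN, fun x => hQN (hh'Q x), l.ι m₂, fun x => ?_⟩
  have hw : w ⟨h' x, hh'Q x⟩ = w x := by
    obtain ⟨u, hxu, huU⟩ : ∃ u : Q, (⟨h' x, hh'Q x⟩ : Q) = x * u ∧ (u : Ω) ∈ U :=
      ⟨x⁻¹ * ⟨h' x, hh'Q x⟩, (mul_inv_cancel_left _ _).symm, hh'z x⟩
    have hUN : U ≤ normalizerIn R U := le_normalizerIn (hUT.trans c.tr)
    have h1 : g₂ * l.ι ⟨u, hQN u.2⟩ * g₂⁻¹ = l.ι ⟨k u, hkN u⟩ := by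
      refine (l.conj g₂ ⟨u, huU⟩ (hQN u.2) (hUN (l.ρ g₂ _).2)).trans
        (congrArg l.ι (Subtype.ext ?_))
      exact hg₂U ⟨u, huU⟩
    have h2 := hwe (x * u)
    rw [show (⟨((x * u : Q) : Ω), hQN (x * u).2⟩ : ↥(normalizerIn R U)) =
      ⟨x, hQN x.2⟩ * ⟨u, hQN u.2⟩ from rfl, map_mul,
      show g₂ * (l.ι ⟨x, hQN x.2⟩ * l.ι ⟨u, hQN u.2⟩) * g₂⁻¹ =
        (g₂ * l.ι ⟨x, hQN x.2⟩ * g₂⁻¹) * (g₂ * l.ι ⟨u, hQN u.2⟩ * g₂⁻¹) by group,
      hwe, h1, ← map_mul] at h2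
    have h3 := congrArg (fun v : ↥(normalizerIn R U) => (v : Ω)) (l.inj h2)
    change k x * (w x : Ω) * k u = k (x * u) * (w (x * u) : Ω) at h3
    rw [map_mul, mul_assoc, mul_assoc, hwc x (k u) (hkU.le ⟨u, huU, rfl⟩)] at h3
    rw [hxu]
    exact Subtype.ext (mul_left_cancel (mul_left_cancel h3)).symm
  have hk' : c' * ⟨k x, hkN x⟩ * c'⁻¹ = ⟨k ⟨h' x, hh'Q x⟩, hkN _⟩ := Subtype.ext (by
    show ω ⟨m, hmN⟩ * ω ⟨χ₁ x, hχ₁V x⟩ * (ω ⟨m, hmN⟩)⁻¹ = ω ⟨χ₁ ⟨h' x, hh'Q x⟩, hχ₁V _⟩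
    rw [← map_inv, ← map_mul, ← map_mul]
    exact congrArg ω (Subtype.ext (hconj x)))
  have hcw : c' * w x * c'⁻¹ = w x := Subtype.ext
    (mul_inv_eq_iff_eq_mul.mpr (hc'U _ (hwU x)))
  refine mul_left_cancel (a := g₂) (mul_right_cancel (b := g₂⁻¹) ?_)
  rw [hm₂, show (⟨h' x, hQN (hh'Q x)⟩ : ↥(normalizerIn R U)) =
    ⟨((⟨h' x, hh'Q x⟩ : Q) : Ω), hQN (hh'Q x)⟩ from rfl, hwe ⟨h' x, hh'Q x⟩, hw,
    show g₂ * (g₂⁻¹ * l.ι c' * g₂ * l.ι ⟨x, hQN x.2⟩ * (g₂⁻¹ * l.ι c' * g₂)⁻¹) * g₂⁻¹ =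
      l.ι c' * (g₂ * l.ι ⟨x, hQN x.2⟩ * g₂⁻¹) * (l.ι c')⁻¹ by group, hwe, ← map_inv, ← map_mul,
    ← map_mul]
  refine congrArg l.ι ?_
  rw [show c' * (⟨k x, hkN x⟩ * w x) * c'⁻¹ = (c' * ⟨k x, hkN x⟩ * c'⁻¹) * (c' * w x * c'⁻¹) by
    group, hk', hcw]

/-- A map of the product system is tame where its source contains more of `T`. -/
theorem tame_of_extend (c : Ctx F E p R) {P U' U'' U : Subgroup Ω}
    (ih : TameAbove c (Nat.card U')) {φ : P →* Ω} (hφ : φ ∈ (dSys c).Hom P)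
    (hU' : E.IsCentric U') (hU'P : U' ≤ P) (himg : img φ U' = U'') (hU : Good E R U)
    (l : Loc F E p R U) {χ : ↥(normalizerIn R U') →* Ω} {χ' : ↥(normalizerIn R U'') →* Ω}
    (hχ : IsChi c U' U χ) (hχ' : IsChi c U'' U χ')
    (hy : ∃ y ∈ P, y ∈ normalizerIn T U' ∧ y ∉ U') :
    ∃ g : l.G, ∀ (x : P) (hx : (x : Ω) ∈ normalizerIn R U') (hx' : φ x ∈ normalizerIn R U'')
      (y y' : ↥(normalizerIn R U)), (y : Ω) = χ ⟨x, hx⟩ → (y' : Ω) = χ' ⟨φ x, hx'⟩ →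
      g * l.ι y * g⁻¹ = l.ι y' := by
  have hU'T := hU'.1
  have hU''T : U'' ≤ T := himg ▸ img_le_T c (dSys_le_cSys c _ hφ) hU'T
  have hU'N : U' ≤ normalizerIn R U' := le_normalizerIn (hU'T.trans c.tr)
  set P₀ := P ⊓ normalizerIn R U' with hP₀
  set χ₀ : P₀ →* Ω := χ.comp (Subgroup.inclusion inf_le_right) with hχ₀def
  set φ₀ : P₀ →* Ω := φ.comp (Subgroup.inclusion inf_le_left) with hφ₀def
  have hχ₀ : χ₀ ∈ (dSys c).Hom P₀ := restrict_mem hχ.1 inf_le_right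
  have hφ₀ : φ₀ ∈ (dSys c).Hom P₀ := restrict_mem hφ inf_le_left
  have hφ₀N : ∀ x, φ₀ x ∈ normalizerIn R U'' := fun x =>
    ⟨((dSys c).le_of_mem hφ₀).2 x, himg ▸ apply_mem_normalizer_img φ hU'P x.2.2.2⟩
  obtain ⟨θ, hθ, hθr, hθx, -⟩ := exists_inverse hχ₀ rfl
  have hmθ : ∀ y, θ y ∈ P₀ := fun y => hθr.le ⟨y, rfl⟩
  set H : χ₀.range →* Ω := χ'.comp ((φ₀.comp (θ.codRestrict _ hmθ)).codRestrict _ fun y => hφ₀N _)
    with hHdef
  have hH : H ∈ (dSys c).Hom χ₀.range :=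
    (dSys c).comp_mem ((dSys c).comp_mem hθ hφ₀ hmθ) hχ'.1 fun y => hφ₀N _
  have hHx : ∀ x : P₀, H ⟨χ₀ x, ⟨x, rfl⟩⟩ = χ' ⟨φ₀ x, hφ₀N x⟩ := fun x =>
    congrArg χ' (Subtype.ext (congrArg φ₀ (Subtype.ext (hθx x ⟨x, rfl⟩))))
  have hU'P₀ : U' ≤ P₀ := le_inf hU'P hU'N
  have hUeq : U = img χ₀ U' := by
    rw [← hχ.2.1]
    exact (img_comp_inclusion χ inf_le_right hU'P₀).symm
  have hUc : E.IsCentric U := by
    rw [hUeq, img_eq_range χ₀ hU'P₀]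
    exact isCentric_map c.toSetup hU' (restrict_mem (dSys_le_F c _ hχ₀) hU'P₀)
  have hcard : Nat.card U = Nat.card U' := by rw [hUeq]; exact card_img hχ₀ hU'P₀
  have hχN := hχ.apply_mem (hU'T.trans c.tr)
  have hHl : H ∈ l.sys.Hom χ₀.range := by
    refine mem_sys_of_fix c (hcard ▸ ih) hUc hU l (hUeq ▸ img_le_range χ₀ U')
      (by rintro _ ⟨x, rfl⟩; exact hχN _) ?_ hH ?_
    · obtain ⟨y, hyP, hyN, hyU⟩ := hy
      let y₀ : P₀ := ⟨y, hyP, c.tr hyN.1, hyN.2⟩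
      refine ⟨χ₀ y₀, ⟨y₀, rfl⟩, stronglyClosed_apply c.closed (dSys_le_F c _ hχ₀) y₀ hyN.1,
        fun hyU₁ => hyU ?_⟩
      obtain ⟨u, hu, hue⟩ := hUeq.le hyU₁
      have h1 := (dSys c).injective_of_mem hχ₀ hue
      rw [show y = (u : Ω) from (congrArg (fun v : P₀ => (v : Ω)) h1).symm]
      exact hu
    · rintro ⟨v, hv⟩ hvU
      obtain ⟨x, hx, hxv⟩ := hUeq.le hvU
      rw [show (⟨v, hv⟩ : χ₀.range) = ⟨χ₀ x, ⟨x, rfl⟩⟩ from Subtype.ext hxv.symm, hHx]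
      exact hχ'.2.1.le ⟨⟨φ₀ x, hφ₀N x⟩, himg.le ⟨Subgroup.inclusion inf_le_left x, hx, rfl⟩, rfl⟩
  obtain ⟨hHd, hHm, g, hg⟩ := hHl
  refine ⟨g, fun x hx hx' y y' hy hy' => ?_⟩
  let x₀ : P₀ := ⟨x, x.2, hx⟩
  rw [show y = ⟨χ₀ x₀, hHd ⟨x₀, rfl⟩⟩ from Subtype.ext hy,
    show y' = ⟨H ⟨χ₀ x₀, ⟨x₀, rfl⟩⟩, hHm _⟩ from Subtype.ext (hy'.trans (hHx x₀).symm)]
  exact hg ⟨χ₀ x₀, ⟨x₀, rfl⟩⟩

theorem exists_mem_normalizerIn_not_mem (c : Ctx F E p R) {U W : Subgroup Ω} (hUW : U < W)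
    (hW : W ≤ T) : ∃ y ∈ W, y ∈ normalizerIn T U ∧ y ∉ U := by
  haveI := c.finT
  obtain ⟨y, hy, hyN, hyU⟩ := exists_mem_normalizer_not_mem c.isPT hUW hW
  exact ⟨y, hy, ⟨hW hy, hyN⟩, hyU⟩

/-- Every map of the product system is tame. -/
theorem tame (c : Ctx F E p R) {P : Subgroup Ω} {φ : P →* Ω} (hφ : φ ∈ (dSys c).Hom P) (n : ℕ) :
    TameAt c n φ := by
  haveI := c.finT
  suffices H : ∀ k n, Nat.card T - n = k → ∀ (P : Subgroup Ω) (φ : P →* Ω),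
      φ ∈ (dSys c).Hom P → TameAt c n φ from H _ n rfl P φ hφ
  intro k
  induction k using Nat.strong_induction_on with
  | _ k ihk =>
  intro n hn P φ hφ
  have ih : TameAbove c n := fun m hm hmT P φ hφ => ihk (Nat.card T - m) (by omega) m rfl P φ hφ
  have hsys : ∀ {P : Subgroup Ω} {r : Ω}, P ≤ R → r ∈ R → TameAt c n (conjHom P r) := by
    intro P r hPR hr U' U'' U hU' hn' hU'P himg hU l χ χ' hχ hχ'
    have hU'T := hU'.1
    by_cases htop : U' = T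
    · have hU''T : U'' = T := Subgroup.eq_of_le_of_card_ge
        (himg ▸ img_le_T c ((cSys c.toSetup c.rs).conj_mem hPR hr) hU'T)
        (by rw [← himg, card_img ((cSys c.toSetup c.rs).conj_mem hPR hr) hU'P, htop])
      have hUT : U = T := hχ.eq_top htop
      have hrN : r ∈ normalizerIn R U := hUT.symm ▸ ⟨hr, c.conjT_mem hr⟩
      refine ⟨l.ι ⟨r, hrN⟩, fun x hx hx' y y' hy hy' => ?_⟩
      rw [← map_inv, ← map_mul, ← map_mul]
      refine congrArg l.ι (Subtype.ext ?_)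
      rw [hy', hχ'.2.2 hU''T]
      show r * (y : Ω) * r⁻¹ = r * (x : Ω) * r⁻¹
      rw [hy, hχ.2.2 htop]
    · obtain ⟨y, -, hyN, hyU⟩ := exists_mem_normalizerIn_not_mem c
        (lt_of_le_of_ne hU'T htop) le_rfl
      have himg' : img (conjHom R r) U' = U'' := by
        rw [← himg]
        ext v
        constructor
        · rintro ⟨x, hx, rfl⟩
          exact ⟨⟨x, hU'P hx⟩, hx, rfl⟩
        · rintro ⟨x, hx, rfl⟩
          exact ⟨⟨x, hPR x.2⟩, hx, rfl⟩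
      obtain ⟨g, hg⟩ := tame_of_extend c (hn'.symm ▸ ih) ((dSys c).conj_mem le_rfl hr) hU'
        (hU'T.trans c.tr) himg' hU l hχ hχ' ⟨y, c.tr hyN.1, hyN, hyU⟩
      exact ⟨g, fun x hx hx' y y' hy hy' => hg ⟨x, hPR x.2⟩ hx hx' y y' hy hy'⟩
  let X : FusionSystem R :=
    { Hom := fun P => {φ | φ ∈ (cSys c.toSetup c.rs).Hom P ∧ TameAt c n φ}
      le_of_mem := fun h => (cSys c.toSetup c.rs).le_of_mem h.1
      injective_of_mem := fun h => (cSys c.toSetup c.rs).injective_of_mem h.1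
      conj_mem := fun hP hg => ⟨(cSys c.toSetup c.rs).conj_mem hP hg, hsys hP hg⟩
      comp_mem := fun {P Q φ ψ} hφ hψ hm => by
        refine ⟨(cSys c.toSetup c.rs).comp_mem hφ.1 hψ.1 hm, ?_⟩
        intro U' U₂ U hU' hn' hU'P himg hU l χ χ' hχ hχ'
        set U₁ := img φ U' with hU₁
        have hU'N : U' ≤ normalizerIn R U' := le_normalizerIn (hU'.1.trans c.tr)
        have hU₁T : U₁ ≤ T := img_le_T c hφ.1 hU'.1
        have hU₁c : E.IsCentric U₁ := by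
          rw [hU₁, img_eq_range φ hU'P]
          exact isCentric_map c.toSetup hU' (restrict_mem hφ.1.1 hU'P)
        have hconj : (cSys c.toSetup c.rs).IsConj U₁ U :=
          CfsgLib.Alperin.IsConj.trans (CfsgLib.Alperin.IsConj.symm (isConj_img hφ.1 hU'P))
            (hχ.2.1 ▸ isConj_img (dSys_le_cSys c _ hχ.1) hU'N)
        obtain ⟨χ₁, hχ₁⟩ := exists_isChi c hU₁T hU hconj
        have hU₁Q : U₁ ≤ Q := by
          rintro _ ⟨x, -, rfl⟩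
          exact hm x
        obtain ⟨g₁, hg₁⟩ := hφ.2 U' U₁ U hU' hn' hU'P rfl hU l χ χ₁ hχ hχ₁
        obtain ⟨g₂, hg₂⟩ := hψ.2 U₁ U₂ U hU₁c ((card_img hφ.1 hU'P).trans hn') hU₁Q
          ((img_comp φ ψ hm U').symm.trans himg) hU l χ₁ χ' hχ₁ hχ'
        refine ⟨g₂ * g₁, fun x hx hx' y y' hy hy' => ?_⟩
        have hx₁ : φ x ∈ normalizerIn R U₁ :=
          ⟨hφ.1.2.2.1 x, apply_mem_normalizer_img φ hU'P hx.2⟩
        let y₁ : ↥(normalizerIn R U) := ⟨χ₁ ⟨φ x, hx₁⟩, hχ₁.apply_mem (hU₁T.trans c.tr) _⟩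
        rw [show g₂ * g₁ * l.ι y * (g₂ * g₁)⁻¹ = g₂ * (g₁ * l.ι y * g₁⁻¹) * g₂⁻¹ by group,
          hg₁ x hx hx₁ y y₁ hy rfl]
        exact hg₂ ⟨φ x, hm x⟩ hx₁ hx' y₁ y' rfl hy'
      inv_mem := fun {P φ} hφ => by
        obtain ⟨θ, hθ, hθx⟩ := (cSys c.toSetup c.rs).inv_mem hφ.1
        refine ⟨θ, ⟨hθ, ?_⟩, hθx⟩
        intro U' U₀ U hU' hn' hU'P himg hU l χ χ' hχ hχ'
        have hback : img φ U₀ = U' := by
          rw [← himg]
          ext v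
          constructor
          · rintro ⟨x, ⟨⟨_, z, rfl⟩, hw, hwx⟩, rfl⟩
            rw [hθx] at hwx
            rw [show x = z from Subtype.ext hwx.symm]
            exact hw
          · intro hv
            obtain ⟨z, rfl⟩ := hU'P hv
            exact ⟨z, ⟨⟨φ z, ⟨z, rfl⟩⟩, hv, hθx z⟩, rfl⟩
        have hU₀P : U₀ ≤ P := by
          rw [← himg]
          rintro _ ⟨⟨_, z, rfl⟩, -, rfl⟩
          rw [hθx]
          exact z.2
        have hU₀c : E.IsCentric U₀ := by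
          rw [← himg, img_eq_range θ hU'P]
          exact isCentric_map c.toSetup hU' (restrict_mem hθ.1 hU'P)
        obtain ⟨g, hg⟩ := hφ.2 U₀ U' U hU₀c (by rw [← himg, card_img hθ hU'P, hn']) hU₀P hback hU
          l χ' χ hχ' hχ
        refine ⟨g⁻¹, ?_⟩
        rintro ⟨_, z, rfl⟩ hx hx' y y' hy hy'
        have hzN : (z : Ω) ∈ normalizerIn R U₀ := hθx z ▸ hx'
        have := hg z hzN hx y' y (hy'.trans (congrArg χ' (Subtype.ext (hθx z)))) hy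
        rw [← this]
        group }
  refine (hφ.2 X ?_).2
  intro Q ψ hgen
  refine ⟨dSys_le_cSys c _ (dSys_gen c hgen), ?_⟩
  rcases hgen with ⟨hQ, r, hr, rfl⟩ | ⟨W, hW, hgW, lW, hWQ, hQT, hψ⟩
  · exact hsys hQ hr
  intro U' U'' U hU' hn' hU'Q himg hU l χ χ' hχ hχ'
  have hU'W : U' ≤ W := fun x hx => hQT ⟨hU'Q hx, hU'.1 hx⟩
  rcases eq_or_lt_of_le hU'W with rfl | hlt
  swap
  · obtain ⟨y, hyW, hyN, hyU⟩ := exists_mem_normalizerIn_not_mem c hlt hW.1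
    exact tame_of_extend c (hn'.symm ▸ ih)
      (dSys_gen c (Or.inr ⟨W, hW, hgW, lW, hWQ, hQT, hψ⟩)) hU' hU'Q himg hU l hχ hχ'
      ⟨y, hWQ hyW, hyN, hyU⟩
  -- `ψ` fixes `U'`
  have hWN : U' ≤ normalizerIn R U' := le_normalizerIn (hU'.1.trans c.tr)
  obtain ⟨hQN, hψN, gW, hgW'⟩ := id hψ
  have hU''eq : U'' = U' := by
    haveI := finite_of_le hU'.1
    rw [← himg]
    refine Subgroup.eq_of_le_of_card_ge ?_ (card_img hψ hWQ).ge
    rintro _ ⟨x, hx, rfl⟩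
    rw [lW.apply_eq_rho hQN hWN hgW' x hx]
    exact (lW.ρ gW _).2
  subst hU''eq
  have hχN := hχ.apply_mem (hU'.1.trans c.tr)
  -- compare the two choices
  obtain ⟨g₀, hg₀⟩ : ∃ g₀ : l.G, ∀ (x : ↥(normalizerIn R U'')) (y y' : ↥(normalizerIn R U)),
      (y : Ω) = χ x → (y' : Ω) = χ' x → g₀ * l.ι y * g₀⁻¹ = l.ι y' := by
    by_cases htop : U'' = T
    · refine ⟨1, fun x y y' hy hy' => ?_⟩
      rw [show y' = y from Subtype.ext (by rw [hy, hy', hχ.2.2 htop, hχ'.2.2 htop]), one_mul,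
        inv_one, mul_one]
    · obtain ⟨y, -, hyN, hyU⟩ := exists_mem_normalizerIn_not_mem c
        (lt_of_le_of_ne hU'.1 htop) le_rfl
      obtain ⟨g, hg⟩ := tame_of_extend c (hn'.symm ▸ ih)
        (incl_mem (dSys c) (normalizerIn_le R U'')) hU' hWN (img_subtype hWN) hU l hχ hχ'
        ⟨y, ⟨c.tr hyN.1, hyN.2⟩, hyN, hyU⟩
      exact ⟨g, fun x y y' hy hy' => hg x x.2 x.2 y y' hy hy'⟩
  -- transport the local system
  set κ : ↥(normalizerIn R U'') →* l.G := l.ι.comp (χ.codRestrict _ hχN) with hκdef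
  have hκ : Function.Injective κ := fun a b hab =>
    (dSys c).injective_of_mem hχ.1 (congrArg Subtype.val (l.inj hab))
  have hsub : lW.sys.IsSubsystemOf (kSys κ hκ) := by
    refine locSys_le c hU'.1 lW _ fun Q' hUQ' hQ'N b hb hco => ?_
    obtain ⟨j, hj, hjx⟩ := lW.exists_J_realizing c hQ'N hb hco
    rw [mem_autGroup_iff _ hQ'N]
    have hbF : b ∈ F.autGroup Q' := autGroup_mono lW.sys_le_F Q' hb
    obtain ⟨g, hg⟩ := exists_realizing_transport c hU' l hUQ'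
      (χ := χ.comp (Subgroup.inclusion hQ'N)) (restrict_mem (dSys_le_F c _ hχ.1) hQ'N)
      ((img_comp_inclusion χ hQ'N hUQ').trans hχ.2.1) (fun x => hχN _) hbF hco
      (fun x => lW.conj_mem_T hj (hjx x)) (lW.rhoJ j hj)
      (fun x => lW.apply_eq_rho (φ := Q'.subtype.comp b.toMonoidHom)
        (hm := fun x => hQ'N (b x).2) hQ'N hWN hjx _ x.2)
    exact ⟨hQ'N, fun x => hQ'N (b x).2, g, hg⟩
  obtain ⟨_, hψm, g₁, hg₁⟩ := hsub _ hψ
  refine ⟨g₀ * g₁, fun x hx hx' y y' hy hy' => ?_⟩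
  let y₁ : ↥(normalizerIn R U) := ⟨χ ⟨ψ x, hψm x⟩, hχN _⟩
  have h1 : g₁ * l.ι y * g₁⁻¹ = l.ι y₁ := by
    rw [show y = ⟨χ ⟨x, hx⟩, hχN _⟩ from Subtype.ext hy]
    exact hg₁ x
  rw [show g₀ * g₁ * l.ι y * (g₀ * g₁)⁻¹ = g₀ * (g₁ * l.ι y * g₁⁻¹) * g₀⁻¹ by group, h1]
  exact hg₀ ⟨ψ x, hx'⟩ y₁ y' rfl hy'

/-- Maps of the product system fixing a well placed centric subgroup are local there. -/
theorem mem_locSys (c : Ctx F E p R) {U : Subgroup Ω} (hU : E.IsCentric U) (hgood : Good E R U)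
    (l : Loc F E p R U) {Q : Subgroup Ω} (hUQ : U ≤ Q) (hQN : Q ≤ normalizerIn R U) {φ : Q →* Ω}
    (hφ : φ ∈ (dSys c).Hom Q) (hfix : img φ U = U) : φ ∈ l.sys.Hom Q := by
  have hUR : U ≤ R := hU.1.trans c.tr
  obtain ⟨g, hg⟩ := tame c hφ (Nat.card U) U U U hU rfl hUQ hfix hgood l _ _
    (isChi_subtype c hUR) (isChi_subtype c hUR)
  have hm : ∀ x : Q, φ x ∈ normalizerIn R U := fun x => by
    have h1 := apply_mem_normalizer_img φ hUQ (hQN x.2).2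
    rw [hfix] at h1
    exact ⟨((dSys c).le_of_mem hφ).2 x, h1⟩
  exact ⟨hQN, hm, g, fun x => hg x (hQN x.2) (hm x) _ _ rfl rfl⟩

end CfsgLib.FusionProduct
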