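import Cfsg.Agent.Lib.Alperin.LeastNormal
import Cfsg.Agent.Lib.FusionSub.CoreModExt
import Cfsg.Agent.Lib.FusionSub.Puig
import Cfsg.Agent.Lib.FusionExamples.CentricExtension
import Cfsg.Agent.Lib.FusionBasics.Criterion.Tools
import Cfsg.Agent.Lib.FusionExamples.Hyperfocal
import Cfsg.Prelude.Def_FusionComponents

/-!
Basic tools for the product of a normal subsystem and a subgroup.
-/

set_option autoImplicit false
set_option linter.style.haveILetI false
set_option linter.unusedSectionVars false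

namespace CfsgLib.FusionProduct

open Cfsg Cfsg.FusionSystem CfsgLib.Alperin CfsgLib.FusionSub

section Groups

variable {p : ℕ} [Fact p.Prime]

/-- An element of order prime to `p` with a `p`-power in `N` lies in `N`. -/
theorem mem_of_pow_prime {G : Type*} [Group G] {N : Subgroup G} {x : G} {k : ℕ}
    (hx : (orderOf x).Coprime p) (h : x ^ p ^ k ∈ N) : x ∈ N := by
  obtain ⟨j, hj⟩ := exists_pow_eq_self_of_coprime (x := x) (n := p ^ k) (hx.symm.pow_left k)
  rw [← hj]
  exact N.pow_mem h j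

theorem mul_pow_mem {G : Type*} [Group G] {N : Subgroup G} {c a : G} (hc : c ∈ N)
    (ha : ∀ x ∈ N, a * x * a⁻¹ ∈ N) : ∀ i : ℕ, (c * a) ^ i * (a ^ i)⁻¹ ∈ N := by
  intro i
  induction i with
  | zero => simp
  | succ i ih =>
    have h : (c * a) ^ (i + 1) * (a ^ (i + 1))⁻¹ =
        c * (a * ((c * a) ^ i * (a ^ i)⁻¹) * a⁻¹) := by
      simp only [pow_succ', mul_inv_rev, mul_assoc]
    rw [h]
    exact N.mul_mem hc (ha _ ih)

/-- `c a` of order prime to `p` with `c ∈ N`, `a` of `p`-power order normalizing `N`, lies in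
`N`. -/
theorem mem_of_mul_coprime {G : Type*} [Group G] {N : Subgroup G} {c a : G} {k : ℕ} (hc : c ∈ N)
    (ha : ∀ x ∈ N, a * x * a⁻¹ ∈ N) (hak : a ^ p ^ k ∈ N) (h : (orderOf (c * a)).Coprime p) :
    c * a ∈ N := by
  refine mem_of_pow_prime (k := k) h ?_
  have := N.mul_mem (mul_pow_mem hc ha (p ^ k)) hak
  rwa [inv_mul_cancel_right] at this

theorem exists_pow_eq_one {G : Type*} [Group G] {H : Subgroup G} (hH : IsPGroup p H) {x : G}
    (hx : x ∈ H) : ∃ k : ℕ, x ^ p ^ k = 1 := by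
  obtain ⟨k, hk⟩ := hH ⟨x, hx⟩
  exact ⟨k, congrArg Subtype.val hk⟩

end Groups

variable {Ω : Type*} [Group Ω] {S T : Subgroup Ω}

/-- `φ` moves every element of its source by an element of `T`. -/
def ModT (T : Subgroup Ω) {P : Subgroup Ω} (φ : P →* Ω) : Prop :=
  ∀ x : P, (x : Ω)⁻¹ * φ x ∈ T

/-- The standing hypotheses: `F` saturated over a finite `p`-group, `E` normal in `F`. -/
structure Setup (F : FusionSystem S) (E : FusionSystem T) (p : ℕ) : Prop where
  isP : IsPGroup p S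
  sat : F.IsSaturated p
  nrm : E.IsNormalIn F p

variable {F : FusionSystem S} {E : FusionSystem T} {p : ℕ} [Fact p.Prime] [Finite S]

/-- A map of the system pulls elements of a strongly closed subgroup back into it. -/
theorem mem_of_apply_mem (hT : F.StronglyClosed T) {P : Subgroup Ω} {φ : P →* Ω}
    (hφ : φ ∈ F.Hom P) (x : P) (hx : φ x ∈ T) : (x : Ω) ∈ T := by
  obtain ⟨θ, hθ, -, hθx, -⟩ := exists_inverse hφ rfl
  rw [← hθx x ⟨x, rfl⟩]
  exact stronglyClosed_apply hT hθ _ hx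

namespace Setup

variable (h : Setup F E p)
include h

theorem esat : E.IsSaturated p := h.nrm.1.1
theorem inv : E.IsInvariantIn F := h.nrm.1.2.2
theorem sub : E.IsSubsystemOf F := h.inv.1
theorem closed : F.StronglyClosed T := h.inv.2.1
theorem le : T ≤ S := h.closed.1
theorem finT : Finite T := finite_of_le h.le
theorem isPT : IsPGroup p T := isPGroup_of_le h.isP h.le

theorem conj_mem {s t : Ω} (hs : s ∈ S) (ht : t ∈ T) : s * t * s⁻¹ ∈ T :=
  stronglyClosed_conj h.closed hs ht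

theorem conj_mem' {s t : Ω} (hs : s ∈ S) (ht : t ∈ T) : s⁻¹ * t * s ∈ T := by
  have := h.conj_mem (S.inv_mem hs) ht
  rwa [inv_inv] at this

/-- Conjugation by an element of `S` carries maps of `E` to maps of `E`. -/
theorem conj_hom {P : Subgroup Ω} {e : P →* Ω} (he : e ∈ E.Hom P) {s : Ω} (hs : s ∈ S)
    {P' : Subgroup Ω} {χ : P' →* Ω} (hP : ∀ x : P', s⁻¹ * (x : Ω) * s ∈ P)
    (hx : ∀ x : P', χ x = s * e ⟨s⁻¹ * (x : Ω) * s, hP x⟩ * s⁻¹) : χ ∈ E.Hom P' := by
  have hPT : P ≤ T := dom_le he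
  set α := conjAut T s (stronglyClosed_le_normalizer h.closed hs) with hαdef
  have hα : α ∈ F.autGroup T := autInducedBy_le_autGroup F h.le (conjAut_mem hs _)
  obtain ⟨χ₀, hχ₀, hχ₀x⟩ := h.inv.2.2.1 P hPT e he α hα
  have hle : P' ≤ (P.subgroupOf T).map (T.subtype.comp α.toMonoidHom) := fun x hxP =>
    ⟨⟨s⁻¹ * x * s, hPT (hP ⟨x, hxP⟩)⟩, hP ⟨x, hxP⟩, show s * (s⁻¹ * x * s) * s⁻¹ = x by group⟩
  refine restrict_mem_apply hχ₀ hle fun x => ?_
  rw [hx]
  have h1 : (⟨(x : Ω), hle x.2⟩ : ((P.subgroupOf T).map (T.subtype.comp α.toMonoidHom))) =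
      ⟨(α ⟨s⁻¹ * (x : Ω) * s, hPT (hP x)⟩ : T), ⟨_, hP x, rfl⟩⟩ := by
    refine Subtype.ext ?_
    show (x : Ω) = s * (s⁻¹ * (x : Ω) * s) * s⁻¹
    group
  rw [h1]
  exact (hχ₀x ⟨_, hP x⟩ (apply_mem he _) _).symm

/-- A map of `F` carries automorphisms in `E` to automorphisms in `E`. -/
theorem aut_transport {P Q : Subgroup Ω} (hPT : P ≤ T) {η : P →* Ω} (hη : η ∈ F.Hom P)
    (hr : η.range = Q) {a : MulAut P} (ha : a ∈ E.autGroup P) {a' : MulAut Q}
    (hx : ∀ (x : P) (hm : η x ∈ Q), ((a' ⟨η x, hm⟩ : Q) : Ω) = η (a x)) :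
    a' ∈ E.autGroup Q := by
  haveI := h.finT
  have h1 := congr_mem_autGroup h.inv.2.2.1 (h.inv.2.2.2 P hPT η hη)
    (F.injective_of_mem hη) hr ha
  set e := isoOfHom η (F.injective_of_mem hη) hr
  suffices a' = MulAut.congr e a by rw [this]; exact h1
  refine MulEquiv.ext fun y => ?_
  obtain ⟨x, rfl⟩ := e.surjective y
  rw [MulAut.congr_apply]
  simp only [MulEquiv.trans_apply, MulEquiv.symm_apply_apply]
  exact Subtype.ext (hx x (e x).2)

/-- A coprime automorphism of `W` restricting on a centric normal subgroup to a map of `E` lies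
in `E`. -/
theorem mem_aut_of_restrict {U W : Subgroup Ω} (hU : E.IsCentric U) (hUW : U ≤ W)
    (hW : W ≤ normalizerIn T U) {b : MulAut W} (hb : b ∈ F.autGroup W)
    (hco : (orderOf b).Coprime p) (hbU : ∀ x : W, (x : Ω) ∈ U → ((b x : W) : Ω) ∈ U)
    (hres : (W.subtype.comp b.toMonoidHom).comp (Subgroup.inclusion hUW) ∈ E.Hom U) :
    b ∈ E.autGroup W := by
  haveI := h.finT
  have hWT : W ≤ T := hW.trans (normalizerIn_le T U)
  haveI := finite_of_le hWT
  set e := (W.subtype.comp b.toMonoidHom).comp (Subgroup.inclusion hUW) with hedef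
  have he : ∀ x : U, e x = ((b ⟨x, hUW x.2⟩ : W) : Ω) := fun x => rfl
  haveI := finite_of_le hU.1
  have hr : e.range = U :=
    Subgroup.eq_of_le_of_card_ge (by rintro _ ⟨x, rfl⟩; exact hbU _ x.2)
      (card_range_eq (E.injective_of_mem hres)).ge
  obtain ⟨χ, hχ, hχx⟩ := (receptive_of_fullyCentralized h.isPT h.esat
    (CfsgLib.FusionExamples.isFullyCentralized_of_isCentric hU)).2 U e hres hr
  have hext : W ≤ extender T U e := fun w hw => mem_extender_iff.mpr
    ⟨hWT hw, (hW hw).2, ((b ⟨w, hw⟩ : W) : Ω), hWT (b _).2, fun x hx => by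
      rw [he, he]
      refine Eq.trans (congrArg (fun v : W => ((b v : W) : Ω))
        (Subtype.ext rfl : _ = (⟨w, hw⟩ : W) * ⟨x, hUW x.2⟩ * (⟨w, hw⟩ : W)⁻¹)) ?_
      simp only [map_mul, map_inv, Subgroup.coe_mul, Subgroup.coe_inv]⟩
  set χW := χ.comp (Subgroup.inclusion hext) with hχWdef
  have hχW : χW ∈ E.Hom W := restrict_mem hχ hext
  have hagree : ∀ x : W, (x : Ω) ∈ U → χW x = ((b x : W) : Ω) := fun x hx => by
    show χ ⟨(x : Ω), hext x.2⟩ = _
    rw [hχx _ hx _, he]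
  have himg : ∀ w : W, χW w ∈ W := by
    intro w
    have hc : (χW w)⁻¹ * ((b w : W) : Ω) ∈ U := by
      refine hU.2 U (isConj_refl E hU.1)
        ⟨T.mul_mem (T.inv_mem (apply_mem hχW w)) (hWT (b w).2), fun u hu => ?_⟩
      obtain ⟨u0, hu0⟩ := hr.ge hu
      have hwu : ((w * ⟨u0, hUW u0.2⟩ * w⁻¹ : W) : Ω) ∈ U := mem_normalizer_conj (hW w.2).2 u0.2
      have h3 := hagree _ hwu
      rw [map_mul, map_mul, map_inv, map_mul, map_mul, map_inv, hagree ⟨u0, hUW u0.2⟩ u0.2,
        ← he u0, hu0] at h3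
      simp only [Subgroup.coe_mul, Subgroup.coe_inv] at h3
      rw [← he u0, hu0] at h3
      calc u * ((χW w)⁻¹ * ((b w : W) : Ω)) =
          (χW w)⁻¹ * (χW w * u * (χW w)⁻¹) * ((b w : W) : Ω) := by group
        _ = (χW w)⁻¹ * (((b w : W) : Ω) * u * ((b w : W) : Ω)⁻¹) * ((b w : W) : Ω) := by rw [h3]
        _ = (χW w)⁻¹ * ((b w : W) : Ω) * u := by group
    have := W.mul_mem (b w).2 (W.inv_mem (hUW hc))
    simpa [mul_assoc] using this
  obtain ⟨c, hc, hcx⟩ := exists_aut_of_hom' E hχW himg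
  have hfix : ∀ x : W, (x : Ω) ∈ U → (c⁻¹ * b) x = x := fun x hx => by
    have h1 : c x = b x := Subtype.ext ((hcx x).trans (hagree x hx))
    rw [MulAut.mul_apply, ← h1, MulAut.inv_apply_self]
  obtain ⟨k, hk⟩ := exists_pow_dvd_of_fixes_centric h.isPT hUW hW
    (hU.2 U (isConj_refl E hU.1)) hfix
  have hcF : c ∈ F.autGroup W := autGroup_mono h.sub W hc
  have hmem := mem_of_mul_coprime (N := E.autGroup W) (c := c) (a := c⁻¹ * b) hc
    (fun x hx => conj_mem_autGroup_of_isInvariantIn h.inv hWT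
      (mul_mem (inv_mem hcF) hb) hx) (hk ▸ one_mem _) (by rwa [mul_inv_cancel_left])
  rwa [mul_inv_cancel_left] at hmem

/-- Images of `p`-subgroup elements are moved modulo `T` as their preimages. -/
theorem modT_transport {P Q : Subgroup Ω} {η : P →* Ω} (hη : η ∈ F.Hom P) (hr : η.range = Q)
    {b : MulAut P} (hb : ModT T (P.subtype.comp b.toMonoidHom)) {b' : MulAut Q}
    (hx : ∀ (x : P) (hm : η x ∈ Q), ((b' ⟨η x, hm⟩ : Q) : Ω) = η (b x)) :
    ModT T (Q.subtype.comp b'.toMonoidHom) := by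
  intro y
  obtain ⟨x, hxy⟩ := hr.ge y.2
  have hy : y = ⟨η x, hr.le ⟨x, rfl⟩⟩ := Subtype.ext hxy.symm
  show (y : Ω)⁻¹ * ((b' y : Q) : Ω) ∈ T
  rw [hy, hx]
  show (η x)⁻¹ * η (b x) ∈ T
  rw [← map_inv, ← map_mul]
  exact stronglyClosed_apply h.closed hη _ (hb x)

end Setup

/-- Coprime automorphism trivial on the factors of a series: trivial modulo the lower term. -/
theorem inv_mul_mem_of_series {Q : Type*} [Group Q] [Finite Q] (hQ : IsPGroup p Q) {M : Subgroup Q}
    [M.Normal] {b : MulAut Q} (hco : (orderOf b).Coprime p) (hM : ∀ z ∈ M, b z ∈ M) {x : Q}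
    (h : (x⁻¹ * b x)⁻¹ * b (x⁻¹ * b x) ∈ M) : x⁻¹ * b x ∈ M := by
  set z := x⁻¹ * b x with hz
  let q := QuotientGroup.mk' M
  have hstep : ∀ y y' : Q, q y = q y' → q (b y) = q (b y') := by
    intro y y' hy
    have h1 : y⁻¹ * y' ∈ M := (QuotientGroup.eq (s := M)).mp hy
    refine (QuotientGroup.eq (s := M)).mpr ?_
    have := hM _ h1
    rwa [map_mul, map_inv] at this
  have hbz : q (b z) = q z := ((QuotientGroup.eq (s := M)).mpr h).symm
  have hit : ∀ i : ℕ, q ((b ^ i) x) = q (x * z ^ i) := by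
    intro i
    induction i with
    | zero => simp
    | succ i ih =>
      rw [pow_succ', MulAut.mul_apply, hstep _ _ ih]
      have hbx : b x = x * z := by rw [hz, mul_inv_cancel_left]
      rw [map_mul b, hbx, map_pow b, map_mul q, map_mul q x, map_pow q, hbz, map_mul q x,
        map_pow q, pow_succ']
      simp only [mul_assoc]
  have h1 : (q z) ^ orderOf b = 1 := by
    have := hit (orderOf b)
    rw [pow_orderOf_eq_one, MulAut.one_apply, map_mul, map_pow] at this
    exact mul_left_cancel (a := q x) (by rw [mul_one]; exact this.symm)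
  obtain ⟨k, hk⟩ := hQ z
  have h2 : (q z) ^ p ^ k = 1 := by rw [← map_pow, hk, map_one]
  have h3 : orderOf (q z) = 1 := Nat.eq_one_of_dvd_coprimes (hco.pow_right k)
    (orderOf_dvd_of_pow_eq_one h1) (orderOf_dvd_of_pow_eq_one h2)
  exact (QuotientGroup.eq_one_iff z).mp (orderOf_eq_one_iff.mp h3)

end CfsgLib.FusionProduct
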